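import Cfsg.Agent.Lib.H39.DA2

/-!
S3262, piece Q7a: doubly transitive groups with two-point stabilizers of order two.
-/

set_option autoImplicit false

open MulAction

universe u v

namespace H39.DA

namespace Q7a

variable {C : Type u} {X : Type v} [Group C] [Finite C] [MulAction C X] [Finite X]

omit [Finite C] [Finite X] in
theorem mem_St {a b : X} {g : C} : g ∈ St C a b ↔ g • a = a ∧ g • b = b := Iff.rfl

omit [Finite C] in
/-- counting with pairs -/
theorem pair_count (M : Subgroup C) (Y : Set X) {a b : X} (ha : a ∈ Y) (hb : b ∈ Y) (hab : a ≠ b)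
    (hinv : ∀ g ∈ M, ∀ x ∈ Y, g • x ∈ Y)
    (htr : ∀ c ∈ Y, ∀ d ∈ Y, c ≠ d → ∃ g ∈ M, g • a = c ∧ g • b = d) :
    Nat.card M = Nat.card Y * (Nat.card Y - 1) * Nat.card (M ⊓ St C a b : Subgroup C) := by
  classical
  have h1 := Subgroup.card_mul_index (stabilizer M (a, b))
  rw [MulAction.index_stabilizer] at h1
  have h2 : (orbit M (a, b)) = (fun p : Y × Y => ((p.1 : X), (p.2 : X))) '' {p : Y × Y | p.1 ≠ p.2} := by
    ext p
    constructor
    · rintro ⟨g, rfl⟩
      refine ⟨(⟨(g : C) • a, hinv g g.2 a ha⟩, ⟨(g : C) • b, hinv g g.2 b hb⟩), ?_, rfl⟩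
      intro hh
      have h3 : (g : C) • a = (g : C) • b := congrArg Subtype.val hh
      exact hab (smul_left_cancel _ h3)
    · rintro ⟨⟨c, d⟩, hcd, rfl⟩
      have hcd' : (c : X) ≠ d := fun hh => hcd (Subtype.ext hh)
      obtain ⟨g, hg, h3, h4⟩ := htr c c.2 d d.2 hcd'
      exact ⟨⟨g, hg⟩, Prod.ext h3 h4⟩
  have h3 : (orbit M (a, b)).ncard = Nat.card Y * (Nat.card Y - 1) := by
    rw [h2, Set.ncard_image_of_injective]
    · have : Fintype Y := Fintype.ofFinite Y
      have h4 : {p : Y × Y | p.1 ≠ p.2} = ((Finset.univ : Finset Y).offDiag : Set (Y × Y)) := by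
        ext p
        simp
      rw [h4, Set.ncard_coe_finset, Finset.offDiag_card, Finset.card_univ, Nat.card_eq_fintype_card,
        Nat.mul_sub, mul_one]
    · rintro ⟨c, d⟩ ⟨c', d'⟩ hh
      have h5 : (c : X) = c' := congrArg Prod.fst hh
      have h6 : (d : X) = d' := congrArg Prod.snd hh
      exact Prod.ext (Subtype.ext h5) (Subtype.ext h6)
  have h4 : Nat.card (stabilizer M (a, b)) = Nat.card (M ⊓ St C a b : Subgroup C) := by
    refine Nat.card_congr ⟨fun g => ⟨(g : M), (g : M).2, ?_⟩, fun g => ⟨⟨g, g.2.1⟩, ?_⟩, fun g => rfl, fun g => rfl⟩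
    · have := g.2
      rw [mem_stabilizer_iff] at this
      exact mem_St.mpr ⟨congrArg Prod.fst this, congrArg Prod.snd this⟩
    · have := mem_St.mp g.2.2
      rw [mem_stabilizer_iff]
      exact Prod.ext this.1 this.2
  rw [h3, h4] at h1
  rw [← h1, mul_comm]

omit [Finite C] [Finite X] in
theorem st_two (h : T2 C X) {c d : X} (hcd : c ≠ d) {v g : C} (hv : v ∈ St C c d) (hv1 : v ≠ 1)
    (hg : g ∈ St C c d) : g = 1 ∨ g = v := by
  by_contra hcon
  push Not at hcon
  have h2 := h.st c d hcd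
  rw [Nat.card_eq_two_iff' (1 : St C c d)] at h2
  obtain ⟨y, -, hy⟩ := h2
  have e1 := hy ⟨g, hg⟩ (fun hh => hcon.1 (congrArg Subtype.val hh))
  have e2 := hy ⟨v, hv⟩ (fun hh => hv1 (congrArg Subtype.val hh))
  exact hcon.2 (congrArg Subtype.val (e1.trans e2.symm))

omit [Finite C] [Finite X] in
theorem sq_one (h : T2 C X) {c d : X} (hcd : c ≠ d) {v : C} (hv : v ∈ St C c d) : v * v = 1 := by
  have h1 : (⟨v, hv⟩ : St C c d) ^ Nat.card (St C c d) = 1 := pow_card_eq_one'
  rw [h.st c d hcd] at h1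
  have h2 : v ^ 2 = 1 := congrArg Subtype.val h1
  rwa [pow_two] at h2

omit [Finite C] [Finite X] in
theorem conj_mem {c d c' d' : X} {x v : C} (hv : v ∈ St C c d) (h1 : x • c = c') (h2 : x • d = d') :
    x * v * x⁻¹ ∈ St C c' d' := by
  rw [mem_St] at hv ⊢
  subst h1 h2
  constructor
  · rw [mul_smul, mul_smul, inv_smul_smul, hv.1]
  · rw [mul_smul, mul_smul, inv_smul_smul, hv.2]

omit [Finite C] [Finite X] in
theorem witt (h : T2 C X) {v : C} (hv1 : v ≠ 1) {c d c' d' : X} (hcd : c ≠ d) (hcd' : c' ≠ d')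
    (hc : v • c = c) (hd : v • d = d) (hc' : v • c' = c') (hd' : v • d' = d') :
    ∃ g ∈ Subgroup.centralizer ({v} : Set C), g • c = c' ∧ g • d = d' := by
  obtain ⟨g, g1, g2⟩ := h.tr c d c' d' hcd hcd'
  refine ⟨g, ?_, g1, g2⟩
  have h1 : g * v * g⁻¹ ∈ St C c' d' := conj_mem (mem_St.mpr ⟨hc, hd⟩) g1 g2
  rcases st_two h hcd' (mem_St.mpr ⟨hc', hd'⟩) hv1 h1 with h2 | h2
  · exfalso
    apply hv1
    have : g * v * g⁻¹ = 1 := h2
    rw [mul_inv_eq_one] at this
    exact mul_eq_left.mp this
  · rw [Subgroup.mem_centralizer_singleton_iff]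
    exact (mul_inv_eq_iff_eq_mul.mp h2)

omit [Finite C] [Finite X] in
theorem class_card (v : C) : Nat.card {g : C // IsConj v g} * Nat.card (Subgroup.centralizer ({v} : Set C)) = Nat.card C := by
  have h1 := Subgroup.card_mul_index (stabilizer (ConjAct C) v)
  rw [MulAction.index_stabilizer] at h1
  have h2 : Nat.card (ConjAct C) = Nat.card C := Nat.card_congr ConjAct.ofConjAct.toEquiv
  have h3 : orbit (ConjAct C) v = {g : C | IsConj v g} := by
    ext g
    rw [ConjAct.mem_orbit_conjAct, Set.mem_ofPred_eq]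
    exact isConj_comm
  rw [h2, h3] at h1
  rw [Subgroup.nat_card_centralizer_nat_card_stabilizer, ← h1, mul_comm]
  rfl

end Q7a

open Q7a

theorem t2_main {C : Type u} {X : Type v} [Group C] [Finite C] [MulAction C X] [Finite X] (h : T2 C X) {a b : X} (hab : a ≠ b)
    {v : C} (hv : v ∈ St C a b) (hv1 : v ≠ 1) :
    let f := Nat.card X
    let m := fx C X v
    Inv v ∧ 2 ≤ m ∧ m < f ∧ Nat.card C = 2 * (f * (f - 1)) ∧ Nat.card (Subgroup.centralizer ({v} : Set C)) = 2 * (m * (m - 1)) ∧
    (∀ g : C, g ≠ 1 → (∃ c d : X, c ≠ d ∧ g • c = c ∧ g • d = d) → IsConj v g) ∧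
    f - m = m * (m - 1) * Nat.card {g : C // IsConj v g ∧ g • a = b ∧ g • b = a} ∧
    Sh (CB C X v) (Fx C (Ω := X) ({v} : Set C)) ∧
    (∀ (g : C) (hg : g ∈ Subgroup.centralizer ({v} : Set C)), cb X hg = 1 ↔ (g = 1 ∨ g = v)) ∧
    (∃ p q : C, p ≠ q ∧ p • a = b ∧ p • b = a ∧ q • a = b ∧ q • b = a ∧ q = p * v ∧ IsConj v p ∧ q * q = 1 ∧
      ∀ g : C, g • a = b → g • b = a → g = p ∨ g = q) := by
  classical
  intro f m
  have hva : v • a = a := (mem_St.mp hv).1
  have hvb : v • b = b := (mem_St.mp hv).2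
  have hFx : ∀ x : X, x ∈ Fx C (Ω := X) ({v} : Set C) ↔ v • x = x := by
    intro x
    constructor
    · intro hx
      exact hx v rfl
    · intro hx s hs
      rw [Set.mem_singleton_iff] at hs
      rw [hs, hx]
  have hmF : Nat.card (Fx C (Ω := X) ({v} : Set C)) = m := by
    refine Nat.card_congr (Equiv.subtypeEquivRight fun x => ?_)
    exact hFx x
  have hvv : v * v = 1 := sq_one h hab hv
  -- (2)
  have hm2 : 2 ≤ m := by
    have h1 : Nontrivial {x : X // v • x = x} := ⟨⟨a, hva⟩, ⟨b, hvb⟩, fun hh => hab (congrArg Subtype.val hh)⟩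
    exact Finite.one_lt_card_iff_nontrivial.mpr h1
  have hmf : m < f := by
    obtain ⟨x, hx⟩ : ∃ x : X, v • x ≠ x := by
      by_contra hcon
      push Not at hcon
      exact hv1 (h.faith v hcon)
    exact Finite.card_subtype_lt (p := fun x : X => v • x = x) hx
  -- orders
  have hcardC : Nat.card C = 2 * (f * (f - 1)) := by
    have h1 := pair_count (⊤ : Subgroup C) (Set.univ : Set X) (Set.mem_univ a) (Set.mem_univ b) hab
      (fun _ _ _ _ => Set.mem_univ _) (fun c _ d _ hcd => by
        obtain ⟨g, h1, h2⟩ := h.tr a b c d hab hcd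
        exact ⟨g, Subgroup.mem_top g, h1, h2⟩)
    rw [Subgroup.card_top, top_inf_eq, h.st a b hab, Nat.card_univ] at h1
    rw [h1, mul_comm]
  have hcardv : Nat.card (Subgroup.centralizer ({v} : Set C)) = 2 * (m * (m - 1)) := by
    have h1 := pair_count (Subgroup.centralizer ({v} : Set C)) (Fx C (Ω := X) ({v} : Set C)) ((hFx a).mpr hva)
      ((hFx b).mpr hvb) hab cent_inv (fun c hc d hd hcd => witt h hv1 hab hcd hva hvb ((hFx c).mp hc) ((hFx d).mp hd))
    have h2 : Subgroup.centralizer ({v} : Set C) ⊓ St C a b = St C a b := by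
      rw [inf_eq_right]
      intro g hg
      rw [Subgroup.mem_centralizer_singleton_iff]
      rcases st_two h hab hv hv1 hg with rfl | rfl
      · simp
      · rfl
    rw [h2, h.st a b hab, hmF] at h1
    rw [h1, mul_comm]
  have hconj : ∀ g : C, g ≠ 1 → (∃ c d : X, c ≠ d ∧ g • c = c ∧ g • d = d) → IsConj v g := by
    rintro g hg1 ⟨c, d, hcd, hc, hd⟩
    obtain ⟨x, x1, x2⟩ := h.tr a b c d hab hcd
    have h1 : x * v * x⁻¹ ∈ St C c d := conj_mem hv x1 x2
    rcases st_two h hcd (mem_St.mpr ⟨hc, hd⟩) hg1 h1 with h2 | h2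
    · exfalso
      apply hv1
      rw [mul_inv_eq_one] at h2
      exact mul_eq_left.mp h2
    · exact isConj_iff.mpr ⟨x, h2⟩
  -- the counting
  have hcount : f - m = m * (m - 1) * Nat.card {g : C // IsConj v g ∧ g • a = b ∧ g • b = a} := by
    have : Fintype X := Fintype.ofFinite X
    have : Fintype C := Fintype.ofFinite C
    set δ := Nat.card {g : C // IsConj v g ∧ g • a = b ∧ g • b = a} with hδ
    have e1 : (Finset.univ.filter (fun g : C => IsConj v g)).card * (f - m)
        = (Finset.univ : Finset X).offDiag.card * δ := by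
      refine Finset.card_mul_eq_card_mul (fun (g : C) (p : X × X) => g • p.1 = p.2 ∧ g • p.2 = p.1) ?_ ?_
      · intro g hg
        rw [Finset.mem_filter] at hg
        obtain ⟨x, hx⟩ := isConj_iff.mp hg.2
        have hg2 : ∀ y : X, g • g • y = y := by
          intro y
          rw [← mul_smul, ← hx]
          have : x * v * x⁻¹ * (x * v * x⁻¹) = 1 := by
            calc x * v * x⁻¹ * (x * v * x⁻¹) = x * (v * v) * x⁻¹ := by group
              _ = 1 := by rw [hvv, mul_one, mul_inv_cancel]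
          rw [this, one_smul]
        have h1 : Finset.bipartiteAbove (fun (g : C) (p : X × X) => g • p.1 = p.2 ∧ g • p.2 = p.1)
            (Finset.univ : Finset X).offDiag g = (Finset.univ.filter (fun y : X => ¬ g • y = y)).image (fun y => (y, g • y)) := by
          ext p
          rw [Finset.mem_bipartiteAbove, Finset.mem_offDiag, Finset.mem_image]
          constructor
          · rintro ⟨⟨-, -, h3⟩, h4, h5⟩
            refine ⟨p.1, ?_, Prod.ext rfl h4⟩
            rw [Finset.mem_filter]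
            exact ⟨Finset.mem_univ _, fun hh => h3 (hh.symm.trans h4)⟩
          · rintro ⟨y, hy, rfl⟩
            rw [Finset.mem_filter] at hy
            exact ⟨⟨Finset.mem_univ _, Finset.mem_univ _, fun hh => hy.2 hh.symm⟩, rfl, hg2 y⟩
        rw [h1, Finset.card_image_of_injective _ (fun c d hcd => congrArg Prod.fst hcd), Finset.filter_not,
          Finset.card_sdiff_of_subset (Finset.filter_subset _ _), Finset.card_univ]
        have h2 : (Finset.univ.filter (fun y : X => g • y = y)).card = m := by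
          rw [← Fintype.card_subtype, ← Nat.card_eq_fintype_card]
          refine Nat.card_congr ⟨fun y => ⟨x⁻¹ • (y : X), ?_⟩, fun y => ⟨x • (y : X), ?_⟩, fun y => Subtype.ext (smul_inv_smul _ _),
            fun y => Subtype.ext (inv_smul_smul _ _)⟩
          · have hy : (x * v * x⁻¹) • (y : X) = y := by
              rw [hx]
              exact y.2
            rw [mul_smul, mul_smul, ← eq_inv_smul_iff] at hy
            exact hy
          · have hy : v • (y : X) = y := y.2
            rw [← hx, mul_smul, mul_smul, inv_smul_smul, hy]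
        rw [h2]
        show Fintype.card X - m = Nat.card X - m
        rw [Nat.card_eq_fintype_card]
      · intro p hp
        rw [Finset.mem_offDiag] at hp
        obtain ⟨y, hy1, hy2⟩ := h.tr a b p.1 p.2 hab hp.2.2
        have h1 : Finset.bipartiteBelow (fun (g : C) (p : X × X) => g • p.1 = p.2 ∧ g • p.2 = p.1)
            (Finset.univ.filter (fun g : C => IsConj v g)) p
            = Finset.univ.filter (fun g : C => IsConj v g ∧ g • p.1 = p.2 ∧ g • p.2 = p.1) := by
          ext g
          rw [Finset.mem_bipartiteBelow, Finset.mem_filter, Finset.mem_filter]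
          simp
        rw [h1, ← Fintype.card_subtype, ← Nat.card_eq_fintype_card, hδ]
        refine Nat.card_congr ⟨fun g => ⟨y⁻¹ * (g : C) * y, ?_, ?_, ?_⟩, fun g => ⟨y * (g : C) * y⁻¹, ?_, ?_, ?_⟩,
          fun g => Subtype.ext ?_, fun g => Subtype.ext ?_⟩
        · refine g.2.1.trans (isConj_iff.mpr ⟨y⁻¹, by group⟩)
        · rw [mul_smul, mul_smul, hy1, g.2.2.1, inv_smul_eq_iff, hy2]
        · rw [mul_smul, mul_smul, hy2, g.2.2.2, inv_smul_eq_iff, hy1]
        · refine g.2.1.trans (isConj_iff.mpr ⟨y, rfl⟩)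
        · rw [← hy1, ← hy2, mul_smul, mul_smul, inv_smul_smul, g.2.2.1]
        · rw [← hy1, ← hy2, mul_smul, mul_smul, inv_smul_smul, g.2.2.2]
        · show y * (y⁻¹ * (g : C) * y) * y⁻¹ = g
          group
        · show y⁻¹ * (y * (g : C) * y⁻¹) * y = g
          group
    have e2 : (Finset.univ.filter (fun g : C => IsConj v g)).card = Nat.card {g : C // IsConj v g} := by
      rw [Nat.card_eq_fintype_card, Fintype.card_subtype]
    have e3 : (Finset.univ : Finset X).offDiag.card = f * (f - 1) := by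
      rw [Finset.offDiag_card, Finset.card_univ]
      show _ = Nat.card X * (Nat.card X - 1)
      rw [Nat.card_eq_fintype_card, Nat.mul_sub, mul_one]
    have e4 := class_card v
    rw [hcardC, hcardv] at e4
    rw [e2, e3] at e1
    have hcpos : 0 < Nat.card {g : C // IsConj v g} := by
      have : Nonempty {g : C // IsConj v g} := ⟨⟨v, IsConj.refl v⟩⟩
      exact Nat.card_pos
    apply Nat.eq_of_mul_eq_mul_left hcpos
    rw [e1]
    have e5 : f * (f - 1) = Nat.card {g : C // IsConj v g} * (m * (m - 1)) := by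
      have : 2 * (f * (f - 1)) = 2 * (Nat.card {g : C // IsConj v g} * (m * (m - 1))) := by
        rw [← e4]; ring
      exact Nat.eq_of_mul_eq_mul_left (by norm_num) this
    rw [e5]
    ring
  -- `Sh`
  have hact : ∀ (g : C) (hg : g ∈ Subgroup.centralizer ({v} : Set C)) (x : Fx C (Ω := X) ({v} : Set C)),
      ((cb X hg • x : Fx C (Ω := X) ({v} : Set C)) : X) = g • (x : X) := fun g hg x => rfl
  have hker : ∀ (g : C) (hg : g ∈ Subgroup.centralizer ({v} : Set C)), g = 1 ∨ g = v → cb X hg = 1 := by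
    intro g hg hh
    apply Subtype.ext
    apply Equiv.ext
    intro x
    apply Subtype.ext
    show g • (x : X) = x
    rcases hh with rfl | rfl
    · exact one_smul _ _
    · exact (hFx _).mp x.2
  have hSh : Sh (CB C X v) (Fx C (Ω := X) ({v} : Set C)) := by
    refine ⟨⟨?_, ?_, ?_⟩, ?_⟩
    · intro c d c' d' hcd hcd'
      obtain ⟨g, hg, g1, g2⟩ := witt h hv1 (fun hh => hcd (Subtype.ext hh)) (fun hh => hcd' (Subtype.ext hh))
        ((hFx _).mp c.2) ((hFx _).mp d.2) ((hFx _).mp c'.2) ((hFx _).mp d'.2)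
      exact ⟨cb X hg, Subtype.ext g1, Subtype.ext g2⟩
    · intro g hg
      apply Subtype.ext
      apply Equiv.ext
      exact hg
    · exact ⟨⟨a, (hFx a).mpr hva⟩, ⟨b, (hFx b).mpr hvb⟩, fun hh => hab (congrArg Subtype.val hh)⟩
    · rintro ⟨_, ⟨⟨g, hg⟩, rfl⟩⟩ c d hcd hc hd
      have hc' : g • (c : X) = c := congrArg Subtype.val hc
      have hd' : g • (d : X) = d := congrArg Subtype.val hd
      exact hker g hg (st_two h (fun hh => hcd (Subtype.ext hh))
        (mem_St.mpr ⟨(hFx _).mp c.2, (hFx _).mp d.2⟩) hv1 (mem_St.mpr ⟨hc', hd'⟩))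
  have hcb : ∀ (g : C) (hg : g ∈ Subgroup.centralizer ({v} : Set C)), cb X hg = 1 ↔ (g = 1 ∨ g = v) := by
    intro g hg
    refine ⟨fun hh => ?_, hker g hg⟩
    apply st_two h hab hv hv1
    rw [mem_St]
    constructor
    · have := hact g hg ⟨a, (hFx a).mpr hva⟩
      rw [hh, one_smul] at this
      exact this.symm
    · have := hact g hg ⟨b, (hFx b).mpr hvb⟩
      rw [hh, one_smul] at this
      exact this.symm
  -- the swapping elements
  have hsw : ∃ p q : C, p ≠ q ∧ p • a = b ∧ p • b = a ∧ q • a = b ∧ q • b = a ∧ q = p * v ∧ IsConj v p ∧ q * q = 1 ∧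
      ∀ g : C, g • a = b → g • b = a → g = p ∨ g = q := by
    have hδ : 0 < Nat.card {g : C // IsConj v g ∧ g • a = b ∧ g • b = a} := by
      rcases Nat.eq_zero_or_pos (Nat.card {g : C // IsConj v g ∧ g • a = b ∧ g • b = a}) with h0 | h0
      · rw [h0, mul_zero] at hcount
        omega
      · exact h0
    obtain ⟨⟨p, hp, hpa, hpb⟩⟩ := (Nat.card_pos_iff.mp hδ).1
    have hpp : p * p = 1 := by
      obtain ⟨x, hx⟩ := isConj_iff.mp hp
      rw [← hx]
      calc x * v * x⁻¹ * (x * v * x⁻¹) = x * (v * v) * x⁻¹ := by group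
        _ = 1 := by rw [hvv, mul_one, mul_inv_cancel]
    have hpv : p * v * p⁻¹ = v := by
      have h1 : p * v * p⁻¹ ∈ St C b a := conj_mem hv hpa hpb
      have h2 : p * v * p⁻¹ ∈ St C a b := ⟨h1.2, h1.1⟩
      rcases st_two h hab hv hv1 h2 with h3 | h3
      · exfalso
        apply hv1
        rw [mul_inv_eq_one] at h3
        exact mul_eq_left.mp h3
      · exact h3
    have hpv' : p * v = v * p := mul_inv_eq_iff_eq_mul.mp hpv
    refine ⟨p, p * v, fun hh => hv1 (left_eq_mul.mp hh), hpa, hpb, ?_, ?_, rfl, hp, ?_, ?_⟩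
    · rw [mul_smul, hva, hpa]
    · rw [mul_smul, hvb, hpb]
    · calc p * v * (p * v) = p * (v * p) * v := by group
        _ = p * (p * v) * v := by rw [hpv']
        _ = (p * p) * (v * v) := by group
        _ = 1 := by rw [hpp, hvv, mul_one]
    · intro g ga gb
      have h1 : p⁻¹ * g ∈ St C a b := by
        rw [mem_St, mul_smul, mul_smul, ga, gb]
        constructor
        · rw [inv_smul_eq_iff, hpa]
        · rw [inv_smul_eq_iff, hpb]
      rcases st_two h hab hv hv1 h1 with h2 | h2
      · left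
        rw [inv_mul_eq_one] at h2
        exact h2.symm
      · right
        rw [inv_mul_eq_iff_eq_mul] at h2
        exact h2
  exact ⟨⟨hv1, hvv⟩, hm2, hmf, hcardC, hcardv, hconj, hcount, hSh, hcb, hsw⟩

end H39.DA
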