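import Cfsg.Agent.Lib.H39.DAQ1

/-! Sharply doubly transitive groups of odd degree (S3262, piece Q2). -/

set_option autoImplicit false

namespace H39.DA

open MulAction

universe u v

namespace Q2

variable {Y : Type u} {X : Type v} [Group Y] [Finite Y] [MulAction Y X] [Finite X]

/-- an involution fixes exactly one point -/
theorem fix_one (h : Sh Y X) (ho : Odd (Nat.card X)) {g : Y} (hg : Inv g) :
    ∃ c : X, ∀ x : X, g • x = x ↔ x = c := by
  classical
  have : Fintype X := Fintype.ofFinite X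
  have : Fact (Nat.Prime 2) := ⟨Nat.prime_two⟩
  obtain ⟨c, hc⟩ : ∃ c : X, MulAction.toPerm g c = c := by
    refine Equiv.Perm.exists_fixed_point_of_prime (p := 2) (n := 1) ?_ ?_
    · rw [← Nat.card_eq_fintype_card]
      exact fun hd => (Nat.not_even_iff_odd.2 ho) (even_iff_two_dvd.2 hd)
    · ext x
      rw [pow_one, pow_two]
      simp only [Equiv.Perm.mul_apply, MulAction.toPerm_apply, Equiv.Perm.one_apply]
      rw [← mul_smul, hg.2, one_smul]
  rw [MulAction.toPerm_apply] at hc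
  refine ⟨c, fun x => ⟨fun hx => ?_, fun hx => by rw [hx, hc]⟩⟩
  by_contra hne
  exact hg.1 (h.sh g x c hne hx hc)

theorem exists_ne (h : Sh Y X) (x : X) : ∃ y : X, y ≠ x := by
  obtain ⟨a, b, hab⟩ := h.two
  by_cases hax : a = x
  · exact ⟨b, fun hb => hab (hax.trans hb.symm)⟩
  · exact ⟨a, hax⟩

theorem trans (h : Sh Y X) (x y : X) : ∃ g : Y, g • x = y := by
  obtain ⟨x', hx'⟩ := exists_ne h x
  obtain ⟨y', hy'⟩ := exists_ne h y
  obtain ⟨g, hg, -⟩ := h.tr x x' y y' (Ne.symm hx') (Ne.symm hy')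
  exact ⟨g, hg⟩

theorem conj_inv {g : Y} (hg : Inv g) (y : Y) : Inv (y * g * y⁻¹) := by
  refine ⟨fun h1 => hg.1 ?_, ?_⟩
  · have : g = y⁻¹ * (y * g * y⁻¹) * y := by group
    rw [this, h1]; group
  · calc y * g * y⁻¹ * (y * g * y⁻¹) = y * (g * g) * y⁻¹ := by group
      _ = 1 := by rw [hg.2]; group

/-- every point is fixed by an involution -/
theorem exists_fix (h : Sh Y X) (ho : Odd (Nat.card X)) (c : X) : ∃ g : Y, Inv g ∧ g • c = c := by
  obtain ⟨a, b, hab⟩ := h.two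
  obtain ⟨w, hw, hw1, hw2⟩ := Q1.exists_inv h hab
  have hw0 : Inv w := ⟨fun h1 => hab (by rw [← hw1, h1, one_smul]), hw⟩
  obtain ⟨d, hd⟩ := fix_one h ho hw0
  obtain ⟨y, hy⟩ := trans h d c
  refine ⟨y * w * y⁻¹, conj_inv hw0 y, ?_⟩
  have h1 : y⁻¹ • c = d := by rw [inv_smul_eq_iff, hy]
  rw [mul_smul, mul_smul, h1, (hd d).2 rfl, hy]

/-- exactly one involution fixes a point -/
theorem unique_fix (h : Sh Y X) (ho : Odd (Nat.card X)) {c : X} {g g' : Y} (hg : Inv g) (hg' : Inv g')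
    (hc : g • c = c) (hc' : g' • c = c) : g = g' := by
  classical
  obtain ⟨a, ha⟩ := exists_ne h c
  -- for `x ≠ a` take the involution moving `a` to `x`
  have key : ∀ x : {x : X // x ≠ a}, ∃ w : Y, Inv w ∧ w • a = x ∧ w • (x : X) = a ∧
      ∃ m : X, ∀ z : X, w • z = z ↔ z = m := by
    intro x
    obtain ⟨w, hw, hw1, hw2⟩ := Q1.exists_inv h (Ne.symm x.2)
    have hw0 : Inv w := ⟨fun h1 => x.2 (by rw [← hw1, h1, one_smul]), hw⟩
    exact ⟨w, hw0, hw1, hw2, fix_one h ho hw0⟩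
  choose W hW1 hW2 hW3 M hM using key
  have hMa : ∀ x, M x ≠ a := by
    intro x hx
    have h1 : W x • a = a := (hM x a).2 hx.symm
    exact x.2 (by rw [← hW2 x, h1])
  have hWuniq : ∀ (s : Y) (hs : Inv s) (hsa : s • a ≠ a), W ⟨s • a, hsa⟩ = s := by
    intro s hs hsa
    exact Q1.inv_unique h (hW1 _).2 hs.2 (Ne.symm hsa) (hW2 _) rfl
  let f : {x : X // x ≠ a} → {x : X // x ≠ a} := fun x => ⟨M x, hMa x⟩
  have hsurj : Function.Surjective f := by
    rintro ⟨z, hz⟩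
    obtain ⟨s, hs, hsz⟩ := exists_fix h ho z
    obtain ⟨d, hd⟩ := fix_one h ho hs
    have hdz : z = d := (hd z).1 hsz
    have hsa : s • a ≠ a := fun h1 => hz (hdz.trans ((hd a).1 h1).symm)
    refine ⟨⟨s • a, hsa⟩, Subtype.ext ?_⟩
    have h1 := hWuniq s hs hsa
    have h2 := (hM ⟨s • a, hsa⟩ z).1 (by rw [h1]; exact hsz)
    exact h2.symm
  have hinj := Finite.injective_iff_surjective.2 hsurj
  obtain ⟨d, hd⟩ := fix_one h ho hg
  obtain ⟨d', hd'⟩ := fix_one h ho hg'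
  have hda : g • a ≠ a := fun h1 => ha (((hd a).1 h1).trans ((hd c).1 hc).symm)
  have hda' : g' • a ≠ a := fun h1 => ha (((hd' a).1 h1).trans ((hd' c).1 hc').symm)
  have e1 := hWuniq g hg hda
  have e2 := hWuniq g' hg' hda'
  have m1 : c = M ⟨g • a, hda⟩ := (hM _ c).1 (by rw [e1]; exact hc)
  have m2 : c = M ⟨g' • a, hda'⟩ := (hM _ c).1 (by rw [e2]; exact hc')
  have h3 : (⟨g • a, hda⟩ : {x : X // x ≠ a}) = ⟨g' • a, hda'⟩ :=
    hinj (Subtype.ext (m1.symm.trans m2))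
  rw [← e1, ← e2, h3]

/-- a fixed point free element is a product of two involutions, one of them prescribed by its fixed point -/
theorem fpf_prod (h : Sh Y X) (ho : Odd (Nat.card X)) {g : Y} (hg : ∀ x : X, g • x ≠ x) {w0 : Y} (hw0 : Inv w0)
    {o : X} (ho0 : w0 • o = o) : ∃ w : Y, Inv w ∧ g = w * w0 := by
  obtain ⟨w, hw, hw1, hw2⟩ := Q1.exists_inv h (Ne.symm (hg o))
  have hwI : Inv w := ⟨fun h1 => hg o (by rw [← hw1, h1, one_smul]), hw⟩
  refine ⟨w, hwI, ?_⟩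
  have hs1 : (w * g) • o = o := by rw [mul_smul, hw2]
  suffices hs : w * g = w0 by
    rw [← hs, ← mul_assoc, hw, one_mul]
  by_contra hcon
  have hs : w * g ≠ 1 := by
    intro h1
    have h2 : g = w := by
      have h2 : w * (w * g) = w := by rw [h1, mul_one]
      rwa [← mul_assoc, hw, one_mul] at h2
    obtain ⟨c, hc⟩ := fix_one h ho hwI
    exact hg c (by rw [h2]; exact (hc c).2 rfl)
  have key : ∀ z : {z : X // z ≠ o}, ∃ w' : Y, w' * w' = 1 ∧ w' • (z : X) = (w * g) • (z : X) ∧ w' • o ≠ o := by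
    intro z
    have h1 : (z : X) ≠ (w * g) • (z : X) := fun hh => hs (h.sh _ z o z.2 hh.symm hs1)
    obtain ⟨w', h2, h3, h3'⟩ := Q1.exists_inv h h1
    refine ⟨w', h2, h3, fun h4 => hcon ?_⟩
    have hw'I : Inv w' := ⟨fun h5 => h1 (by rw [← h3, h5, one_smul]), h2⟩
    have h5 : w' = w0 := unique_fix h ho hw'I hw0 h4 ho0
    rw [← h5]
    refine (Q1.eq_of h z.2 h3 ?_).symm
    rw [h4, hs1]
  choose W hW1 hW2 hW3 using key
  let f : {z : X // z ≠ o} → {z : X // z ≠ o} := fun z => ⟨W z • o, hW3 z⟩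
  have hf : Function.Injective f := by
    intro z z' hzz
    have h1 : W z • o = W z' • o := congrArg Subtype.val hzz
    have h2 : W z = W z' := Q1.inv_unique h (hW1 z) (hW1 z') (Ne.symm (hW3 z')) h1 rfl
    by_contra hne
    have hne' : (z : X) ≠ z' := fun hh => hne (Subtype.ext hh)
    have h3 : W z = w * g := Q1.eq_of h hne' (hW2 z) (by rw [h2]; exact hW2 z')
    exact hW3 z (by rw [h3]; exact hs1)
  have hsurj := Finite.surjective_of_injective hf
  obtain ⟨z, hz⟩ := hsurj ⟨w • o, by rw [hw1]; exact hg o⟩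
  have h1 : W z • o = w • o := congrArg Subtype.val hz
  have h2 : W z = w := Q1.inv_unique h (hW1 z) hw (by rw [hw1]; exact Ne.symm (hg o)) h1 rfl
  have h3 : w • (z : X) = (w * g) • (z : X) := by
    have h4 := hW2 z
    rwa [h2] at h4
  rw [mul_smul] at h3
  exact hg z (smul_left_cancel w h3).symm

/-- a product of two distinct involutions is fixed point free -/
theorem prod_fpf (h : Sh Y X) (ho : Odd (Nat.card X)) {w w' : Y} (hw : Inv w) (hw' : Inv w') (hne : w ≠ w') (x : X) :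
    (w * w') • x ≠ x := by
  intro hx
  have h1 : w' • x = w • x := by
    rw [mul_smul] at hx
    have := congrArg (fun z => w • z) hx
    simpa only [← mul_smul, hw.2, one_smul, ← mul_assoc, one_mul] using this
  by_cases h2 : w • x = x
  · exact hne (unique_fix h ho hw hw' h2 (h1.trans h2))
  · exact hne (Q1.inv_unique h hw.2 hw'.2 (Ne.symm h2) rfl h1)

end Q2

open Q2

theorem sh_odd_inv {Y : Type u} {X : Type v} [Group Y] [Finite Y] [MulAction Y X] [Finite X] (h : Sh Y X)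
    (ho : Odd (Nat.card X)) : (∀ g g' : Y, Inv g → Inv g' → g * g' = g' * g → g = g') ∧
      (∀ g g' : Y, Inv g → Inv g' → ∃ y : Y, y * g * y⁻¹ = g') ∧
      (∀ g : Y, Inv g → ∃ c : X, ∀ x : X, g • x = x ↔ x = c) ∧
      (∀ x y : X, x ≠ y → ∃ g : Y, Inv g ∧ g • x = y) := by
  refine ⟨fun g g' hg hg' hc => ?_, fun g g' hg hg' => ?_, fun g hg => fix_one h ho hg, fun x y hxy => ?_⟩
  · obtain ⟨c, hc1⟩ := fix_one h ho hg
    have h1 : g • (g' • c) = g' • c := by rw [← mul_smul, hc, mul_smul, (hc1 c).2 rfl]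
    exact unique_fix h ho hg hg' ((hc1 c).2 rfl) ((hc1 _).1 h1)
  · obtain ⟨c, hc1⟩ := fix_one h ho hg
    obtain ⟨c', hc1'⟩ := fix_one h ho hg'
    obtain ⟨y, hy⟩ := trans h c c'
    refine ⟨y, unique_fix h ho (conj_inv hg y) hg' (c := c') ?_ ((hc1' c').2 rfl)⟩
    have h1 : y⁻¹ • c' = c := by rw [inv_smul_eq_iff, hy]
    rw [mul_smul, mul_smul, h1, (hc1 c).2 rfl, hy]
  · obtain ⟨w, hw, hw1, hw2⟩ := Q1.exists_inv h hxy
    exact ⟨w, ⟨fun h1 => hxy (by rw [← hw1, h1, one_smul]), hw⟩, hw1⟩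

theorem sh_odd {Y : Type u} {X : Type v} [Group Y] [Finite Y] [MulAction Y X] [Finite X] (h : Sh Y X)
    (ho : Odd (Nat.card X)) : Nat.card Y = Nat.card X * (Nat.card X - 1) ∧
      ∃ (r k : ℕ) (F : Subgroup Y), r.Prime ∧ 1 ≤ k ∧ Nat.card X = r ^ k ∧ Reg Y X F ∧
      (∀ g ∈ F, ∀ g' ∈ F, g * g' = g' * g) ∧ (∀ g ∈ F, g ^ r = 1) ∧
      (∀ g : Y, Inv g → ∀ e ∈ F, g * e * g⁻¹ = e⁻¹) := by
  refine ⟨Q1.card_all h, ?_⟩
  obtain ⟨o, b, hob⟩ := h.two
  obtain ⟨w0, hw0, hw0o⟩ := exists_fix h ho o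
  have hinvinv : ∀ {w : Y}, Inv w → w⁻¹ = w := fun {w} hw => inv_eq_of_mul_eq_one_left hw.2
  -- the kernel
  have hfi : ∀ g : Y, (g = 1 ∨ ∀ x : X, g • x ≠ x) → (g⁻¹ = 1 ∨ ∀ x : X, g⁻¹ • x ≠ x) := by
    rintro g (rfl | hg)
    · exact Or.inl inv_one
    · exact Or.inr fun x hx => hg x (inv_smul_eq_iff.1 hx).symm
  let F : Subgroup Y :=
    { carrier := {g | g = 1 ∨ ∀ x : X, g • x ≠ x}
      one_mem' := Or.inl rfl
      mul_mem' := by
        intro g g' hg hg'
        rcases hg with rfl | hg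
        · rw [one_mul]; exact hg'
        rcases hg' with rfl | hg'
        · rw [mul_one]; exact Or.inr hg
        obtain ⟨w, hw, hgw⟩ := fpf_prod h ho hg hw0 hw0o
        have hg'i : ∀ x : X, g'⁻¹ • x ≠ x := fun x hx => hg' x (inv_smul_eq_iff.1 hx).symm
        obtain ⟨w', hw', hgw'⟩ := fpf_prod h ho hg'i hw0 hw0o
        have h1 : g' = w0 * w' := by
          have h2 : g' = (w' * w0)⁻¹ := by rw [← hgw', inv_inv]
          rw [h2, mul_inv_rev, hinvinv hw0, hinvinv hw']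
        have h3 : g * g' = w * w' := by
          rw [hgw, h1, mul_assoc, ← mul_assoc w0 w0, hw0.2, one_mul]
        rw [h3]
        by_cases hww : w = w'
        · left; rw [hww, hw'.2]
        · right; exact prod_fpf h ho hw hw' hww
      inv_mem' := fun {g} hg => hfi g hg }
  have hF : ∀ g : Y, g ∈ F ↔ (g = 1 ∨ ∀ x : X, g • x ≠ x) := fun g => Iff.rfl
  have hreg : Reg Y X F := by
    refine ⟨⟨fun n hn g => ?_⟩, fun x y => ?_, fun g hg x hx => ?_⟩
    · rw [hF] at hn ⊢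
      rcases hn with rfl | hn
      · left; group
      · right
        intro x hx
        rw [mul_smul, mul_smul] at hx
        exact hn (g⁻¹ • x) (by rw [eq_inv_smul_iff, hx])
    · by_cases hxy : x = y
      · exact ⟨1, F.one_mem, by rw [one_smul, hxy]⟩
      · obtain ⟨w, hw, h1, h2⟩ := Q1.exists_inv h hxy
        have hwI : Inv w := ⟨fun h3 => hxy (by rw [← h1, h3, one_smul]), hw⟩
        obtain ⟨wx, hwx, hwxx⟩ := exists_fix h ho x
        refine ⟨w * wx, Or.inr (prod_fpf h ho hwI hwx ?_), by rw [mul_smul, hwxx, h1]⟩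
        rintro rfl
        exact hxy (by rw [← h1, hwxx])
    · rcases (hF g).1 hg with h1 | h1
      · exact h1
      · exact absurd hx (h1 x)
  -- involutions invert the kernel
  have hinv : ∀ g : Y, Inv g → ∀ e ∈ F, g * e * g⁻¹ = e⁻¹ := by
    intro g hg e he
    rcases (hF e).1 he with rfl | he1
    · group
    · obtain ⟨c, hc⟩ := fix_one h ho hg
      obtain ⟨w, hw, hew⟩ := fpf_prod h ho he1 hg ((hc c).2 rfl)
      rw [hew, mul_inv_rev, hinvinv hg, hinvinv hw, mul_assoc g, mul_assoc w, hg.2, mul_one]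
  have hab : ∀ g ∈ F, ∀ g' ∈ F, g * g' = g' * g := by
    intro g hg g' hg'
    have h1 := hinv w0 hw0 (g * g') (F.mul_mem hg hg')
    have h2 : w0 * (g * g') * w0⁻¹ = (w0 * g * w0⁻¹) * (w0 * g' * w0⁻¹) := by group
    rw [h2, hinv w0 hw0 g hg, hinv w0 hw0 g' hg', ← mul_inv_rev] at h1
    exact (inv_injective h1).symm
  -- cardinality
  have hcardF : Nat.card F = Nat.card X := by
    refine Nat.card_congr (Equiv.ofBijective (fun g : F => (g : Y) • o) ⟨?_, ?_⟩)
    · intro g g' hgg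
      have h1 : (g : Y) • o = (g' : Y) • o := hgg
      have h2 := hreg.2.2 ((g' : Y)⁻¹ * g) (F.mul_mem (F.inv_mem g'.2) g.2) o (by rw [mul_smul, h1, inv_smul_smul])
      exact Subtype.ext (inv_mul_eq_one.1 h2).symm
    · intro y
      obtain ⟨g, hg, hgy⟩ := hreg.2.1 o y
      exact ⟨⟨g, hg⟩, hgy⟩
  have hcX : Nat.card X ≠ 1 := by
    intro h1
    have : Subsingleton X := (Nat.card_eq_one_iff_unique.1 h1).1
    exact hob (Subsingleton.elim o b)
  -- a prime
  obtain ⟨r, hr, hrd⟩ := Nat.exists_prime_and_dvd hcX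
  have : Fact r.Prime := ⟨hr⟩
  obtain ⟨e0, he0⟩ := exists_prime_orderOf_dvd_card' (G := F) r (by rw [hcardF]; exact hrd)
  have hconj : ∀ g ∈ F, g ≠ 1 → ∀ g' ∈ F, g' ≠ 1 → ∃ y : Y, y * g * y⁻¹ = g' := by
    intro g hg hg1 g' hg' hg1'
    have h1 : g • o ≠ o := fun hh => hg1 (hreg.2.2 g hg o hh)
    have h2 : g' • o ≠ o := fun hh => hg1' (hreg.2.2 g' hg' o hh)
    obtain ⟨s, hs1, hs2⟩ := h.tr o (g • o) o (g' • o) (Ne.symm h1) (Ne.symm h2)
    refine ⟨s, ?_⟩
    have hsa : s⁻¹ • o = o := by rw [inv_smul_eq_iff, hs1]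
    have h3 : (s * g * s⁻¹) • o = g' • o := by rw [mul_smul, mul_smul, hsa, hs2]
    have h4 := hreg.2.2 (g'⁻¹ * (s * g * s⁻¹)) (F.mul_mem (F.inv_mem hg') (hreg.1.conj_mem g hg s)) o
      (by rw [mul_smul, h3, inv_smul_smul])
    exact (inv_mul_eq_one.1 h4).symm
  have hpow : ∀ g ∈ F, g ^ r = 1 := by
    intro g hg
    by_cases hg1 : g = 1
    · rw [hg1, one_pow]
    · have he1 : (e0 : Y) ≠ 1 := by
        intro h1
        have h2 : e0 = 1 := Subtype.ext h1
        rw [h2, orderOf_one] at he0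
        exact hr.one_lt.ne he0
      obtain ⟨y, hy⟩ := hconj e0 e0.2 he1 g hg hg1
      have h1 : (e0 : Y) ^ r = 1 := by
        have h2 := pow_orderOf_eq_one e0
        rw [he0] at h2
        simpa using congrArg Subtype.val h2
      rw [← hy, conj_pow, h1]; group
  have hp : IsPGroup r F := fun g => ⟨1, by
    rw [pow_one]
    exact Subtype.ext (by simpa using hpow (g : Y) g.2)⟩
  obtain ⟨k, hk⟩ := IsPGroup.iff_card.1 hp
  rw [hcardF] at hk
  have hk1 : 1 ≤ k := by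
    rcases Nat.eq_zero_or_pos k with h0 | h0
    · rw [h0, pow_zero] at hk
      exact absurd hk hcX
    · exact h0
  exact ⟨r, k, F, hr, hk1, hk, hreg, hab, hpow, hinv⟩

end H39.DA
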