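import Cfsg.Agent.Lib.H39.DAQ8core
import Cfsg.Agent.Lib.H39.DAQ2

/-!
S3262, piece Q8.
-/

set_option autoImplicit false

open MulAction

universe u v

namespace H39.DA

theorem t2_no_odd {C : Type u} {X : Type v} [Group C] [Finite C] [MulAction C X] [Finite X] (h : T2 C X) (ho : Odd (Nat.card X))
    (hall : ∀ g : C, Inv g → ∃ c d : X, c ≠ d ∧ g • c = c ∧ g • d = d) : False :=
  Q8.t2_no_odd_of (fun h1 h2 => sh_odd h1 h2) h ho hall

end H39.DA
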