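import Cfsg.Agent.Lib.H21.BA2z
set_option autoImplicit false
open MulAction
universe u v
namespace H39.DA
variable {G : Type u} {Ω : Type v} [Group G] [Finite G] [MulAction G Ω] [Finite Ω]

theorem a4A_eq_odd (h : B4 G Ω) {a b : Ω} (hab : a ≠ b) {t : G} (ht : Inv t) (hts : t ∈ St G a b) (hA : CaseA4 a b t)
    (hm : fS G Ω (VV a b t) = fx G Ω t) (ho : Odd (fx G Ω t)) : Nat.card Ω = 15 ∧ Nonempty (G ≃* alternatingGroup (Fin 7)) :=
  H21.BA2z.main h hab ht hts hA hm ho

end H39.DA
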