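import Cfsg.Agent.Lib.H39.DBB4solv
import Cfsg.Agent.Lib.H39.DBB4P1
import Cfsg.Agent.Lib.H66.BB4P2
import Cfsg.Agent.Lib.H39.DBD2
import Cfsg.Agent.Lib.H39.DBD3
import Cfsg.Agent.Lib.H39.DBB4P6

/-!
S3219, piece BB4.
-/

set_option autoImplicit false

namespace H39.DA

open Subgroup MulAction

universe u v

variable {G : Type u} {Ω : Type v} [Group G] [Finite G] [MulAction G Ω] [Finite Ω]

theorem a4B1_lt (h : B4 G Ω) {a b : Ω} (hab : a ≠ b) {t : G} (ht : Inv t) (hts : t ∈ St G a b)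
    (hn : Nat.card Ω = fx G Ω t * fx G Ω t) (hk : ∃ k : ℕ, fS G Ω (VV a b t) = 2 ^ k)
    (hm : fx G Ω t = fS G Ω (VV a b t) * fS G Ω (VV a b t))
    (E : Subgroup G) (hE : Reg G Ω E) (hEc : ∀ g ∈ E, ∀ g' ∈ E, g * g' = g' * g) (hE2 : ∀ g ∈ E, g * g = 1) : False := by
  haveI : Fact (Nat.Prime 2) := ⟨Nat.prime_two⟩
  obtain ⟨hconj, hi, hr⟩ := BB4.counts h hab ht hts hn hk hm
  obtain ⟨hV4, hVsq, -⟩ := vfacts4 h hab ht hts
  have hm2 : 2 ≤ fS G Ω (VV a b t) := (countV4 h hab ht hts).1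
  have hG := (count4 h hab ht hts).1
  obtain ⟨k, hk⟩ := hk
  have hmeven : Even (fS G Ω (VV a b t)) := by
    rw [hk] at hm2 ⊢
    refine (Nat.even_pow' ?_).2 even_two
    rintro rfl
    norm_num at hm2
  have hneven : Even (Nat.card Ω) := by
    rw [hn, hm]
    exact (hmeven.mul_right _).mul_right _
  have hnpos : 2 ≤ Nat.card Ω := by
    have h4 : 2 ≤ fx G Ω t := by rw [hm]; nlinarith
    rw [hn]
    nlinarith
  -- the order of the stabilizer
  have hcB : Nat.card (stabilizer G a) = 12 * (Nat.card Ω - 1) := by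
    have h1 : Nat.card (MulAction.orbit G a) * Nat.card (stabilizer G a) = Nat.card G := by
      rw [← Nat.card_prod]
      exact Nat.card_congr (MulAction.orbitProdStabilizerEquivGroup G a)
    have h2 : MulAction.orbit G a = Set.univ := by
      rw [Set.eq_univ_iff_forall]
      intro x
      by_cases hx : x = a
      · exact ⟨1, by rw [hx]; exact one_smul _ _⟩
      · obtain ⟨g, hg, -⟩ := h.tr a b x a hab hx
        exact ⟨g, hg⟩
    rw [h2, Nat.card_congr (Equiv.Set.univ Ω), hG] at h1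
    have h3 : Nat.card Ω * Nat.card (stabilizer G a) = Nat.card Ω * (12 * (Nat.card Ω - 1)) := by rw [h1]; ring
    exact Nat.eq_of_mul_eq_mul_left (by omega) h3
  obtain ⟨c, hc⟩ := hneven
  have h8 : ¬ 8 ∣ Nat.card (stabilizer G a) := by rw [hcB]; omega
  let V : Subgroup (stabilizer G a) := (VV a b t).subgroupOf (stabilizer G a)
  have hVle : VV a b t ≤ stabilizer G a := fun g hg => hg.1.1
  have hVc : Nat.card V = 4 := by
    rw [← hV4]
    exact Nat.card_congr (Subgroup.subgroupOfEquivOfLe hVle).toEquiv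
  have hVi : V.index = 3 * (Nat.card Ω - 1) := by
    have h1 := V.card_mul_index
    rw [hVc, hcB] at h1
    omega
  have hVodd : Odd V.index := by
    rw [hVi, Nat.odd_iff]; omega
  have hV2 : ∀ g ∈ V, g * g = 1 := fun g hg => Subtype.ext (hVsq _ (Subgroup.mem_subgroupOf.1 hg))
  have hVp : IsPGroup 2 V := IsPGroup.of_card (n := 2) (by rw [hVc]; norm_num)
  let P : Sylow 2 (stabilizer G a) := hVp.toSylow (by
    intro h2
    rw [Nat.odd_iff] at hVodd
    omega)
  have hcore := H31.BB4P4.cent (Cfsg.oddCore (stabilizer G a)) V (H1.Cores.pPrimeCore_normal 2) BB4.odd_core hVc hV2 hVodd hconj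
    (BB4.core_cyc h hab E hE hEc hE2)
  exact BB4.main P hVc hV2 hconj hcore (BB4.cent_solv h8)
    (fun F iF iFf hF t h1 h2 => BB4.psl_le hF t h1 h2)
    (fun F iF iFf hF t h1 h2 => H66.BB4P2.psl_le4 hF t h1 h2)
    (fS G Ω (VV a b t)) hm2 hi hr

end H39.DA
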