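import Mathlib

/-!
Doubly transitive groups with two-point stabilizer `A₅` (S3262): definitions.
-/

set_option autoImplicit false

namespace H39.DA

open MulAction

universe u v

/-- two-point stabilizer -/
def St (G : Type u) {Ω : Type v} [Group G] [MulAction G Ω] (a b : Ω) : Subgroup G :=
  stabilizer G a ⊓ stabilizer G b

/-- doubly transitive, faithful, at least two points -/
structure TT (G : Type u) (Ω : Type v) [Group G] [MulAction G Ω] : Prop where
  tr : ∀ a b c d : Ω, a ≠ b → c ≠ d → ∃ g : G, g • a = c ∧ g • b = d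
  faith : ∀ g : G, (∀ x : Ω, g • x = x) → g = 1
  two : ∃ a b : Ω, a ≠ b

/-- sharply doubly transitive -/
structure Sh (G : Type u) (Ω : Type v) [Group G] [MulAction G Ω] : Prop extends TT G Ω where
  sh : ∀ (g : G) (a b : Ω), a ≠ b → g • a = a → g • b = b → g = 1

/-- doubly transitive with two-point stabilizers of order 2 -/
structure T2 (G : Type u) (Ω : Type v) [Group G] [MulAction G Ω] : Prop extends TT G Ω where
  st : ∀ a b : Ω, a ≠ b → Nat.card (St G a b) = 2

/-- doubly transitive with two-point stabilizers isomorphic to `A₅` -/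
structure Base (G : Type u) (Ω : Type v) [Group G] [MulAction G Ω] : Prop extends TT G Ω where
  a5 : ∀ a b : Ω, a ≠ b → Nonempty (St G a b ≃* alternatingGroup (Fin 5))

/-- regular normal subgroup -/
def Reg (G : Type u) (Ω : Type v) [Group G] [MulAction G Ω] (E : Subgroup G) : Prop :=
  E.Normal ∧ (∀ x y : Ω, ∃ g ∈ E, g • x = y) ∧ ∀ g ∈ E, ∀ x : Ω, g • x = x → g = 1

/-- number of points fixed by an element -/
noncomputable def fx (G : Type u) (Ω : Type v) [Group G] [MulAction G Ω] (g : G) : ℕ := Nat.card {x : Ω // g • x = x}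

/-- involutions -/
def Inv {G : Type u} [Group G] (g : G) : Prop := g ≠ 1 ∧ g * g = 1

/-- the Klein four-group of a two-point stabilizer attached to an involution -/
def VV {G : Type u} {Ω : Type v} [Group G] [MulAction G Ω] (a b : Ω) (t : G) : Subgroup G :=
  St G a b ⊓ Subgroup.centralizer {t}

/-- number of points fixed by a subgroup -/
noncomputable def fS (G : Type u) (Ω : Type v) [Group G] [MulAction G Ω] (V : Subgroup G) : ℕ :=
  Nat.card {x : Ω // ∀ g ∈ V, g • x = x}

end H39.DA
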