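import Cfsg.Agent.Lib.H39.DA0

/-!
Action of a subgroup on an invariant set (S3262).
-/

set_option autoImplicit false

namespace H39.DA

open MulAction

universe u v

variable {G : Type u} {Ω : Type v} [Group G] [MulAction G Ω]

/-- the fixed points of `t` -/
def Fx (G : Type u) {Ω : Type v} [Group G] [MulAction G Ω] (V : Set G) : Set Ω := {x | ∀ g ∈ V, g • x = x}

/-- restriction of the action of `M` to the invariant set `X` -/
def resHom (M : Subgroup G) (X : Set Ω) (hX : ∀ g ∈ M, ∀ x ∈ X, g • x ∈ X) : M →* Equiv.Perm X where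
  toFun g :=
    { toFun := fun x => ⟨(g : G) • (x : Ω), hX g g.2 x x.2⟩
      invFun := fun x => ⟨((g⁻¹ : M) : G) • (x : Ω), hX _ (g⁻¹).2 x x.2⟩
      left_inv := fun x => Subtype.ext (by simp)
      right_inv := fun x => Subtype.ext (by simp) }
  map_one' := by ext x; simp
  map_mul' := fun g h => by ext x; simp [mul_smul]

@[simp] theorem resHom_apply (M : Subgroup G) (X : Set Ω) (hX : ∀ g ∈ M, ∀ x ∈ X, g • x ∈ X) (g : M) (x : X) :
    ((resHom M X hX g x : X) : Ω) = (g : G) • (x : Ω) := rfl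

theorem smul_Fx {V : Set G} {g : G} (hg : ∀ s ∈ V, g⁻¹ * s * g ∈ V) {x : Ω} (hx : x ∈ Fx G V) : g • x ∈ Fx G V := by
  intro s hs
  have h1 := hx _ (hg s hs)
  rw [mul_smul, mul_smul, inv_smul_eq_iff] at h1
  exact h1

theorem cent_inv {t : G} : ∀ g ∈ Subgroup.centralizer ({t} : Set G), ∀ x ∈ Fx G (Ω := Ω) ({t} : Set G), g • x ∈ Fx G ({t} : Set G) := by
  intro g hg x hx
  refine smul_Fx (fun s hs => ?_) hx
  rw [Set.mem_singleton_iff] at hs ⊢
  subst hs
  rw [Subgroup.mem_centralizer_singleton_iff] at hg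
  rw [mul_assoc, ← hg]; group

/-- the group induced by `C(t)` on `Fix(t)` -/
def CB (G : Type u) (Ω : Type v) [Group G] [MulAction G Ω] (t : G) : Subgroup (Equiv.Perm (Fx G (Ω := Ω) ({t} : Set G))) :=
  (resHom (Subgroup.centralizer ({t} : Set G)) (Fx G (Ω := Ω) ({t} : Set G)) cent_inv).range

/-- image in `CB` -/
def cb (Ω : Type v) [MulAction G Ω] {t g : G} (hg : g ∈ Subgroup.centralizer ({t} : Set G)) : CB G Ω t :=
  ⟨resHom _ _ cent_inv ⟨g, hg⟩, ⟨⟨g, hg⟩, rfl⟩⟩

/-- the centralizer of `t` in the normalizer of `V` -/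
def NT (V : Subgroup G) (t : G) : Subgroup G := Subgroup.normalizer (V : Set G) ⊓ Subgroup.centralizer ({t} : Set G)

theorem NT_inv {V : Subgroup G} {t : G} : ∀ g ∈ NT V t, ∀ x ∈ Fx G (Ω := Ω) (V : Set G), g • x ∈ Fx G (V : Set G) := by
  intro g hg x hx
  refine smul_Fx (fun s hs => ?_) hx
  have h1 := (Subgroup.mem_normalizer_iff.1 (Subgroup.inv_mem _ hg.1) s).1 hs
  rwa [inv_inv] at h1

/-- the group induced by `NT` on `Fix(V)` -/
def YB (G : Type u) (Ω : Type v) [Group G] [MulAction G Ω] (V : Subgroup G) (t : G) :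
    Subgroup (Equiv.Perm (Fx G (Ω := Ω) (V : Set G))) :=
  (resHom (NT V t) (Fx G (Ω := Ω) (V : Set G)) NT_inv).range

end H39.DA
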