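import Cfsg.Agent.Lib.H39.DA2

/-! Sharply doubly transitive groups of even degree (S3262, piece Q1). -/

set_option autoImplicit false

namespace H39.DA

open MulAction

universe u v

namespace Q1

variable {Y : Type u} {X : Type v} [Group Y] [Finite Y] [MulAction Y X] [Finite X]

theorem eq_of (h : Sh Y X) {g g' : Y} {x y : X} (hxy : x ≠ y) (h1 : g • x = g' • x) (h2 : g • y = g' • y) :
    g = g' := by
  have h3 := h.sh (g'⁻¹ * g) x y hxy (by rw [mul_smul, h1, inv_smul_smul]) (by rw [mul_smul, h2, inv_smul_smul])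
  exact (inv_mul_eq_one.1 h3).symm

theorem card_stab (h : Sh Y X) (x : X) : Nat.card (stabilizer Y x) = Nat.card X - 1 := by
  obtain ⟨a, b, hab⟩ := h.two
  obtain ⟨y, hy⟩ : ∃ y : X, y ≠ x := by
    by_cases hax : a = x
    · exact ⟨b, fun hb => hab (hax.trans hb.symm)⟩
    · exact ⟨a, hax⟩
  have e : stabilizer Y x ≃ {z : X // z ≠ x} := by
    refine Equiv.ofBijective (fun g => ⟨(g : Y) • y, fun hh => hy ?_⟩) ⟨?_, ?_⟩
    · have hg : (g : Y) • x = x := mem_stabilizer_iff.1 g.2
      exact smul_left_cancel (g : Y) (hh.trans hg.symm)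
    · intro g g' hgg
      have h1 : (g : Y) • y = (g' : Y) • y := congrArg Subtype.val hgg
      have h2 : (g : Y) • x = (g' : Y) • x := by
        rw [mem_stabilizer_iff.1 g.2, mem_stabilizer_iff.1 g'.2]
      exact Subtype.ext (eq_of h hy h1 h2)
    · rintro ⟨z, hz⟩
      obtain ⟨g, hg1, hg2⟩ := h.tr x y x z (Ne.symm hy) (Ne.symm hz)
      exact ⟨⟨g, mem_stabilizer_iff.2 hg1⟩, Subtype.ext hg2⟩
  rw [Nat.card_congr e]
  have : Fintype X := Fintype.ofFinite X
  classical
  rw [Nat.card_eq_fintype_card, Nat.card_eq_fintype_card, Fintype.card_subtype_compl, Fintype.card_subtype_eq]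

theorem card_all (h : Sh Y X) : Nat.card Y = Nat.card X * (Nat.card X - 1) := by
  obtain ⟨a, b, hab⟩ := h.two
  have htr : ∀ y : X, ∃ g : Y, g • a = y := by
    intro y
    by_cases hy : y = a
    · exact ⟨1, by rw [one_smul, hy]⟩
    · obtain ⟨g, hg, -⟩ := h.tr a b y a hab hy
      exact ⟨g, hg⟩
  have : IsPretransitive Y X := ⟨fun x y => by
    obtain ⟨g, hg⟩ := htr x
    obtain ⟨g', hg'⟩ := htr y
    exact ⟨g' * g⁻¹, by rw [mul_smul, ← hg, inv_smul_smul, hg']⟩⟩
  have h1 := (stabilizer Y a).card_mul_index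
  rw [index_stabilizer, card_stab h a] at h1
  have h2 : (orbit Y a) = Set.univ := MulAction.orbit_eq_univ Y a
  rw [h2, Set.ncard_univ] at h1
  rw [← h1, mul_comm]

theorem odd_stab (h : Sh Y X) (he : Even (Nat.card X)) (x : X) : Odd (Nat.card (stabilizer Y x)) := by
  rw [card_stab h x]
  have : 0 < Nat.card X := Nat.card_pos_iff.2 ⟨⟨x⟩, inferInstance⟩
  rcases he with ⟨k, hk⟩
  exact ⟨k - 1, by omega⟩

/-- involutions have no fixed points -/
theorem inv_fpf (h : Sh Y X) (he : Even (Nat.card X)) {w : Y} (hw : w * w = 1) {x : X} (hx : w • x = x) : w = 1 := by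
  have h1 := odd_stab h he x
  have h2 := Subgroup.orderOf_dvd_natCard (stabilizer Y x) (mem_stabilizer_iff.2 hx)
  have h3 : orderOf w ∣ 2 := orderOf_dvd_of_pow_eq_one (by rw [pow_two, hw])
  have h4 : orderOf w ∣ 1 := by
    rw [← (Nat.coprime_two_left.2 h1).gcd_eq_one]
    exact Nat.dvd_gcd h3 h2
  exact orderOf_eq_one_iff.1 (Nat.dvd_one.1 h4)

theorem exists_inv (h : Sh Y X) {x y : X} (hxy : x ≠ y) : ∃ w : Y, w * w = 1 ∧ w • x = y ∧ w • y = x := by
  obtain ⟨w, h1, h2⟩ := h.tr x y y x hxy (Ne.symm hxy)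
  refine ⟨w, h.sh _ x y hxy ?_ ?_, h1, h2⟩
  · rw [mul_smul, h1, h2]
  · rw [mul_smul, h2, h1]

theorem inv_unique (h : Sh Y X) {w w' : Y} (hw : w * w = 1) (hw' : w' * w' = 1) {x y : X} (hxy : x ≠ y)
    (h1 : w • x = y) (h2 : w' • x = y) : w = w' := by
  refine eq_of h hxy (h1.trans h2.symm) ?_
  rw [← h1, ← mul_smul, hw, one_smul, h1, ← h2, ← mul_smul, hw', one_smul]

/-- fixed point free elements are involutions -/
theorem fpf_sq (h : Sh Y X) (he : Even (Nat.card X)) {g : Y} (hg : ∀ x : X, g • x ≠ x) : g * g = 1 := by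
  obtain ⟨x, _, _⟩ := h.two
  obtain ⟨w, hw, hw1, hw2⟩ := exists_inv h (Ne.symm (hg x))
  by_contra hcon
  have hs1 : (w * g) • x = x := by rw [mul_smul, hw2]
  have hs : w * g ≠ 1 := by
    intro h1
    have : g = w := by
      have h2 : w * (w * g) = w := by rw [h1, mul_one]
      rwa [← mul_assoc, hw, one_mul] at h2
    rw [this] at hcon
    exact hcon hw
  have key : ∀ z : {z : X // z ≠ x}, ∃ w' : Y, w' * w' = 1 ∧ w' • (z : X) = (w * g) • (z : X) ∧ w' • x ≠ x := by
    intro z
    have h1 : (z : X) ≠ (w * g) • (z : X) := fun hh => hs (h.sh _ z x z.2 hh.symm hs1)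
    obtain ⟨w', h2, h3, -⟩ := exists_inv h h1
    refine ⟨w', h2, h3, fun h4 => h1 ?_⟩
    have := inv_fpf h he h2 h4
    rw [← h3, this, one_smul]
  choose W hW1 hW2 hW3 using key
  let f : {z : X // z ≠ x} → {z : X // z ≠ x} := fun z => ⟨W z • x, hW3 z⟩
  have hf : Function.Injective f := by
    intro z z' hzz
    have h1 : W z • x = W z' • x := congrArg Subtype.val hzz
    have h2 : W z = W z' := inv_unique h (hW1 z) (hW1 z') (Ne.symm (hW3 z')) h1 rfl
    by_contra hne
    have hne' : (z : X) ≠ z' := fun hh => hne (Subtype.ext hh)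
    have h3 : W z = w * g := eq_of h hne' (hW2 z) (by rw [h2]; exact hW2 z')
    exact hW3 z (by rw [h3]; exact hs1)
  have hsurj := Finite.surjective_of_injective hf
  obtain ⟨z, hz⟩ := hsurj ⟨w • x, by rw [hw1]; exact hg x⟩
  have h1 : W z • x = w • x := congrArg Subtype.val hz
  have h2 : W z = w := inv_unique h (hW1 z) hw (by rw [hw1]; exact Ne.symm (hg x)) h1 rfl
  have h3 : w • (z : X) = (w * g) • (z : X) := by
    have h4 := hW2 z
    rwa [h2] at h4
  rw [mul_smul] at h3
  exact hg z (smul_left_cancel w h3).symm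

end Q1

open Q1

theorem sh_even {Y : Type u} {X : Type v} [Group Y] [Finite Y] [MulAction Y X] [Finite X] (h : Sh Y X)
    (he : Even (Nat.card X)) : Nat.card Y = Nat.card X * (Nat.card X - 1) ∧
      ∃ (k : ℕ) (F : Subgroup Y), 1 ≤ k ∧ Nat.card X = 2 ^ k ∧ Reg Y X F ∧
      (∀ g ∈ F, g * g = 1) ∧ (∀ g : Y, (∀ x : X, g • x ≠ x) → g ∈ F) ∧
      (∀ g ∈ F, g ≠ 1 → ∀ g' ∈ F, g' ≠ 1 → ∃ y : Y, y * g * y⁻¹ = g') ∧
      (2 < Nat.card X → ∀ H : Subgroup Y, H.index ≠ 2) := by
  refine ⟨card_all h, ?_⟩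
  let F : Subgroup Y :=
    { carrier := {g | g * g = 1}
      one_mem' := by simp
      mul_mem' := by
        intro a b ha hb
        simp only [Set.mem_ofPred_eq] at ha hb ⊢
        by_cases hab : a = b
        · rw [hab, hb, one_mul]
        · refine fpf_sq h he (fun x hx => hab ?_)
          have h1 : b • x = a • x := by
            rw [mul_smul] at hx
            have := congrArg (fun z => a • z) hx
            simpa only [← mul_smul, ha, one_smul, ← mul_assoc, one_mul] using this
          by_cases h2 : a • x = x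
          · have h3 := inv_fpf h he ha h2
            have h4 := inv_fpf h he hb (h1.trans h2)
            rw [h3, h4]
          · exact inv_unique h ha hb (Ne.symm h2) rfl h1
      inv_mem' := by
        intro a ha
        simp only [Set.mem_ofPred_eq] at ha ⊢
        rw [← mul_inv_rev, ha, inv_one] }
  have hF : ∀ g : Y, g ∈ F ↔ g * g = 1 := fun g => Iff.rfl
  have hreg : Reg Y X F := by
    refine ⟨⟨fun n hn g => ?_⟩, fun x y => ?_, fun g hg x hx => inv_fpf h he ((hF g).1 hg) hx⟩
    · rw [hF] at hn ⊢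
      calc g * n * g⁻¹ * (g * n * g⁻¹) = g * (n * n) * g⁻¹ := by group
        _ = 1 := by rw [hn]; group
    · by_cases hxy : x = y
      · exact ⟨1, F.one_mem, by rw [one_smul, hxy]⟩
      · obtain ⟨w, hw, h1, -⟩ := exists_inv h hxy
        exact ⟨w, hw, h1⟩
  obtain ⟨a, b, hab⟩ := h.two
  have hcardF : Nat.card F = Nat.card X := by
    refine Nat.card_congr (Equiv.ofBijective (fun g : F => (g : Y) • a) ⟨?_, ?_⟩)
    · intro g g' hgg
      have h1 : (g : Y) • a = (g' : Y) • a := hgg
      have h2 := hreg.2.2 ((g' : Y)⁻¹ * g) (F.mul_mem (F.inv_mem g'.2) g.2) a (by rw [mul_smul, h1, inv_smul_smul])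
      exact Subtype.ext (inv_mul_eq_one.1 h2).symm
    · intro y
      obtain ⟨g, hg, hgy⟩ := hreg.2.1 a y
      exact ⟨⟨g, hg⟩, hgy⟩
  have hp : IsPGroup 2 F := fun g => ⟨1, by
    rw [pow_one, pow_two]
    exact Subtype.ext ((hF (g : Y)).1 g.2)⟩
  have : Fact (Nat.Prime 2) := ⟨Nat.prime_two⟩
  obtain ⟨k, hk⟩ := IsPGroup.iff_card.1 hp
  rw [hcardF] at hk
  have hk1 : 1 ≤ k := by
    rcases Nat.eq_zero_or_pos k with h0 | h0
    · rw [h0, pow_zero] at hk
      have : Subsingleton X := (Nat.card_eq_one_iff_unique.1 hk).1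
      exact absurd (Subsingleton.elim a b) hab
    · exact h0
  refine ⟨k, F, hk1, hk, hreg, fun g hg => (hF g).1 hg, fun g hg => fpf_sq h he hg, ?_, ?_⟩
  · intro g hg hg1 g' hg' hg1'
    have h1 : g • a ≠ a := fun hh => hg1 (inv_fpf h he ((hF g).1 hg) hh)
    have h2 : g' • a ≠ a := fun hh => hg1' (inv_fpf h he ((hF g').1 hg') hh)
    obtain ⟨s, hs1, hs2⟩ := h.tr a (g • a) a (g' • a) (Ne.symm h1) (Ne.symm h2)
    refine ⟨s, ?_⟩
    have hsa : s⁻¹ • a = a := by rw [inv_smul_eq_iff, hs1]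
    refine inv_unique h ?_ ((hF g').1 hg') (x := a) (y := g' • a) (Ne.symm h2) ?_ rfl
    · calc s * g * s⁻¹ * (s * g * s⁻¹) = s * (g * g) * s⁻¹ := by group
        _ = 1 := by rw [(hF g).1 hg]; group
    · rw [mul_smul, mul_smul, hsa, hs2]
  · intro hn H hH
    have hst : ∀ s : Y, ∀ x : X, s • x = x → s ∈ H := by
      intro s x hx
      have h1 := odd_stab h he x
      have h2 := Subgroup.orderOf_dvd_natCard (stabilizer Y x) (mem_stabilizer_iff.2 hx)
      have h3 : Odd (orderOf s) := Odd.of_dvd_nat h1 h2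
      obtain ⟨m, hm⟩ := h3
      have h4 : (s ^ 2) ^ (m + 1) = s := by
        rw [← pow_mul, show 2 * (m + 1) = orderOf s + 1 by omega, pow_succ, pow_orderOf_eq_one, one_mul]
      rw [← h4]
      exact H.pow_mem (Subgroup.sq_mem_of_index_two hH s) _
    have htop : H = ⊤ := by
      rw [eq_top_iff]
      intro g _
      by_cases hga : g • a = a
      · exact hst g a hga
      · obtain ⟨y, hy1, hy2⟩ : ∃ y : X, y ≠ a ∧ y ≠ g • a := by
          by_contra hcon
          push Not at hcon
          have : Fintype X := Fintype.ofFinite X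
          classical
          have h1 : (Finset.univ : Finset X) ⊆ {a, g • a} := by
            intro y _
            rw [Finset.mem_insert, Finset.mem_singleton]
            by_cases hy : y = a
            · exact Or.inl hy
            · exact Or.inr (hcon y hy)
          have h2 := Finset.card_le_card h1
          have h3 : ({a, g • a} : Finset X).card ≤ 2 := Finset.card_le_two
          rw [Finset.card_univ, ← Nat.card_eq_fintype_card] at h2
          omega
        obtain ⟨s, hs1, hs2⟩ := h.tr y a y (g • a) hy1 hy2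
        have h1 : s ∈ H := hst s y hs1
        have h2 : s⁻¹ * g ∈ H := hst _ a (by rw [mul_smul, ← hs2, inv_smul_smul])
        have h3 := H.mul_mem h1 h2
        rwa [mul_inv_cancel_left] at h3
    rw [htop, Subgroup.index_top] at hH
    norm_num at hH

end H39.DA
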