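import Cfsg.Agent.Lib.H39.DAQ1

/-! Sharply doubly transitive groups of odd degree: involutions (S3262, piece Q2a). -/

set_option autoImplicit false

namespace H39.DA

open MulAction

universe u v

namespace Q2a

open Q1

variable {Y : Type u} {X : Type v} [Group Y] [Finite Y] [MulAction Y X] [Finite X]

/-- an involution fixes exactly one point -/
theorem fix_one (h : Sh Y X) (ho : Odd (Nat.card X)) {w : Y} (hw : Inv w) : ∃ c : X, ∀ x : X, w • x = x ↔ x = c := by
  have : Fintype X := Fintype.ofFinite X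
  classical
  let f : Equiv.Perm X := MulAction.toPerm w
  have hf : f ^ 2 ^ 1 = 1 := by
    rw [pow_one, pow_two]
    ext x
    show w • w • x = x
    rw [← mul_smul, hw.2, one_smul]
  have : Fact (Nat.Prime 2) := ⟨Nat.prime_two⟩
  have hnd : ¬ 2 ∣ Fintype.card X := by
    rw [← Nat.card_eq_fintype_card, Nat.dvd_iff_mod_eq_zero, Nat.odd_iff.1 ho]
    norm_num
  obtain ⟨c, hc⟩ := Equiv.Perm.exists_fixed_point_of_prime (p := 2) (n := 1) hnd hf
  have hc' : w • c = c := hc
  refine ⟨c, fun x => ⟨fun hx => ?_, fun hx => by rw [hx]; exact hc'⟩⟩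
  by_contra hne
  exact hw.1 (h.sh w x c hne hx hc')

theorem exists_w (h : Sh Y X) {x y : X} (hxy : x ≠ y) : ∃ w : Y, Inv w ∧ w • x = y ∧ w • y = x := by
  obtain ⟨w, hw, h1, h2⟩ := exists_inv h hxy
  refine ⟨w, ⟨fun h3 => hxy ?_, hw⟩, h1, h2⟩
  rw [← h1, h3, one_smul]

/-- the involutions with a given fixed point coincide -/
theorem unique_of_fix (h : Sh Y X) (ho : Odd (Nat.card X)) : ∀ {w w' : Y}, Inv w → Inv w' → ∀ {c : X}, w • c = c → w' • c = c → w = w' := by
  -- for every `c` choose one involution with fixed point `c`; count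
  intro w w' hw hw' c hc hc'
  have : Fintype X := Fintype.ofFinite X
  classical
  by_contra hne
  -- the pairs `{x, y}`: every involution swaps `(n - 1) / 2` pairs; there are at least `n` involutions
  -- map (involution, moved point) → ordered pairs of distinct points, injective
  have hcf : ∀ g : {g : Y // Inv g}, ∃ c : X, ∀ x : X, (g : Y) • x = x ↔ x = c := fun g => fix_one h ho g.2
  choose C hC using hcf
  -- surjectivity of `C`
  have hsurj : Function.Surjective C := by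
    intro y
    obtain ⟨s, hs⟩ : ∃ s : Y, s • C ⟨w, hw⟩ = y := by
      obtain ⟨a, b, hab⟩ := h.two
      by_cases hy : y = C ⟨w, hw⟩
      · exact ⟨1, by rw [one_smul, hy]⟩
      · obtain ⟨z, hz⟩ : ∃ z : X, z ≠ C ⟨w, hw⟩ := ⟨y, hy⟩
        obtain ⟨s, hs, -⟩ := h.tr (C ⟨w, hw⟩) z y (C ⟨w, hw⟩) (Ne.symm hz) hy
        exact ⟨s, hs⟩
    have hi : Inv (s * w * s⁻¹) := by
      refine ⟨fun h1 => hw.1 ?_, ?_⟩
      · have : w = s⁻¹ * (s * w * s⁻¹) * s := by group
        rw [this, h1]; group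
      · calc s * w * s⁻¹ * (s * w * s⁻¹) = s * (w * w) * s⁻¹ := by group
          _ = 1 := by rw [hw.2]; group
    refine ⟨⟨_, hi⟩, ?_⟩
    symm
    refine (hC ⟨_, hi⟩ y).1 ?_
    show (s * w * s⁻¹) • y = y
    rw [mul_smul, mul_smul, ← hs, inv_smul_smul, (hC ⟨w, hw⟩ _).2 rfl]
  -- the number of involutions is `n`
  have hpair : ∀ (g g' : {g : Y // Inv g}) (x : X), (g : Y) • x ≠ x → (g : Y) • x = (g' : Y) • x → g = g' := by
    intro g g' x hx hgg
    exact Subtype.ext (inv_unique h g.2.2 g'.2.2 (Ne.symm hx) rfl hgg.symm)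
  let P := {p : {g : Y // Inv g} × X // p.2 ≠ C p.1}
  let Q := {q : X × X // q.1 ≠ q.2}
  have hPQ : Nat.card P ≤ Nat.card Q := by
    refine Nat.card_le_card_of_injective (fun p : P => (⟨(p.1.2, (p.1.1 : Y) • p.1.2), fun hh => p.2 ((hC _ _).1 hh.symm)⟩ : Q)) ?_
    rintro ⟨⟨g, x⟩, hp⟩ ⟨⟨g', x'⟩, hp'⟩ hh
    have h1 : (x, (g : Y) • x) = (x', (g' : Y) • x') := congrArg Subtype.val hh
    rw [Prod.mk.injEq] at h1
    obtain ⟨h2, h3⟩ := h1
    subst h2
    have h4 := hpair g g' x (fun h5 => hp ((hC _ _).1 h5)) h3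
    subst h4
    rfl
  have hP : Nat.card P = Nat.card {g : Y // Inv g} * (Nat.card X - 1) := by
    have e : P ≃ Σ g : {g : Y // Inv g}, {x : X // x ≠ C g} :=
      { toFun := fun p => ⟨p.1.1, ⟨p.1.2, p.2⟩⟩
        invFun := fun q => ⟨(q.1, q.2.1), q.2.2⟩
        left_inv := fun p => rfl
        right_inv := fun q => rfl }
    have : Fintype Y := Fintype.ofFinite Y
    rw [Nat.card_congr e, Nat.card_sigma]
    have hx : ∀ g : {g : Y // Inv g}, Nat.card {x : X // x ≠ C g} = Nat.card X - 1 := by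
      intro g
      rw [Nat.card_eq_fintype_card, Nat.card_eq_fintype_card, Fintype.card_subtype_compl, Fintype.card_subtype_eq]
    rw [Finset.sum_congr rfl (fun g _ => hx g), Finset.sum_const, smul_eq_mul, Finset.card_univ, ← Nat.card_eq_fintype_card]
  have hQ : Nat.card Q = Nat.card X * (Nat.card X - 1) := by
    have e : Q ≃ Σ x : X, {y : X // y ≠ x} :=
      { toFun := fun q => ⟨q.1.1, ⟨q.1.2, Ne.symm q.2⟩⟩
        invFun := fun q => ⟨(q.1, q.2.1), Ne.symm q.2.2⟩
        left_inv := fun p => rfl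
        right_inv := fun q => rfl }
    rw [Nat.card_congr e, Nat.card_sigma]
    have hx : ∀ x : X, Nat.card {y : X // y ≠ x} = Nat.card X - 1 := by
      intro g
      rw [Nat.card_eq_fintype_card, Nat.card_eq_fintype_card, Fintype.card_subtype_compl, Fintype.card_subtype_eq]
    rw [Finset.sum_congr rfl (fun g _ => hx g), Finset.sum_const, smul_eq_mul, Finset.card_univ, ← Nat.card_eq_fintype_card]
  have h2 : 2 ≤ Nat.card X := by
    obtain ⟨a, b, hab⟩ := h.two
    rw [Nat.card_eq_fintype_card]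
    exact Fintype.one_lt_card_iff.2 ⟨a, b, hab⟩
  have hle : Nat.card {g : Y // Inv g} ≤ Nat.card X := by
    rw [hP, hQ] at hPQ
    exact Nat.le_of_mul_le_mul_right hPQ (by omega)
  have hbij : Function.Injective C := by
    have : Fintype Y := Fintype.ofFinite Y
    have h3 := Nat.card_le_card_of_surjective C hsurj
    have h4 : Nat.card {g : Y // Inv g} = Nat.card X := le_antisymm hle h3
    rw [Nat.card_eq_fintype_card, Nat.card_eq_fintype_card] at h4
    exact ((Fintype.bijective_iff_surjective_and_card C).2 ⟨hsurj, h4⟩).1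
  have h5 : C ⟨w, hw⟩ = C ⟨w', hw'⟩ := by
    rw [← (hC ⟨w, hw⟩ c).1 hc, ← (hC ⟨w', hw'⟩ c).1 hc']
  exact hne (congrArg Subtype.val (hbij h5))

theorem sh_odd_inv {Y : Type u} {X : Type v} [Group Y] [Finite Y] [MulAction Y X] [Finite X] (h : Sh Y X)
    (ho : Odd (Nat.card X)) : (∀ g g' : Y, Inv g → Inv g' → g * g' = g' * g → g = g') ∧
      (∀ g g' : Y, Inv g → Inv g' → ∃ y : Y, y * g * y⁻¹ = g') ∧
      (∀ g : Y, Inv g → ∃ c : X, ∀ x : X, g • x = x ↔ x = c) ∧
      (∀ x y : X, x ≠ y → ∃ g : Y, Inv g ∧ g • x = y) := by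
  refine ⟨?_, ?_, fun g hg => fix_one h ho hg, ?_⟩
  · intro g g' hg hg' hcomm
    obtain ⟨c, hc⟩ := fix_one h ho hg
    refine unique_of_fix h ho hg hg' ((hc c).2 rfl) ?_
    apply (hc (g' • c)).1
    rw [← mul_smul, hcomm, mul_smul, (hc c).2 rfl]
  · intro g g' hg hg'
    obtain ⟨c, hc⟩ := fix_one h ho hg
    obtain ⟨c', hc'⟩ := fix_one h ho hg'
    obtain ⟨s, hs⟩ : ∃ s : Y, s • c = c' := by
      by_cases hy : c' = c
      · exact ⟨1, by rw [one_smul, hy]⟩
      · obtain ⟨s, hs, -⟩ := h.tr c c' c' c (Ne.symm hy) hy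
        exact ⟨s, hs⟩
    refine ⟨s, unique_of_fix h ho ⟨fun h1 => hg.1 ?_, ?_⟩ hg' (c := c') ?_ ((hc' c').2 rfl)⟩
    · have : g = s⁻¹ * (s * g * s⁻¹) * s := by group
      rw [this, h1]; group
    · calc s * g * s⁻¹ * (s * g * s⁻¹) = s * (g * g) * s⁻¹ := by group
        _ = 1 := by rw [hg.2]; group
    · rw [mul_smul, mul_smul, ← hs, inv_smul_smul, (hc c).2 rfl]
  · intro x y hxy
    obtain ⟨w, hw, h1, -⟩ := exists_w h hxy
    exact ⟨w, hw, h1⟩

end Q2a

end H39.DA
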