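import Cfsg.Agent.Lib.H39.DA2
import Cfsg.Agent.Lib.H5.ZStar
import Cfsg.Agent.Lib.H1.FrobThm

/-!
S3262, piece Q3: regular normal subgroup from a class of involutions with exactly one fixed point.
-/

set_option autoImplicit false
set_option linter.unusedVariables false

open MulAction
open scoped Pointwise

universe u v

namespace H39.DA

namespace Q3

theorem odd_mul {M : Type u} [Group M] [Finite M] {w : M} (hw1 : w ≠ 1) (hw : w * w = 1)
    (hiso : ∀ g : M, w * (g * w * g⁻¹) = (g * w * g⁻¹) * w → g * w * g⁻¹ = w) (g : M) :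
    Odd (orderOf (w * (g * w * g⁻¹))) := by
  set v := g * w * g⁻¹ with hv
  have hvv : v * v = 1 := by
    have : v * v = g * (w * w) * g⁻¹ := by rw [hv]; group
    rw [this, hw]; group
  have hwi : w⁻¹ = w := inv_eq_of_mul_eq_one_left hw
  have hvi : v⁻¹ = v := inv_eq_of_mul_eq_one_left hvv
  set y := w * v with hy
  have hyi : y⁻¹ = v * w := by rw [hy, mul_inv_rev w v, hwi, hvi]
  have hyw : w * y * w⁻¹ = y⁻¹ := by
    rw [hyi, hwi, hy, ← mul_assoc, hw, one_mul]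
  have hyv : v * y * v⁻¹ = y⁻¹ := by
    rw [hyi, hy]
    clear_value v
    group
  have hcw : ∀ i : ℕ, w * (y ^ i)⁻¹ * w⁻¹ = y ^ i := by
    intro i
    have h1 : w * (y ^ i)⁻¹ * w⁻¹ = ((w * y * w⁻¹) ^ i)⁻¹ := by rw [conj_pow]; group
    rw [h1, hyw, inv_pow, inv_inv]
  have hcv : ∀ i : ℕ, v * (y ^ i)⁻¹ * v⁻¹ = y ^ i := by
    intro i
    have h1 : v * (y ^ i)⁻¹ * v⁻¹ = ((v * y * v⁻¹) ^ i)⁻¹ := by rw [conj_pow]; group
    rw [h1, hyv, inv_pow, inv_inv]
  rw [← Nat.not_even_iff_odd]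
  rintro ⟨k, hk⟩
  have hpos := orderOf_pos y
  have hk0 : k ≠ 0 := by omega
  have hyk : y ^ k ≠ 1 := pow_ne_one_of_lt_orderOf hk0 (by omega)
  have hyk2 : y ^ k * y ^ k = 1 := by rw [← pow_add, ← hk, pow_orderOf_eq_one]
  have hyki : (y ^ k)⁻¹ = y ^ k := inv_eq_of_mul_eq_one_left hyk2
  have hcomm : w * y ^ k = y ^ k * w := by
    have h1 := hcw k
    rw [hyki] at h1
    calc w * y ^ k = (w * y ^ k * w⁻¹) * w := by group
      _ = y ^ k * w := by rw [h1]
  have key : ∃ g' : M, g' * w * g'⁻¹ = y ^ k * w := by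
    rcases Nat.even_or_odd' k with ⟨i, hi | hi⟩
    · refine ⟨y ^ i, ?_⟩
      calc y ^ i * w * (y ^ i)⁻¹ = y ^ i * (w * (y ^ i)⁻¹ * w⁻¹) * w := by group
        _ = y ^ k * w := by rw [hcw i, ← pow_add, hi, two_mul]
    · refine ⟨y ^ (i + 1) * g, ?_⟩
      calc y ^ (i + 1) * g * w * (y ^ (i + 1) * g)⁻¹ = y ^ (i + 1) * (v * (y ^ (i + 1))⁻¹ * v⁻¹) * v := by
            rw [hv]; group
        _ = y ^ k * (y * v) := by
            rw [hcv (i + 1), ← pow_add, hi, show i + 1 + (i + 1) = (2 * i + 1) + 1 by ring, pow_succ y (2 * i + 1), mul_assoc]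
        _ = y ^ k * w := by rw [hy, mul_assoc, hvv, mul_one]
  obtain ⟨g', hg'⟩ := key
  have h1 := hiso g' (by rw [hg', ← mul_assoc, hcomm])
  rw [hg'] at h1
  exact hyk (mul_eq_right.1 h1)

/-- a nontrivial normal subgroup of a doubly transitive group is transitive -/
theorem trans_normal {M : Type u} {X : Type v} [Group M] [MulAction M X] (h : TT M X) {N : Subgroup M} (hN : N.Normal)
    (h1 : N ≠ ⊥) (x y : X) : ∃ n ∈ N, n • x = y := by
  by_cases hxy : x = y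
  · exact ⟨1, N.one_mem, by rw [one_smul, hxy]⟩
  obtain ⟨n, hn, hn1⟩ := N.bot_or_exists_ne_one.resolve_left h1
  have h2 : ∃ x0 : X, n • x0 ≠ x0 := by
    by_contra hcon
    push Not at hcon
    exact hn1 (h.faith n hcon)
  obtain ⟨x0, hx0⟩ := h2
  obtain ⟨g, hg1, hg2⟩ := h.tr x0 (n • x0) x y hx0.symm hxy
  refine ⟨g * n * g⁻¹, hN.conj_mem n hn g, ?_⟩
  rw [mul_smul, mul_smul, ← hg1, inv_smul_smul, hg2]

/-- abelian of prime exponent -/
theorem of_reg {M : Type u} {X : Type v} [Group M] [Finite M] [MulAction M X] [Finite X] (h : TT M X)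
    {E : Subgroup M} (hE : Reg M X E) (c : X) :
    ∃ (r k : ℕ), r.Prime ∧ 1 ≤ k ∧ Nat.card X = r ^ k ∧
      (∀ g ∈ E, ∀ g' ∈ E, g * g' = g' * g) ∧ (∀ g ∈ E, g ^ r = 1) := by
  obtain ⟨hEn, hEt, hEr⟩ := hE
  have hcard : Nat.card E = Nat.card X := by
    apply Nat.card_congr
    refine Equiv.ofBijective (fun e : E => (e : M) • c) ⟨?_, ?_⟩
    · intro e e' hee
      have h1 : ((e' : M)⁻¹ * e) • c = c := by
        rw [mul_smul, inv_smul_eq_iff]; exact hee
      have h2 := hEr _ (E.mul_mem (E.inv_mem e'.2) e.2) c h1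
      exact Subtype.ext (inv_mul_eq_one.1 h2).symm
    · intro x
      obtain ⟨g, hg, hgx⟩ := hEt c x
      exact ⟨⟨g, hg⟩, hgx⟩
  have hX : 1 < Nat.card X := by
    obtain ⟨a, b, hab⟩ := h.two
    haveI : Nontrivial X := ⟨a, b, hab⟩
    exact Finite.one_lt_card
  have hconj : ∀ e ∈ E, e ≠ 1 → ∀ e' ∈ E, e' ≠ 1 → ∃ g : M, g * e * g⁻¹ = e' := by
    intro e he he1 e' he' he1'
    have h1 : c ≠ e • c := fun h2 => he1 (hEr e he c h2.symm)
    have h2 : c ≠ e' • c := fun h2 => he1' (hEr e' he' c h2.symm)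
    obtain ⟨g, hg1, hg2⟩ := h.tr c (e • c) c (e' • c) h1 h2
    refine ⟨g, ?_⟩
    have h3 : (g * e * g⁻¹) • c = e' • c := by
      rw [mul_smul, mul_smul]
      have h4 : g⁻¹ • c = c := by rw [inv_smul_eq_iff, hg1]
      rw [h4, hg2]
    have h4 : (e'⁻¹ * (g * e * g⁻¹)) • c = c := by rw [mul_smul, h3, inv_smul_smul]
    have h5 := hEr _ (E.mul_mem (E.inv_mem he') (hEn.conj_mem e he g)) c h4
    exact (inv_mul_eq_one.1 h5).symm
  have hne : E ≠ ⊥ := by
    intro hb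
    rw [hb, Subgroup.card_bot] at hcard
    omega
  obtain ⟨e0, he0, he01⟩ := E.bot_or_exists_ne_one.resolve_left hne
  -- an element of prime order
  have ho : orderOf e0 ≠ 1 := fun h1 => he01 (orderOf_eq_one_iff.1 h1)
  obtain ⟨r, hr, hrd⟩ := Nat.exists_prime_and_dvd ho
  obtain ⟨m, hm⟩ := hrd
  have hpos := orderOf_pos e0
  have he1o : (e0 ^ m) ^ r = 1 := by rw [← pow_mul, mul_comm m r, ← hm, pow_orderOf_eq_one]
  have he1n : e0 ^ m ≠ 1 := by
    have hm0 : m ≠ 0 := by rintro rfl; omega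
    apply pow_ne_one_of_lt_orderOf hm0
    rw [hm]
    have := hr.two_le
    have hmp : 0 < m := Nat.pos_of_ne_zero hm0
    nlinarith
  have hexp : ∀ g ∈ E, g ^ r = 1 := by
    intro g hg
    by_cases hg1 : g = 1
    · rw [hg1, one_pow]
    obtain ⟨y, hy⟩ := hconj _ (E.pow_mem he0 m) he1n g hg hg1
    rw [← hy, conj_pow, he1o]; group
  haveI : Fact r.Prime := ⟨hr⟩
  have hpg : IsPGroup r E := fun g => ⟨1, by
    rw [pow_one]; exact Subtype.ext (hexp g g.2)⟩
  obtain ⟨k, hk⟩ := IsPGroup.iff_card.1 hpg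
  haveI : Nontrivial E := by
    rw [← Finite.one_lt_card_iff_nontrivial, hcard]; exact hX
  haveI := hpg.center_nontrivial
  obtain ⟨z, hz⟩ := exists_ne (1 : Subgroup.center E)
  refine ⟨r, k, hr, ?_, by rw [← hcard, hk], ?_, hexp⟩
  · by_contra hk1
    have hk0 : k = 0 := by omega
    rw [hk0, pow_zero, hcard] at hk
    omega
  · intro g hg g' hg'
    by_cases hg1 : g = 1
    · rw [hg1, one_mul, mul_one]
    have hz1 : ((z : E) : M) ≠ 1 := by
      intro h1
      exact hz (Subtype.ext (Subtype.ext h1))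
    obtain ⟨y, hy⟩ := hconj _ (z : E).2 hz1 g hg hg1
    have h1 : (⟨y⁻¹ * g' * y, by
        have := hEn.conj_mem g' hg' y⁻¹
        rwa [inv_inv] at this⟩ : E) * (z : E) = (z : E) * ⟨y⁻¹ * g' * y, by
        have := hEn.conj_mem g' hg' y⁻¹
        rwa [inv_inv] at this⟩ := Subgroup.mem_center_iff.1 z.2 _
    have h2 : (y⁻¹ * g' * y) * ((z : E) : M) = ((z : E) : M) * (y⁻¹ * g' * y) := congrArg Subtype.val h1
    have h3 : g' * (y * ((z : E) : M) * y⁻¹) = (y * ((z : E) : M) * y⁻¹) * g' := by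
      calc g' * (y * ((z : E) : M) * y⁻¹) = y * ((y⁻¹ * g' * y) * ((z : E) : M)) * y⁻¹ := by group
        _ = y * (((z : E) : M) * (y⁻¹ * g' * y)) * y⁻¹ := by rw [h2]
        _ = (y * ((z : E) : M) * y⁻¹) * g' := by group
    rw [hy] at h3
    exact h3.symm

end Q3

open Q3 in
theorem reg_odd {M : Type u} {X : Type v} [Group M] [Finite M] [MulAction M X] [Finite X] (h : TT M X) (w : M) (hw : Inv w)
    (c : X) (hc : ∀ x : X, w • x = x ↔ x = c) (hu : ∀ g : M, (g * w * g⁻¹) • c = c → g * w * g⁻¹ = w)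
    (hO : ∀ N : Subgroup M, N.Normal → Odd (Nat.card N) → ∀ x y : X, x ≠ y → ∀ g ∈ N, g • x = x → g • y = y → g = 1) :
    ∃ (r k : ℕ) (E : Subgroup M), r.Prime ∧ 1 ≤ k ∧ Nat.card X = r ^ k ∧ Reg M X E ∧
      (∀ g ∈ E, ∀ g' ∈ E, g * g' = g' * g) ∧ (∀ g ∈ E, g ^ r = 1) := by
  classical
  have hwc : w • c = c := (hc c).2 rfl
  have hiso : ∀ g : M, w * (g * w * g⁻¹) = (g * w * g⁻¹) * w → g * w * g⁻¹ = w := by
    intro g hcm
    apply hu
    rw [← hc, ← mul_smul, hcm, mul_smul, hwc]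
  have hI : H5.ZStar1.IsoInv w :=
    ⟨orderOf_eq_prime (by rw [pow_two]; exact hw.2) hw.1, odd_mul hw.1 hw.2 hiso⟩
  have hz := H5.ZStar.zstar hI
  have hNn : (Cfsg.pPrimeCore 2 M).Normal := inferInstance
  have hNc := H1.Cores.coprime_card_pPrimeCore (G := M) 2
  set N : Subgroup M := Cfsg.pPrimeCore 2 M with hNdef
  have hNo : Odd (Nat.card N) := Nat.coprime_two_right.1 hNc
  have hN1 : N ≠ ⊥ := by
    intro hb
    obtain ⟨a, b, hab⟩ := h.two
    have hfix : ∀ x : X, x = c := by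
      intro x
      obtain ⟨g, hg⟩ : ∃ g : M, g • c = x := by
        by_cases hcx : c = x
        · exact ⟨1, by rw [one_smul, hcx]⟩
        · obtain ⟨g, hg, -⟩ := h.tr c x x c hcx (Ne.symm hcx)
          exact ⟨g, hg⟩
      have h1 := hz g
      rw [hb, Subgroup.mem_bot] at h1
      have h2 : g * w * g⁻¹ = w := by
        have h3 : w⁻¹ = w := inv_eq_of_mul_eq_one_left hw.2
        exact (eq_inv_of_mul_eq_one_right h1).trans h3
      rw [← hc, ← h2, mul_smul, mul_smul, ← hg, inv_smul_smul, hwc]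
    exact hab ((hfix a).trans (hfix b).symm)
  have hNt : ∀ x y : X, ∃ n ∈ N, n • x = y := trans_normal h hNn hN1
  -- the Frobenius kernel of `N`
  let H : Subgroup N := stabilizer N c
  have hH : ∀ n : N, n ∈ H ↔ (n : M) • c = c := fun n => Iff.rfl
  have hTI : H1.Frob.IsTIself H := by
    intro g hg
    rw [eq_bot_iff]
    intro x hx
    obtain ⟨hx1, hx2⟩ := Subgroup.mem_inf.1 hx
    have hx3 : g⁻¹ * x * g ∈ H := H1.SZ.mem_conj_smul.mp hx2
    rw [hH] at hx1 hx3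
    have h4 : (x : M) • ((g : M) • c) = (g : M) • c := by
      have : ((g : M)⁻¹ * (x : M) * (g : M)) • c = c := hx3
      rw [mul_smul, mul_smul, inv_smul_eq_iff] at this
      exact this
    have h5 := hO N hNn hNo c ((g : M) • c) (fun h6 => hg ((hH g).2 h6.symm)) x x.2 hx1 h4
    exact Subgroup.mem_bot.2 (Subtype.ext h5)
  obtain ⟨K, hK, hKn, hKc⟩ := H1.FrobThm.frobenius_kernel hTI
  have hKmem : ∀ n : N, n ∈ K ↔ (n = 1 ∨ ∀ x : X, (n : M) • x ≠ x) := by
    intro n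
    rw [← SetLike.mem_coe, hK]
    show (n = 1 ∨ ∀ g : N, n ∉ MulAut.conj g • H) ↔ _
    apply or_congr_right
    constructor
    · intro h1 x hx
      obtain ⟨g, hg, hgx⟩ := hNt c x
      apply h1 ⟨g, hg⟩
      rw [H1.SZ.mem_conj_smul, hH]
      show (g⁻¹ * (n : M) * g) • c = c
      rw [mul_smul, mul_smul, hgx, hx, ← hgx, inv_smul_smul]
    · intro h1 g hg
      rw [H1.SZ.mem_conj_smul, hH] at hg
      have h2 : ((g : M)⁻¹ * (n : M) * (g : M)) • c = c := hg
      rw [mul_smul, mul_smul, inv_smul_eq_iff] at h2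
      exact h1 _ h2
  let E : Subgroup M := K.map N.subtype
  have hEmem : ∀ e : M, e ∈ E ↔ e ∈ N ∧ (e = 1 ∨ ∀ x : X, e • x ≠ x) := by
    intro e
    constructor
    · rintro ⟨n, hn, rfl⟩
      refine ⟨n.2, ?_⟩
      rcases (hKmem n).1 hn with h1 | h1
      · left; rw [h1]; rfl
      · right; exact h1
    · rintro ⟨h1, h2⟩
      refine ⟨⟨e, h1⟩, (hKmem _).2 ?_, rfl⟩
      rcases h2 with h2 | h2
      · left; exact Subtype.ext h2
      · right; exact h2
  have hEn : E.Normal := by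
    refine ⟨fun e he g => ?_⟩
    rw [hEmem] at he ⊢
    refine ⟨hNn.conj_mem e he.1 g, ?_⟩
    rcases he.2 with h1 | h1
    · left; rw [h1]; group
    · right
      intro x hx
      apply h1 (g⁻¹ • x)
      rw [mul_smul, mul_smul, ← eq_inv_smul_iff] at hx
      exact hx
  have hEr : ∀ e ∈ E, ∀ x : X, e • x = x → e = 1 := by
    intro e he x hx
    rcases ((hEmem e).1 he).2 with h1 | h1
    · exact h1
    · exact absurd hx (h1 x)
  have hcardN : Nat.card X * Nat.card H = Nat.card N := by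
    have h1 : H.index = Nat.card X := by
      haveI : IsPretransitive N X := ⟨fun x y => by
        obtain ⟨n, hn, hnx⟩ := hNt x y
        exact ⟨⟨n, hn⟩, hnx⟩⟩
      exact index_stabilizer_of_transitive N c
    rw [← h1]; exact H.index_mul_card
  have hcardK : Nat.card K = Nat.card X := by
    have h1 := hKc.card_mul
    rw [← hcardN] at h1
    exact Nat.eq_of_mul_eq_mul_right Nat.card_pos h1
  have hbij : Function.Bijective (fun k : K => ((k : N) : M) • c) := by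
    rw [Nat.bijective_iff_injective_and_card]
    refine ⟨?_, hcardK⟩
    intro k k' hkk
    have h1 : ((((k' : N) : M))⁻¹ * ((k : N) : M)) • c = c := by
      rw [mul_smul, inv_smul_eq_iff]; exact hkk
    have h2 : (((k' : N) : M))⁻¹ * ((k : N) : M) ∈ E :=
      ⟨(k' : N)⁻¹ * (k : N), K.mul_mem (K.inv_mem k'.2) k.2, rfl⟩
    have h3 := hEr _ h2 c h1
    exact Subtype.ext (Subtype.ext (inv_mul_eq_one.1 h3).symm)
  have hEt : ∀ x y : X, ∃ g ∈ E, g • x = y := by
    intro x y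
    obtain ⟨k1, hk1⟩ := hbij.2 x
    obtain ⟨k2, hk2⟩ := hbij.2 y
    refine ⟨((k2 : N) : M) * (((k1 : N) : M))⁻¹, ⟨(k2 : N) * (k1 : N)⁻¹, K.mul_mem k2.2 (K.inv_mem k1.2), rfl⟩, ?_⟩
    rw [mul_smul, ← hk1, inv_smul_smul]; exact hk2
  have hReg : Reg M X E := ⟨hEn, hEt, hEr⟩
  obtain ⟨r, k, h1, h2, h3, h4, h5⟩ := of_reg h hReg c
  exact ⟨r, k, E, h1, h2, h3, hReg, h4, h5⟩

end H39.DA
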