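import Mathlib
import Cfsg.Agent.Lib.H39.DA2
import Cfsg.Agent.Lib.H55.BaerSuzuki

/-!
S3262, piece Q4: regular normal subgroup in the case of `2 ^ e` points.
-/

set_option autoImplicit false

open MulAction

universe u v

namespace H39.DA.Q4

variable {M : Type u} [Group M]

/-- the dihedral relation -/
theorem conj_d {w w' : M} (hw : w * w = 1) (hw' : w' * w' = 1) : w * (w * w') * w = (w * w')⁻¹ := by
  have h2 : w⁻¹ = w := inv_eq_of_mul_eq_one_left hw
  have h3 : w'⁻¹ = w' := inv_eq_of_mul_eq_one_left hw'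
  rw [mul_inv_rev, h2, h3, ← mul_assoc, hw, one_mul]

theorem conj_pow {w w' : M} (hw : w * w = 1) (hw' : w' * w' = 1) (k : ℤ) :
    w * (w * w') ^ k * w = ((w * w') ^ k)⁻¹ := by
  have h2 : w⁻¹ = w := inv_eq_of_mul_eq_one_left hw
  calc w * (w * w') ^ k * w = w * (w * w') ^ k * w⁻¹ := by rw [h2]
    _ = (w * (w * w') * w⁻¹) ^ k := by rw [conj_zpow]
    _ = ((w * w') ^ k)⁻¹ := by rw [h2, conj_d hw hw', inv_zpow]

theorem mem_closure_pair {w w' z : M} (hw : w * w = 1) (hw' : w' * w' = 1)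
    (hz : z ∈ Subgroup.closure ({w, w'} : Set M)) :
    (∃ k : ℤ, z = (w * w') ^ k) ∨ (∃ k : ℤ, z = w * (w * w') ^ k) := by
  have hc : ∀ k : ℤ, (w * w') ^ k * w = w * (w * w') ^ (-k) := by
    intro k
    have h1 := conj_pow hw hw' k
    calc (w * w') ^ k * w = (w * w) * ((w * w') ^ k * w) := by rw [hw, one_mul]
      _ = w * (w * (w * w') ^ k * w) := by group
      _ = w * (w * w') ^ (-k) := by rw [h1, zpow_neg]
  induction hz using Subgroup.closure_induction with
  | mem x hx =>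
    simp only [Set.mem_insert_iff, Set.mem_singleton_iff] at hx
    rcases hx with rfl | rfl
    · exact Or.inr ⟨0, by simp⟩
    · exact Or.inr ⟨1, by rw [zpow_one, ← mul_assoc, hw, one_mul]⟩
  | one => exact Or.inl ⟨0, by simp⟩
  | mul x y _ _ hx hy =>
    rcases hx with ⟨k, rfl⟩ | ⟨k, rfl⟩ <;> rcases hy with ⟨l, rfl⟩ | ⟨l, rfl⟩
    · exact Or.inl ⟨k + l, by rw [zpow_add]⟩
    · exact Or.inr ⟨-k + l, by rw [← mul_assoc, hc, zpow_add, mul_assoc]⟩
    · exact Or.inr ⟨k + l, by rw [zpow_add, mul_assoc]⟩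
    · refine Or.inl ⟨-k + l, ?_⟩
      calc w * (w * w') ^ k * (w * (w * w') ^ l) = w * ((w * w') ^ k * w) * (w * w') ^ l := by group
        _ = w * (w * (w * w') ^ (-k)) * (w * w') ^ l := by rw [hc]
        _ = (w * w) * ((w * w') ^ (-k) * (w * w') ^ l) := by group
        _ = (w * w') ^ (-k + l) := by rw [hw, one_mul, zpow_add]
  | inv x _ hx =>
    rcases hx with ⟨k, rfl⟩ | ⟨k, rfl⟩
    · exact Or.inl ⟨-k, by rw [zpow_neg]⟩
    · refine Or.inr ⟨k, ?_⟩
      have h2 : w⁻¹ = w := inv_eq_of_mul_eq_one_left hw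
      rw [mul_inv_rev, h2, ← zpow_neg, hc, neg_neg]

end H39.DA.Q4

namespace H39.DA

open H39.DA.Q4

theorem reg_even {M : Type u} {X : Type v} [Group M] [Finite M] [MulAction M X] [Finite X] (h : TT M X) (W : Set M)
    (hW : ∀ w ∈ W, Inv w) (hcl : ∀ g : M, ∀ w ∈ W, g * w * g⁻¹ ∈ W) (hfp : ∀ w ∈ W, ∀ x : X, w • x ≠ x)
    (hu : ∀ x y : X, x ≠ y → ∃ w ∈ W, w • x = y ∧ ∀ w' ∈ W, w' • x = y → w' = w)
    (e : ℕ) (he : Nat.card X = 2 ^ e) :
    ∃ E : Subgroup M, Reg M X E ∧ (∀ g ∈ E, ∀ g' ∈ E, g * g' = g' * g) := by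
  classical
  have inv_pow2 : ∀ w ∈ W, w⁻¹ = w := fun w hw => inv_eq_of_mul_eq_one_left (hW w hw).2
  -- the elements w * (w w')^k belong to W
  have hmem : ∀ w ∈ W, ∀ w' ∈ W, ∀ k : ℕ, w * (w * w') ^ k ∈ W ∧ w * (w * w') ^ (k + 1) ∈ W := by
    intro w hw w' hw' k
    induction k with
    | zero =>
      refine ⟨by simpa using hw, ?_⟩
      rw [zero_add, pow_one, ← mul_assoc, (hW w hw).2, one_mul]
      exact hw'
    | succ k ih =>
      refine ⟨ih.2, ?_⟩
      have h1 := hcl (w * w')⁻¹ _ ih.1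
      have h2 : (w * w')⁻¹ * (w * (w * w') ^ k) * (w * w')⁻¹⁻¹ = w * (w * w') ^ (k + 1 + 1) := by
        rw [inv_inv, ← conj_d (hW w hw).2 (hW w' hw').2]
        calc w * (w * w') * w * (w * (w * w') ^ k) * (w * w')
            = w * (w * w') * (w * w) * ((w * w') ^ k * (w * w')) := by group
          _ = w * (w * w') * ((w * w') ^ k * (w * w')) := by rw [(hW w hw).2, mul_one]
          _ = w * ((w * w') * (w * w') ^ (k + 1)) := by rw [← pow_succ, mul_assoc]
          _ = w * (w * w') ^ (k + 1 + 1) := by rw [← pow_succ']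
      rw [h2] at h1
      exact h1
  -- semiregularity
  have hsemi : ∀ w ∈ W, ∀ w' ∈ W, ∀ k : ℕ, ∀ x : X, (w * w') ^ k • x = x → (w * w') ^ k = 1 := by
    intro w hw w' hw' k x hx
    have h1 := (hmem w hw w' hw' k).1
    set w'' := w * (w * w') ^ k with hw''
    have h2 : (w * w') ^ k = w * w'' := by
      rw [hw'', ← mul_assoc, (hW w hw).2, one_mul]
    rw [h2, mul_smul] at hx
    have h3 : w'' • x = w • x := by
      have : w • (w • (w'' • x)) = w • x := by rw [hx]
      rwa [← mul_smul, (hW w hw).2, one_smul] at this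
    obtain ⟨v, hv, hvx, hvu⟩ := hu x (w • x) (fun hh => hfp w hw x hh.symm)
    have h4 : w'' = w := by rw [hvu w'' h1 h3, hvu w hw rfl]
    rw [h2, h4, (hW w hw).2]
  -- pairs generate 2-groups
  haveI : Fact (Nat.Prime 2) := ⟨Nat.prime_two⟩
  have hpair : ∀ w ∈ W, ∀ w' ∈ W, IsPGroup 2 (Subgroup.closure ({w, w'} : Set M)) := by
    intro w hw w' hw'
    have hord : (w * w') ^ (2 ^ e) = 1 := by
      have hfree : ∀ b : X, MulAction.stabilizer (Subgroup.zpowers (w * w')) b = ⊥ := by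
        intro b
        rw [eq_bot_iff]
        rintro ⟨z, hz⟩ hzb
        rw [MulAction.mem_stabilizer_iff] at hzb
        rw [Subgroup.mem_bot, Subtype.ext_iff]
        change z • b = b at hzb
        change z = 1
        obtain ⟨k, rfl⟩ := (mem_powers_iff_mem_zpowers.2 hz : z ∈ Submonoid.powers (w * w'))
        exact hsemi w hw w' hw' k b hzb
      have hcard := Nat.card_congr (MulAction.selfEquivOrbitsQuotientProd hfree)
      rw [Nat.card_prod, he, Nat.card_zpowers] at hcard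
      rw [hcard, mul_comm, pow_mul, pow_orderOf_eq_one, one_pow]
    rintro ⟨z, hz⟩
    have hzz : z ^ (2 ^ (e + 1)) = 1 := by
      rcases mem_closure_pair (hW w hw).2 (hW w' hw').2 hz with ⟨k, rfl⟩ | ⟨k, rfl⟩
      · rw [← zpow_natCast, ← zpow_mul, mul_comm, zpow_mul, zpow_natCast, pow_succ, pow_mul, hord, one_pow,
          one_zpow]
      · have h1 := conj_pow (hW w hw).2 (hW w' hw').2 k
        have h2 : (w * (w * w') ^ k) * (w * (w * w') ^ k) = 1 := by
          calc (w * (w * w') ^ k) * (w * (w * w') ^ k) = (w * (w * w') ^ k * w) * (w * w') ^ k := by group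
            _ = 1 := by rw [h1, inv_mul_cancel]
        rw [pow_succ, mul_comm, pow_mul, pow_two, h2, one_pow]
    exact ⟨e + 1, Subtype.ext (by simpa using hzz)⟩
  obtain ⟨P⟩ := (inferInstance : Nonempty (Sylow 2 M))
  have hWP : W ⊆ (P : Set M) := H55.BaerSuzuki.subset_sylow W hcl hpair P
  set N : Subgroup M := Subgroup.closure W with hN
  have hNn : N.Normal := by
    constructor
    intro n hn g
    have : Subgroup.map (MulAut.conj g).toMonoidHom (Subgroup.closure W) ≤ Subgroup.closure W := by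
      rw [MonoidHom.map_closure, Subgroup.closure_le]
      rintro _ ⟨y, hy, rfl⟩
      exact Subgroup.subset_closure (hcl g y hy)
    exact this ⟨n, hn, rfl⟩
  have hNp : IsPGroup 2 N := by
    apply P.2.to_le
    rw [hN, Subgroup.closure_le]
    exact hWP
  obtain ⟨x0, y0, hxy0⟩ := h.two
  obtain ⟨w0, hw0, -, -⟩ := hu x0 y0 hxy0
  have hNnt : Nontrivial N := by
    refine ⟨⟨⟨w0, Subgroup.subset_closure hw0⟩, 1, fun hh => (hW w0 hw0).1 ?_⟩⟩
    exact Subtype.ext_iff.1 hh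
  haveI := hNnt
  haveI := hNn
  have hZ := hNp.center_nontrivial
  set E : Subgroup M := (Subgroup.center N).map N.subtype with hE
  have hEn : E.Normal := by rw [hE]; infer_instance
  have hEab : ∀ g ∈ E, ∀ g' ∈ E, g * g' = g' * g := by
    rintro _ ⟨z, hz, rfl⟩ _ ⟨z', hz', rfl⟩
    have := Subgroup.mem_center_iff.1 hz' z
    exact congrArg Subtype.val this
  have hEnt : ∃ g ∈ E, g ≠ 1 := by
    obtain ⟨z, hz⟩ := exists_ne (1 : Subgroup.center N)
    refine ⟨((z : N) : M), ⟨z, z.2, rfl⟩, fun hh => hz ?_⟩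
    exact Subtype.ext (Subtype.ext hh)
  obtain ⟨g, hgE, hg1⟩ := hEnt
  have hmv : ∃ x : X, g • x ≠ x := by
    by_contra hcon
    push Not at hcon
    exact hg1 (h.faith g hcon)
  obtain ⟨x1, hx1⟩ := hmv
  have htr : ∀ x y : X, ∃ z ∈ E, z • x = y := by
    intro x y
    by_cases hxy : x = y
    · exact ⟨1, E.one_mem, by rw [one_smul, hxy]⟩
    · obtain ⟨k, hk1, hk2⟩ := h.tr x1 (g • x1) x y (Ne.symm hx1) hxy
      refine ⟨k * g * k⁻¹, hEn.conj_mem g hgE k, ?_⟩
      rw [mul_smul, mul_smul, ← hk1, inv_smul_smul, hk2]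
  refine ⟨E, ⟨hEn, htr, ?_⟩, hEab⟩
  intro z hz x hx
  apply h.faith
  intro y
  obtain ⟨k, hk, rfl⟩ := htr x y
  rw [← mul_smul, hEab z hz k hk, mul_smul, hx]

end H39.DA
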