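import Cfsg.Agent.Lib.H39.DA2

/-!
S3262, piece Q6a: Witt-type lemma for `t` and the counting formulas.
-/

set_option autoImplicit false

open MulAction

universe u v

namespace H39.DA

namespace Q6a

variable {G : Type u} {Ω : Type v} [Group G] [MulAction G Ω]

theorem witt (h : TT G Ω) {t : G} (ht : Inv t)
    (hf : ∀ a b : Ω, a ≠ b → ∀ s s' : G, Inv s → s ∈ St G a b → Inv s' → s' ∈ St G a b → ∃ g ∈ St G a b, g * s * g⁻¹ = s')
    (c d c' d' : Ω) (hcd : c ≠ d) (hcd' : c' ≠ d') (hc : t • c = c) (hd : t • d = d) (hc' : t • c' = c')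
    (hd' : t • d' = d') : ∃ g : G, g * t = t * g ∧ g • c = c' ∧ g • d = d' := by
  obtain ⟨g, hg1, hg2⟩ := h.tr c d c' d' hcd hcd'
  have hgc : g⁻¹ • c' = c := by rw [← hg1, inv_smul_smul]
  have hgd : g⁻¹ • d' = d := by rw [← hg2, inv_smul_smul]
  have h1 : Inv (g * t * g⁻¹) := by
    refine ⟨fun h0 => ht.1 ?_, ?_⟩
    · have := congrArg (fun x => g⁻¹ * x * g) h0
      simpa [mul_assoc] using this
    · have h2 : g * t * g⁻¹ * (g * t * g⁻¹) = g * (t * t) * g⁻¹ := by group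
      rw [h2, ht.2]; group
  have h2 : g * t * g⁻¹ ∈ St G c' d' := by
    refine ⟨?_, ?_⟩
    · change (g * t * g⁻¹) • c' = c'
      rw [mul_smul, mul_smul, hgc, hc, hg1]
    · change (g * t * g⁻¹) • d' = d'
      rw [mul_smul, mul_smul, hgd, hd, hg2]
  obtain ⟨x, hx, hxt⟩ := hf c' d' hcd' _ t h1 h2 ht ⟨hc', hd'⟩
  refine ⟨x * g, ?_, ?_, ?_⟩
  · have h3 : x * (g * t * g⁻¹) * x⁻¹ * (x * g) = t * (x * g) := by rw [hxt]
    rw [← h3]; group
  · rw [mul_smul, hg1]; exact hx.1
  · rw [mul_smul, hg2]; exact hx.2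

variable [Finite G] [Finite Ω]

theorem card_offdiag : Nat.card {p : Ω × Ω // p.1 ≠ p.2} = Nat.card Ω * (Nat.card Ω - 1) := by
  classical
  have := Fintype.ofFinite Ω
  rw [Nat.card_eq_fintype_card, Nat.card_eq_fintype_card, Fintype.card_subtype]
  have h1 : (Finset.univ.filter (fun p : Ω × Ω => p.1 ≠ p.2)) = (Finset.univ : Finset Ω).offDiag := by
    ext p; simp
  rw [h1, Finset.offDiag_card, Finset.card_univ, Nat.mul_sub_one]

/-- orbit-stabilizer for pairs -/
theorem card_pairs (M : Subgroup G) (F : Set Ω) {a b : Ω} (ha : a ∈ F) (hb : b ∈ F) (hab : a ≠ b)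
    (hinv : ∀ g ∈ M, ∀ x ∈ F, g • x ∈ F)
    (htr : ∀ c ∈ F, ∀ d ∈ F, c ≠ d → ∃ g ∈ M, g • a = c ∧ g • b = d) :
    Nat.card M = Nat.card (St G a b ⊓ M : Subgroup G) * (Nat.card F * (Nat.card F - 1)) := by
  classical
  have h1 := Nat.card_congr (MulAction.orbitProdStabilizerEquivGroup M ((a, b) : Ω × Ω))
  rw [Nat.card_prod] at h1
  have h2 : Nat.card (MulAction.orbit M ((a, b) : Ω × Ω)) = Nat.card F * (Nat.card F - 1) := by
    rw [← card_offdiag (Ω := F)]
    refine Nat.card_congr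
      { toFun := fun p => ⟨(⟨p.1.1, ?_⟩, ⟨p.1.2, ?_⟩), ?_⟩
        invFun := fun q => ⟨(q.1.1, q.1.2), ?_⟩
        left_inv := fun p => ?_
        right_inv := fun q => ?_ }
    · obtain ⟨⟨x, y⟩, ⟨g, hg⟩⟩ := p
      have h3 : ((g : G) • a, (g : G) • b) = (x, y) := hg
      simp only [Prod.mk.injEq] at h3
      change x ∈ F
      rw [← h3.1]; exact hinv _ g.2 _ ha
    · obtain ⟨⟨x, y⟩, ⟨g, hg⟩⟩ := p
      have h3 : ((g : G) • a, (g : G) • b) = (x, y) := hg
      simp only [Prod.mk.injEq] at h3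
      change y ∈ F
      rw [← h3.2]; exact hinv _ g.2 _ hb
    · obtain ⟨⟨x, y⟩, ⟨g, hg⟩⟩ := p
      have h3 : ((g : G) • a, (g : G) • b) = (x, y) := hg
      simp only [Prod.mk.injEq] at h3
      intro h4
      have h5 : x = y := congrArg Subtype.val h4
      rw [← h3.1, ← h3.2] at h5
      exact hab (smul_left_cancel _ h5)
    · obtain ⟨⟨⟨x, hx⟩, ⟨y, hy⟩⟩, hxy⟩ := q
      have h3 : x ≠ y := fun h4 => hxy (Subtype.ext h4)
      obtain ⟨g, hg, h5, h6⟩ := htr x hx y hy h3
      exact ⟨⟨g, hg⟩, Prod.ext h5 h6⟩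
    · rfl
    · rfl
  have h3 : Nat.card (MulAction.stabilizer M ((a, b) : Ω × Ω)) = Nat.card (St G a b ⊓ M : Subgroup G) := by
    refine Nat.card_congr
      { toFun := fun p => ⟨p.1.1, ?_⟩
        invFun := fun q => ⟨⟨q.1, q.2.2⟩, ?_⟩
        left_inv := fun p => rfl
        right_inv := fun q => rfl }
    · obtain ⟨⟨g, hg⟩, hp⟩ := p
      have h3 : (g • a, g • b) = (a, b) := hp
      simp only [Prod.mk.injEq] at h3
      exact ⟨⟨h3.1, h3.2⟩, hg⟩
    · obtain ⟨g, ⟨h4, h5⟩, h6⟩ := q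
      exact Prod.ext h4 h5
  rw [h2, h3, mul_comm] at h1
  exact h1.symm

/-- conjugacy class times centralizer -/
theorem card_class (t : G) : Nat.card {s : G // IsConj t s} * Nat.card (Subgroup.centralizer ({t} : Set G)) = Nat.card G := by
  classical
  have h1 := Nat.card_congr (MulAction.orbitProdStabilizerEquivGroup (ConjAct G) t)
  rw [Nat.card_prod] at h1
  have h2 : Nat.card (MulAction.orbit (ConjAct G) t) = Nat.card {s : G // IsConj t s} := by
    refine Nat.card_congr (Equiv.subtypeEquivRight fun s => ?_)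
    rw [ConjAct.mem_orbit_conjAct, isConj_comm]
  have h3 : Nat.card (MulAction.stabilizer (ConjAct G) t) = Nat.card (Subgroup.centralizer ({t} : Set G)) := by
    rw [ConjAct.stabilizer_eq_centralizer]
    rfl
  have h4 : Nat.card (ConjAct G) = Nat.card G := rfl
  rw [h2, h3, h4] at h1
  exact h1

theorem card_fix_conj {t s : G} (hs : IsConj t s) : fx G Ω s = fx G Ω t := by
  obtain ⟨g, hg⟩ := isConj_iff.1 hs
  refine (Nat.card_congr (Equiv.subtypeEquiv (MulAction.toPerm g) fun x => ?_)).symm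
  change t • x = x ↔ s • g • x = g • x
  have h7 : s • g • x = g • t • x := by
    rw [← hg, mul_smul, mul_smul, inv_smul_smul]
  rw [h7, smul_left_cancel_iff]

theorem card_nonfix (s : G) : Nat.card {x : Ω // s • x ≠ x} = Nat.card Ω - fx G Ω s := by
  classical
  have := Fintype.ofFinite Ω
  unfold fx
  rw [Nat.card_eq_fintype_card, Nat.card_eq_fintype_card, Nat.card_eq_fintype_card]
  exact Fintype.card_subtype_compl (fun x : Ω => s • x = x)

/-- double count of (s, x, y), s conjugate to t swapping x and y -/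
theorem double (h : TT G Ω) {t : G} (ht : Inv t) {a b : Ω} (hab : a ≠ b) :
    Nat.card {s : G // IsConj t s} * (Nat.card Ω - fx G Ω t) =
      Nat.card Ω * (Nat.card Ω - 1) * Nat.card {s : G // IsConj t s ∧ s • a = b ∧ s • b = a} := by
  classical
  let P := {q : G × (Ω × Ω) // IsConj t q.1 ∧ q.2.1 ≠ q.2.2 ∧ q.1 • q.2.1 = q.2.2 ∧ q.1 • q.2.2 = q.2.1}
  have e1 : Nat.card P = Nat.card {s : G // IsConj t s} * (Nat.card Ω - fx G Ω t) := by
    have e : P ≃ (Σ s : {s : G // IsConj t s}, {x : Ω // (s : G) • x ≠ x}) :=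
      { toFun := fun q => ⟨⟨q.1.1, q.2.1⟩, ⟨q.1.2.1, fun h0 => q.2.2.1 (by rw [← q.2.2.2.1]; exact h0.symm)⟩⟩
        invFun := fun z => ⟨(z.1.1, (z.2.1, (z.1 : G) • z.2.1)), z.1.2, fun h0 => z.2.2 h0.symm, rfl, by
          obtain ⟨⟨s, hs⟩, x⟩ := z
          obtain ⟨g, hg⟩ := isConj_iff.1 hs
          have h1 : s * s = 1 := by
            rw [← hg]
            have h2 : g * t * g⁻¹ * (g * t * g⁻¹) = g * (t * t) * g⁻¹ := by group
            rw [h2, ht.2]; group
          change s • s • x.1 = x.1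
          rw [← mul_smul, h1, one_smul]⟩
        left_inv := fun q => by
          obtain ⟨⟨s, ⟨x, y⟩⟩, hs, hxy, h1, h2⟩ := q
          refine Subtype.ext ?_
          change (s, (x, s • x)) = (s, (x, y))
          rw [show s • x = y from h1]
        right_inv := fun z => rfl }
    have hF : Fintype {s : G // IsConj t s} := Fintype.ofFinite _
    rw [Nat.card_congr e, Nat.card_sigma]
    have h2 : ∀ s : {s : G // IsConj t s}, Nat.card {x : Ω // (s : G) • x ≠ x} = Nat.card Ω - fx G Ω t := by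
      intro s
      rw [card_nonfix, card_fix_conj s.2]
    simp only [h2, Finset.sum_const, Finset.card_univ, smul_eq_mul]
    rw [← Nat.card_eq_fintype_card]
  have e2 : Nat.card P = Nat.card Ω * (Nat.card Ω - 1) * Nat.card {s : G // IsConj t s ∧ s • a = b ∧ s • b = a} := by
    have e : P ≃ (Σ p : {p : Ω × Ω // p.1 ≠ p.2}, {s : G // IsConj t s ∧ s • p.1.1 = p.1.2 ∧ s • p.1.2 = p.1.1}) :=
      { toFun := fun q => ⟨⟨q.1.2, q.2.2.1⟩, ⟨q.1.1, q.2.1, q.2.2.2.1, q.2.2.2.2⟩⟩
        invFun := fun z => ⟨(z.2.1, z.1.1), z.2.2.1, z.1.2, z.2.2.2.1, z.2.2.2.2⟩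
        left_inv := fun q => rfl
        right_inv := fun z => rfl }
    have hF : Fintype {p : Ω × Ω // p.1 ≠ p.2} := Fintype.ofFinite _
    rw [Nat.card_congr e, Nat.card_sigma]
    have h2 : ∀ p : {p : Ω × Ω // p.1 ≠ p.2}, Nat.card {s : G // IsConj t s ∧ s • p.1.1 = p.1.2 ∧ s • p.1.2 = p.1.1} =
        Nat.card {s : G // IsConj t s ∧ s • a = b ∧ s • b = a} := by
      rintro ⟨⟨x, y⟩, hxy⟩
      obtain ⟨g, h3, h4⟩ := h.tr a b x y hab hxy
      change Nat.card {s : G // IsConj t s ∧ s • x = y ∧ s • y = x} = _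
      subst h3; subst h4
      refine (Nat.card_congr (Equiv.subtypeEquiv (MulAut.conj g).toEquiv fun s => ?_)).symm
      have h5 : ((MulAut.conj g).toEquiv s) = g * s * g⁻¹ := rfl
      rw [h5]
      have h6 : IsConj s (g * s * g⁻¹) := isConj_iff.2 ⟨g, rfl⟩
      have h7 : (g * s * g⁻¹) • g • a = g • s • a := by
        rw [mul_smul, mul_smul, inv_smul_smul]
      have h8 : (g * s * g⁻¹) • g • b = g • s • b := by
        rw [mul_smul, mul_smul, inv_smul_smul]
      rw [h7, h8, smul_left_cancel_iff, smul_left_cancel_iff]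
      exact and_congr ⟨fun h => h.trans h6, fun h => h.trans h6.symm⟩ Iff.rfl
    simp only [h2, Finset.sum_const, Finset.card_univ, smul_eq_mul]
    rw [← Nat.card_eq_fintype_card, card_offdiag]
  rw [← e1, e2]

theorem count_of (h : TT G Ω) {a b : Ω} (hab : a ≠ b) {t : G} (ht : Inv t) (hts : t ∈ St G a b)
    (hf : ∀ a b : Ω, a ≠ b → ∀ s s' : G, Inv s → s ∈ St G a b → Inv s' → s' ∈ St G a b → ∃ g ∈ St G a b, g * s * g⁻¹ = s')
    (h60 : Nat.card (St G a b) = 60) (h4 : Nat.card (VV a b t) = 4) :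
    Nat.card G = 60 * (Nat.card Ω * (Nat.card Ω - 1)) ∧
    Nat.card (Subgroup.centralizer ({t} : Set G)) = 4 * (fx G Ω t * (fx G Ω t - 1)) ∧
    2 ≤ fx G Ω t ∧ fx G Ω t < Nat.card Ω ∧
    15 * (Nat.card Ω - fx G Ω t) = fx G Ω t * (fx G Ω t - 1) * Nat.card {s : G // IsConj t s ∧ s • a = b ∧ s • b = a} ∧
    Nat.card {s : G // IsConj t s} * (fx G Ω t * (fx G Ω t - 1)) = 15 * (Nat.card Ω * (Nat.card Ω - 1)) := by
  classical
  have hta : t • a = a := hts.1
  have htb : t • b = b := hts.2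
  have c1 : Nat.card G = 60 * (Nat.card Ω * (Nat.card Ω - 1)) := by
    have h1 := card_pairs (⊤ : Subgroup G) (Set.univ : Set Ω) (a := a) (b := b) trivial trivial hab
      (fun _ _ _ _ => trivial) (fun c _ d _ hcd => by
        obtain ⟨g, h1, h2⟩ := h.tr a b c d hab hcd
        exact ⟨g, trivial, h1, h2⟩)
    rw [inf_top_eq, h60, Subgroup.card_top, Nat.card_congr (Equiv.Set.univ Ω)] at h1
    exact h1
  have c2 : Nat.card (Subgroup.centralizer ({t} : Set G)) = 4 * (fx G Ω t * (fx G Ω t - 1)) := by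
    have h1 := card_pairs (Subgroup.centralizer ({t} : Set G)) {x : Ω | t • x = x} (a := a) (b := b) hta htb hab
      (fun g hg x hx => by
        rw [Subgroup.mem_centralizer_singleton_iff] at hg
        change t • g • x = g • x
        rw [← mul_smul, ← hg, mul_smul, show t • x = x from hx])
      (fun c hc d hd hcd => by
        obtain ⟨g, h1, h2, h3⟩ := witt h ht hf a b c d hab hcd hta htb hc hd
        exact ⟨g, Subgroup.mem_centralizer_singleton_iff.2 h1, h2, h3⟩)
    rw [show (St G a b ⊓ Subgroup.centralizer ({t} : Set G) : Subgroup G) = VV a b t from rfl, h4] at h1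
    exact h1
  have c3 : 2 ≤ fx G Ω t := by
    have h1 : 1 < Nat.card {x : Ω // t • x = x} :=
      Finite.one_lt_card_iff_nontrivial.2 ⟨⟨a, hta⟩, ⟨b, htb⟩, fun h0 => hab (congrArg Subtype.val h0)⟩
    exact h1
  have c4 : fx G Ω t < Nat.card Ω := by
    have h1 : ∃ x : Ω, t • x ≠ x := by
      by_contra hc
      push Not at hc
      exact ht.1 (h.faith t hc)
    obtain ⟨x, hx⟩ := h1
    exact Finite.card_subtype_lt hx
  have c5 : Nat.card {s : G // IsConj t s} * (fx G Ω t * (fx G Ω t - 1)) = 15 * (Nat.card Ω * (Nat.card Ω - 1)) := by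
    have h1 := card_class (G := G) t
    rw [c2, c1] at h1
    have h2 : 4 * (Nat.card {s : G // IsConj t s} * (fx G Ω t * (fx G Ω t - 1))) =
        4 * (15 * (Nat.card Ω * (Nat.card Ω - 1))) := by
      calc _ = Nat.card {s : G // IsConj t s} * (4 * (fx G Ω t * (fx G Ω t - 1))) := by ring
        _ = 60 * (Nat.card Ω * (Nat.card Ω - 1)) := h1
        _ = _ := by ring
    exact Nat.eq_of_mul_eq_mul_left (by norm_num) h2
  refine ⟨c1, c2, c3, c4, ?_, c5⟩
  have h1 := double h ht hab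
  have hpos : 0 < Nat.card Ω * (Nat.card Ω - 1) := by
    apply Nat.mul_pos <;> omega
  have h2 : Nat.card Ω * (Nat.card Ω - 1) * (15 * (Nat.card Ω - fx G Ω t)) =
      Nat.card Ω * (Nat.card Ω - 1) *
        (fx G Ω t * (fx G Ω t - 1) * Nat.card {s : G // IsConj t s ∧ s • a = b ∧ s • b = a}) := by
    calc _ = (15 * (Nat.card Ω * (Nat.card Ω - 1))) * (Nat.card Ω - fx G Ω t) := by ring
      _ = (Nat.card {s : G // IsConj t s} * (fx G Ω t * (fx G Ω t - 1))) * (Nat.card Ω - fx G Ω t) := by rw [c5]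
      _ = (Nat.card {s : G // IsConj t s} * (Nat.card Ω - fx G Ω t)) * (fx G Ω t * (fx G Ω t - 1)) := by ring
      _ = _ := by rw [h1]; ring
  exact Nat.eq_of_mul_eq_mul_left hpos h2

end Q6a

end H39.DA
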