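import Cfsg.Agent.Lib.H39.DAQ5b

/-!
Counting with the normalizer of the Klein four-group (S3262, last item of `countV`).
-/

set_option autoImplicit false

open MulAction

universe u v

namespace H39.DA.Q6bL

variable {G : Type u} {Ω : Type v} [Group G] [Finite G] [MulAction G Ω] [Finite Ω]

/-- orbit-stabilizer for a subgroup -/
theorem orb (K : Subgroup G) (b : Ω) :
    Nat.card K = {y : Ω | ∃ g ∈ K, g • b = y}.ncard * Nat.card (K ⊓ stabilizer G b : Subgroup G) := by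
  rw [← Nat.card_congr (MulAction.orbitProdStabilizerEquivGroup K b), Nat.card_prod]
  congr 1
  · rw [← Nat.card_coe_set_eq]
    refine Nat.card_congr (Equiv.setCongr ?_)
    ext y
    constructor
    · rintro ⟨g, rfl⟩
      exact ⟨g, g.2, rfl⟩
    · rintro ⟨g, hg, rfl⟩
      exact ⟨⟨g, hg⟩, rfl⟩
  · refine Nat.card_congr ⟨fun k => ⟨(k.1 : G), k.1.2, k.2⟩, fun k => ⟨⟨k.1, k.2.1⟩, k.2.2⟩, ?_, ?_⟩
    · intro k; rfl
    · intro k; rfl

theorem wittV (h : Base G Ω) {a b : Ω} (hab : a ≠ b) {t : G} (ht : Inv t) (hts : t ∈ St G a b) {c d : Ω}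
    (hc : c ∈ Fx G (Ω := Ω) (VV a b t : Set G)) (hd : d ∈ Fx G (Ω := Ω) (VV a b t : Set G)) (hcd : c ≠ d) :
    ∃ k ∈ Subgroup.normalizer (VV a b t : Set G), k • a = c ∧ k • b = d := by
  obtain ⟨v1, -, -, -, -, -, v7⟩ := vfacts h hab ht hts
  obtain ⟨g, hga, hgb⟩ := h.tr a b c d hab hcd
  have hV' : (VV a b t).map (MulAut.conj g⁻¹).toMonoidHom ≤ St G a b := by
    rintro y ⟨s, hs, rfl⟩
    refine Subgroup.mem_inf.2 ⟨?_, ?_⟩
    · rw [mem_stabilizer_iff]
      show (g⁻¹ * s * g⁻¹⁻¹) • a = a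
      rw [inv_inv, mul_smul, mul_smul, hga, hc s hs, ← hga, inv_smul_smul]
    · rw [mem_stabilizer_iff]
      show (g⁻¹ * s * g⁻¹⁻¹) • b = b
      rw [inv_inv, mul_smul, mul_smul, hgb, hd s hs, ← hgb, inv_smul_smul]
  have hcard : Nat.card ((VV a b t).map (MulAut.conj g⁻¹).toMonoidHom) = 4 := by
    rw [← v1]
    exact (Nat.card_congr ((VV a b t).equivMapOfInjective _ (MulAut.conj g⁻¹).injective).toEquiv).symm
  obtain ⟨x, hx, hxV⟩ := v7 _ hV' hcard
  have hN : x * g⁻¹ ∈ Subgroup.normalizer (VV a b t : Set G) := by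
    rw [Subgroup.mem_normalizer_iff]
    intro s
    constructor
    · intro hs
      have h1 : x * (g⁻¹ * s * g⁻¹⁻¹) * x⁻¹ ∈ VV a b t := by
        have h2 : x * (g⁻¹ * s * g⁻¹⁻¹) * x⁻¹ ∈
            ((VV a b t).map (MulAut.conj g⁻¹).toMonoidHom).map (MulAut.conj x).toMonoidHom :=
          ⟨_, ⟨s, hs, rfl⟩, rfl⟩
        rwa [hxV] at h2
      have h3 : x * (g⁻¹ * s * g⁻¹⁻¹) * x⁻¹ = x * g⁻¹ * s * (x * g⁻¹)⁻¹ := by group
      exact h3 ▸ h1
    · intro hs
      have h2 : x * g⁻¹ * s * (x * g⁻¹)⁻¹ ∈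
            ((VV a b t).map (MulAut.conj g⁻¹).toMonoidHom).map (MulAut.conj x).toMonoidHom := by
        rw [hxV]; exact hs
      obtain ⟨z, ⟨w, hw, rfl⟩, hz⟩ := h2
      have h3 : x * (g⁻¹ * w * g⁻¹⁻¹) * x⁻¹ = x * g⁻¹ * s * (x * g⁻¹)⁻¹ := hz
      have h4 : w = s := by
        have h5 : (x * g⁻¹) * w * (x * g⁻¹)⁻¹ = (x * g⁻¹) * s * (x * g⁻¹)⁻¹ := by
          rw [← h3]; group
        exact mul_left_cancel (mul_right_cancel h5)
      rw [← h4]; exact hw
  have hxs := Subgroup.mem_inf.1 (inv_mem hx)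
  refine ⟨g * x⁻¹, ?_, ?_, ?_⟩
  · have := inv_mem hN
    simpa using this
  · rw [mul_smul, mem_stabilizer_iff.1 hxs.1, hga]
  · rw [mul_smul, mem_stabilizer_iff.1 hxs.2, hgb]

theorem a_mem {a b : Ω} {t : G} : a ∈ Fx G (Ω := Ω) (VV a b t : Set G) := by
  intro s hs
  exact mem_stabilizer_iff.1 (Subgroup.mem_inf.1 (Subgroup.mem_inf.1 hs).1).1

theorem b_mem {a b : Ω} {t : G} : b ∈ Fx G (Ω := Ω) (VV a b t : Set G) := by
  intro s hs
  exact mem_stabilizer_iff.1 (Subgroup.mem_inf.1 (Subgroup.mem_inf.1 hs).1).2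

theorem card_Ga (h : Base G Ω) {a b : Ω} (hab : a ≠ b) :
    Nat.card (stabilizer G a) = (Nat.card Ω - 1) * 60 := by
  obtain ⟨e⟩ := h.a5 a b hab
  rw [orb (stabilizer G a) b]
  have h1 : Nat.card (stabilizer G a ⊓ stabilizer G b : Subgroup G) = 60 := Q5b.card_S e
  rw [h1]
  congr 1
  have h2 : {y : Ω | ∃ g ∈ stabilizer G a, g • b = y} = Set.univ \ {a} := by
    ext y
    constructor
    · rintro ⟨g, hg, rfl⟩
      refine ⟨trivial, ?_⟩
      rintro (h3 : g • b = a)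
      rw [mem_stabilizer_iff] at hg
      rw [← hg] at h3
      exact hab ((MulAction.injective g h3).symm)
    · rintro ⟨-, hy⟩
      have hy' : a ≠ y := fun h3 => hy h3.symm
      obtain ⟨g, hga, hgb⟩ := h.tr a b a y hab hy'
      exact ⟨g, hga, hgb⟩
  rw [h2, Set.ncard_diff_singleton_of_mem (Set.mem_univ a), Set.ncard_univ]

theorem card_Na (h : Base G Ω) {a b : Ω} (hab : a ≠ b) {t : G} (ht : Inv t) (hts : t ∈ St G a b) :
    Nat.card (stabilizer G a ⊓ Subgroup.normalizer (VV a b t : Set G) : Subgroup G) = (fS G Ω (VV a b t) - 1) * 12 := by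
  obtain ⟨-, -, -, -, -, v6, -⟩ := vfacts h hab ht hts
  rw [orb _ b]
  have h1 : (stabilizer G a ⊓ Subgroup.normalizer (VV a b t : Set G)) ⊓ stabilizer G b =
      St G a b ⊓ Subgroup.normalizer (VV a b t : Set G) := by
    unfold St
    rw [inf_assoc, inf_comm (Subgroup.normalizer _) (stabilizer G b), ← inf_assoc]
  rw [h1, v6]
  congr 1
  have h2 : {y : Ω | ∃ g ∈ (stabilizer G a ⊓ Subgroup.normalizer (VV a b t : Set G)), g • b = y} =
      Fx G (Ω := Ω) (VV a b t : Set G) \ {a} := by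
    ext y
    constructor
    · rintro ⟨g, hg, rfl⟩
      obtain ⟨hg1, hg2⟩ := Subgroup.mem_inf.1 hg
      rw [mem_stabilizer_iff] at hg1
      refine ⟨?_, ?_⟩
      · refine smul_Fx (fun s hs => ?_) b_mem
        have h3 := (Subgroup.mem_normalizer_iff.1 (inv_mem hg2) s).1 hs
        rwa [inv_inv] at h3
      · rintro (h3 : g • b = a)
        rw [← hg1] at h3
        exact hab ((MulAction.injective g h3).symm)
    · rintro ⟨hy1, hy⟩
      have hy' : a ≠ y := fun h3 => hy h3.symm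
      obtain ⟨k, hk, hka, hkb⟩ := wittV h hab ht hts a_mem hy1 hy'
      exact ⟨k, Subgroup.mem_inf.2 ⟨hka, hk⟩, hkb⟩
  rw [h2, Set.ncard_diff_singleton_of_mem a_mem]
  congr 1

theorem last_item (h : Base G Ω) {a b : Ω} (hab : a ≠ b) {t : G} (ht : Inv t) (hts : t ∈ St G a b) :
    (Nat.card Ω - 1) * 5 % (fS G Ω (VV a b t) - 1) = 0 := by
  have h1 := Subgroup.card_dvd_of_le
    (inf_le_left : (stabilizer G a ⊓ Subgroup.normalizer (VV a b t : Set G) : Subgroup G) ≤ stabilizer G a)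
  rw [card_Na h hab ht hts, card_Ga h hab] at h1
  have h2 : (Nat.card Ω - 1) * 60 = ((Nat.card Ω - 1) * 5) * 12 := by ring
  rw [h2] at h1
  exact Nat.mod_eq_zero_of_dvd (Nat.dvd_of_mul_dvd_mul_right (by norm_num) h1)

end H39.DA.Q6bL
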