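import Cfsg.Agent.Lib.H39.DA2
set_option autoImplicit false
set_option linter.unusedSectionVars false
open MulAction H39.DA
universe u v
namespace H39.DA.Q6c

variable {G : Type u} {Ω : Type v} [Group G] [Finite G] [MulAction G Ω] [Finite Ω]

theorem four {V : Subgroup G} (hV : Nat.card V = 4) {t v : G} (ht : t ∈ V) (hv : v ∈ V) (ht1 : t ≠ 1) (hv1 : v ≠ 1)
    (hvt : v ≠ t) (hsq : ∀ g ∈ V, g * g = 1) : ∀ g ∈ V, g = 1 ∨ g = t ∨ g = v ∨ g = t * v := by
  classical
  intro g hg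
  have h1 : t * v ≠ 1 := by
    intro h
    apply hvt
    have h2 := hsq t ht
    have : t * v = t * t := h.trans h2.symm
    exact mul_left_cancel this
  have h2 : t * v ≠ t := by
    intro h
    exact hv1 (mul_left_cancel (h.trans (mul_one t).symm))
  have h3 : t * v ≠ v := by
    intro h
    exact ht1 (mul_right_cancel (h.trans (one_mul v).symm))
  have : Fintype V := Fintype.ofFinite V
  have hc : Fintype.card V = 4 := by rw [← Nat.card_eq_fintype_card]; exact hV
  let S : Finset V := {1, ⟨t, ht⟩, ⟨v, hv⟩, ⟨t * v, V.mul_mem ht hv⟩}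
  have hS : S.card = 4 := by
    have e1 : (1 : V) ∉ ({⟨t, ht⟩, ⟨v, hv⟩, ⟨t * v, V.mul_mem ht hv⟩} : Finset V) := by
      simp only [Finset.mem_insert, Finset.mem_singleton, not_or]
      refine ⟨fun h => ht1 (congrArg Subtype.val h).symm, fun h => hv1 (congrArg Subtype.val h).symm,
        fun h => h1 (congrArg Subtype.val h).symm⟩
    have e2 : (⟨t, ht⟩ : V) ∉ ({⟨v, hv⟩, ⟨t * v, V.mul_mem ht hv⟩} : Finset V) := by
      simp only [Finset.mem_insert, Finset.mem_singleton, not_or]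
      exact ⟨fun h => hvt (congrArg Subtype.val h).symm, fun h => h2 (congrArg Subtype.val h).symm⟩
    have e3 : (⟨v, hv⟩ : V) ∉ ({⟨t * v, V.mul_mem ht hv⟩} : Finset V) := by
      simp only [Finset.mem_singleton]
      exact fun h => h3 (congrArg Subtype.val h).symm
    show (insert (1 : V) (insert (⟨t, ht⟩ : V) (insert (⟨v, hv⟩ : V) ({⟨t * v, V.mul_mem ht hv⟩} : Finset V)))).card = 4
    rw [Finset.card_insert_of_notMem e1, Finset.card_insert_of_notMem e2, Finset.card_insert_of_notMem e3,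
      Finset.card_singleton]
  have hU : S = Finset.univ := Finset.eq_univ_of_card S (by rw [hS, hc])
  have hm : (⟨g, hg⟩ : V) ∈ S := by rw [hU]; exact Finset.mem_univ _
  simp only [S, Finset.mem_insert, Finset.mem_singleton] at hm
  rcases hm with h | h | h | h
  · exact Or.inl (congrArg Subtype.val h)
  · exact Or.inr (Or.inl (congrArg Subtype.val h))
  · exact Or.inr (Or.inr (Or.inl (congrArg Subtype.val h)))
  · exact Or.inr (Or.inr (Or.inr (congrArg Subtype.val h)))

theorem mem_St {a b : Ω} {g : G} : g ∈ St G a b ↔ g • a = a ∧ g • b = b := Iff.rfl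

theorem mem_VV {a b : Ω} {t g : G} : g ∈ VV a b t ↔ (g • a = a ∧ g • b = b) ∧ g * t = t * g := by
  unfold VV
  rw [Subgroup.mem_inf, mem_St, Subgroup.mem_centralizer_singleton_iff]

theorem mem_Fx_single {t : G} {x : Ω} : x ∈ Fx G (Ω := Ω) ({t} : Set G) ↔ t • x = x := by
  constructor
  · intro h; exact h t rfl
  · intro h s hs
    rw [Set.mem_singleton_iff] at hs
    rw [hs]; exact h

/-- sharply 2-transitive action on the fixed points of `V` -/
theorem sh_of {a b : Ω} (hab : a ≠ b) {t : G}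
    (h5 : ∀ c ∈ Fx G (Ω := Ω) (VV a b t : Set G), ∀ d ∈ Fx G (Ω := Ω) (VV a b t : Set G), c ≠ d →
      ∀ c' ∈ Fx G (Ω := Ω) (VV a b t : Set G), ∀ d' ∈ Fx G (Ω := Ω) (VV a b t : Set G), c' ≠ d' →
      ∃ g ∈ NT (VV a b t) t, g • c = c' ∧ g • d = d')
    (h6 : ∀ g ∈ NT (VV a b t) t, ∀ c ∈ Fx G (Ω := Ω) (VV a b t : Set G), ∀ d ∈ Fx G (Ω := Ω) (VV a b t : Set G), c ≠ d →
      g • c = c → g • d = d → g ∈ VV a b t) :
    Sh (YB G Ω (VV a b t) t) (Fx G (Ω := Ω) (VV a b t : Set G)) := by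
  refine { tr := ?_, faith := ?_, two := ?_, sh := ?_ }
  · intro c d c' d' hcd hcd'
    obtain ⟨g, hg, h1, h2⟩ := h5 c c.2 d d.2 (fun h => hcd (Subtype.ext h)) c' c'.2 d' d'.2
      (fun h => hcd' (Subtype.ext h))
    refine ⟨⟨resHom _ _ NT_inv ⟨g, hg⟩, ⟨⟨g, hg⟩, rfl⟩⟩, Subtype.ext ?_, Subtype.ext ?_⟩
    · exact h1
    · exact h2
  · intro g hg
    apply Subtype.ext
    apply Equiv.ext
    intro x
    exact hg x
  · refine ⟨⟨a, ?_⟩, ⟨b, ?_⟩, fun h => hab (congrArg Subtype.val h)⟩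
    · intro g hg
      exact (mem_VV.1 hg).1.1
    · intro g hg
      exact (mem_VV.1 hg).1.2
  · intro g c d hcd hc hd
    obtain ⟨g, ⟨⟨g0, hg0⟩, rfl⟩⟩ := g
    have h1 : g0 • (c : Ω) = c := congrArg Subtype.val hc
    have h2 : g0 • (d : Ω) = d := congrArg Subtype.val hd
    have h3 := h6 g0 hg0 c c.2 d d.2 (fun h => hcd (Subtype.ext h)) h1 h2
    apply Subtype.ext
    apply Equiv.ext
    intro x
    apply Subtype.ext
    exact x.2 g0 h3

theorem cb_eq_one {t g : G} (hg : g ∈ Subgroup.centralizer ({t} : Set G)) :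
    cb Ω hg = 1 ↔ ∀ x : Ω, t • x = x → g • x = x := by
  constructor
  · intro h x hx
    have h1 : (cb Ω hg : Equiv.Perm (Fx G (Ω := Ω) ({t} : Set G))) = 1 := congrArg Subtype.val h
    have h2 := congrArg Subtype.val (DFunLike.congr_fun h1 ⟨x, mem_Fx_single.2 hx⟩)
    exact h2
  · intro h
    apply Subtype.ext
    apply Equiv.ext
    intro x
    apply Subtype.ext
    exact h x (mem_Fx_single.1 x.2)

theorem fx_of {a b : Ω} {t : G} (ht1 : t ≠ 1) (htV : t ∈ VV a b t) (hV4 : Nat.card (VV a b t) = 4)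
    (hsq : ∀ g ∈ VV a b t, g * g = 1) {v : G} (hv : v ∈ VV a b t)
    (hv1 : v ≠ 1) (hvt : v ≠ t) (hvc : v ∈ Subgroup.centralizer ({t} : Set G)) :
    fx (CB G Ω t) (Fx G (Ω := Ω) ({t} : Set G)) (cb Ω hvc) = fS G Ω (VV a b t) := by
  have h4 := four hV4 htV hv ht1 hv1 hvt hsq
  unfold fx fS
  refine Nat.card_eq_of_bijective (fun x => (⟨(x.1 : Ω), ?_⟩ : {x : Ω // ∀ g ∈ VV a b t, g • x = x})) ⟨?_, ?_⟩
  · intro g hg
    have h1 : t • (x.1 : Ω) = x.1 := mem_Fx_single.1 x.1.2
    have h2 : v • (x.1 : Ω) = x.1 := congrArg Subtype.val x.2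
    rcases h4 g hg with h | h | h | h
    · rw [h, one_smul]
    · rw [h, h1]
    · rw [h, h2]
    · rw [h, mul_smul, h2, h1]
  · intro x y hxy
    apply Subtype.ext
    apply Subtype.ext
    exact congrArg (fun z : {x : Ω // ∀ g ∈ VV a b t, g • x = x} => (z : Ω)) hxy
  · intro y
    refine ⟨⟨⟨y.1, mem_Fx_single.2 (y.2 t htV)⟩, Subtype.ext (y.2 v hv)⟩, rfl⟩

theorem ker_of {a b : Ω} {t : G} (ht : Inv t) (hts : t ∈ St G a b) (hV4 : Nat.card (VV a b t) = 4)
    (hsq : ∀ g ∈ VV a b t, g * g = 1) (hlt : fS G Ω (VV a b t) < fx G Ω t)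
    (g : G) (hg : g ∈ Subgroup.centralizer ({t} : Set G)) : cb Ω hg = 1 ↔ (g = 1 ∨ g = t) := by
  have htV : t ∈ VV a b t := mem_VV.2 ⟨hts, rfl⟩
  rw [cb_eq_one]
  constructor
  · intro h
    by_contra hne
    rw [not_or] at hne
    have hgV : g ∈ VV a b t := mem_VV.2 ⟨⟨h a hts.1, h b hts.2⟩, Subgroup.mem_centralizer_singleton_iff.1 hg⟩
    have h4 := four hV4 htV hgV ht.1 hne.1 hne.2 hsq
    have hle : fx G Ω t ≤ fS G Ω (VV a b t) := by
      unfold fx fS
      refine Nat.card_le_card_of_injective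
        (fun x : {x : Ω // t • x = x} => (⟨x.1, ?_⟩ : {x : Ω // ∀ g ∈ VV a b t, g • x = x})) ?_
      · intro s hs
        rcases h4 s hs with h' | h' | h' | h'
        · rw [h', one_smul]
        · rw [h', x.2]
        · rw [h', h _ x.2]
        · rw [h', mul_smul, h _ x.2, x.2]
      · intro x y hxy
        apply Subtype.ext
        exact congrArg (fun z : {x : Ω // ∀ g ∈ VV a b t, g • x = x} => (z : Ω)) hxy
    omega
  · intro h x hx
    rcases h with h | h
    · rw [h, one_smul]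
    · rw [h, hx]

theorem t2_of {a b : Ω} (hab : a ≠ b) {t : G} (ht : Inv t) (hts : t ∈ St G a b)
    (hV : ∀ c d : Ω, c ≠ d → t • c = c → t • d = d → Nat.card (VV c d t) = 4)
    (hsq : ∀ g ∈ VV a b t, g * g = 1)
    (hw : ∀ c d c' d' : Ω, c ≠ d → c' ≠ d' → t • c = c → t • d = d → t • c' = c' → t • d' = d' →
      ∃ g : G, g * t = t * g ∧ g • c = c' ∧ g • d = d')
    (hlt : fS G Ω (VV a b t) < fx G Ω t) : T2 (CB G Ω t) (Fx G (Ω := Ω) ({t} : Set G)) ∧
    ∀ (g : G) (hg : g ∈ Subgroup.centralizer ({t} : Set G)), cb Ω hg = 1 ↔ (g = 1 ∨ g = t) := by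
  have hker := ker_of ht hts (hV a b hab hts.1 hts.2) hsq hlt
  refine ⟨{ tr := ?_, faith := ?_, two := ?_, st := ?_ }, hker⟩
  · intro c d c' d' hcd hcd'
    obtain ⟨g, hg, h1, h2⟩ := hw c d c' d' (fun h => hcd (Subtype.ext h)) (fun h => hcd' (Subtype.ext h))
      (mem_Fx_single.1 c.2) (mem_Fx_single.1 d.2) (mem_Fx_single.1 c'.2) (mem_Fx_single.1 d'.2)
    have hgc : g ∈ Subgroup.centralizer ({t} : Set G) := Subgroup.mem_centralizer_singleton_iff.2 hg
    exact ⟨cb Ω hgc, Subtype.ext h1, Subtype.ext h2⟩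
  · intro g hg
    apply Subtype.ext
    apply Equiv.ext
    intro x
    exact hg x
  · exact ⟨⟨a, mem_Fx_single.2 hts.1⟩, ⟨b, mem_Fx_single.2 hts.2⟩, fun h => hab (congrArg Subtype.val h)⟩
  · intro c d hcd
    have htc : t • (c : Ω) = c := mem_Fx_single.1 c.2
    have htd : t • (d : Ω) = d := mem_Fx_single.1 d.2
    have hcd' : (c : Ω) ≠ d := fun h => hcd (Subtype.ext h)
    have h4 := hV c d hcd' htc htd
    have htV : t ∈ VV (c : Ω) d t := mem_VV.2 ⟨⟨htc, htd⟩, rfl⟩
    have hle : VV (c : Ω) (d : Ω) t ≤ Subgroup.centralizer ({t} : Set G) := inf_le_right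
    let φ : VV (c : Ω) (d : Ω) t →* CB G Ω t :=
      (resHom (Subgroup.centralizer ({t} : Set G)) (Fx G (Ω := Ω) ({t} : Set G)) cent_inv).rangeRestrict.comp
        (Subgroup.inclusion hle)
    have hφ : ∀ g : VV (c : Ω) (d : Ω) t, φ g = cb Ω (hle g.2) := fun g => rfl
    have hr : φ.range = St (CB G Ω t) c d := by
      ext y
      constructor
      · rintro ⟨g, rfl⟩
        refine ⟨?_, ?_⟩
        · show φ g • c = c
          exact Subtype.ext (mem_VV.1 g.2).1.1
        · show φ g • d = d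
          exact Subtype.ext (mem_VV.1 g.2).1.2
      · intro hy
        obtain ⟨y, ⟨⟨g, hg⟩, rfl⟩⟩ := y
        have h1 : g • (c : Ω) = c := congrArg Subtype.val hy.1
        have h2 : g • (d : Ω) = d := congrArg Subtype.val hy.2
        exact ⟨⟨g, mem_VV.2 ⟨⟨h1, h2⟩, Subgroup.mem_centralizer_singleton_iff.1 hg⟩⟩, rfl⟩
    have hk : Nat.card φ.ker = 2 := by
      have e : ∀ g : VV (c : Ω) (d : Ω) t, g ∈ φ.ker ↔ ((g : G) = 1 ∨ (g : G) = t) := by
        intro g
        rw [MonoidHom.mem_ker, hφ]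
        exact hker g (hle g.2)
      have e2 : φ.ker = Subgroup.zpowers (⟨t, htV⟩ : VV (c : Ω) (d : Ω) t) := by
        ext g
        rw [e]
        constructor
        · rintro (h | h)
          · have : g = 1 := Subtype.ext h
            rw [this]; exact Subgroup.one_mem _
          · have : g = ⟨t, htV⟩ := Subtype.ext h
            rw [this]; exact Subgroup.mem_zpowers _
        · intro h
          rw [Subgroup.mem_zpowers_iff] at h
          obtain ⟨k, hk⟩ := h
          have hk' : t ^ k = (g : G) := by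
            rw [← hk]; rfl
          have ht2 : t ^ (2 : ℤ) = 1 := by
            rw [zpow_ofNat, pow_two]; exact ht.2
          rcases Int.even_or_odd' k with ⟨j, hj | hj⟩
          · left
            rw [← hk', hj, zpow_mul, ht2, one_zpow]
          · right
            rw [← hk', hj, zpow_add, zpow_mul, ht2, one_zpow, one_mul, zpow_one]
      rw [e2, Nat.card_zpowers]
      have hp : Fact (Nat.Prime 2) := ⟨Nat.prime_two⟩
      refine orderOf_eq_prime (Subtype.ext ?_) (fun h => ht.1 (congrArg Subtype.val h))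
      show t ^ 2 = 1
      rw [pow_two]; exact ht.2
    have h5 : Nat.card φ.ker * φ.ker.index = Nat.card (VV (c : Ω) (d : Ω) t) := Subgroup.card_mul_index _
    rw [Subgroup.index_ker, hr, hk, h4] at h5
    omega

end H39.DA.Q6c
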