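import Cfsg.Agent.Lib.H39.DA2
import Cfsg.Agent.Lib.H39.DAQ3
import Cfsg.Agent.Lib.H39.DAQ4
import Cfsg.Agent.Lib.H39.DAQ7a

/-!
S3262, piece Q7b: the group induced by the centralizer of an involution on its fixed points.
-/

set_option autoImplicit false
open MulAction H39.DA
universe u v
namespace H39.DA

namespace Q7b

variable {G : Type u} {Ω : Type v} [Group G] [MulAction G Ω]

theorem cb_smul {t g : G} (hg : g ∈ Subgroup.centralizer ({t} : Set G)) (x : Fx G (Ω := Ω) ({t} : Set G)) :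
    ((cb Ω hg • x : Fx G (Ω := Ω) ({t} : Set G)) : Ω) = g • (x : Ω) := rfl

/-- the homomorphism onto `CB` -/
def cbH (Ω : Type v) [MulAction G Ω] (t : G) : Subgroup.centralizer ({t} : Set G) →* CB G Ω t :=
  (resHom (Subgroup.centralizer ({t} : Set G)) (Fx G (Ω := Ω) ({t} : Set G)) cent_inv).rangeRestrict

theorem cb_conj {t g w : G} (hg : g ∈ Subgroup.centralizer ({t} : Set G)) (hw : w ∈ Subgroup.centralizer ({t} : Set G))
    (hgw : g * w * g⁻¹ ∈ Subgroup.centralizer ({t} : Set G)) :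
    cb Ω hgw = cb Ω hg * cb Ω hw * (cb Ω hg)⁻¹ := by
  change cbH Ω t ⟨_, hgw⟩ = cbH Ω t ⟨_, hg⟩ * cbH Ω t ⟨_, hw⟩ * (cbH Ω t ⟨_, hg⟩)⁻¹
  rw [← map_inv, ← map_mul, ← map_mul]
  rfl

theorem cb_eq_iff {t g w : G} (hg : g ∈ Subgroup.centralizer ({t} : Set G)) (hw : w ∈ Subgroup.centralizer ({t} : Set G))
    (hcb : ∀ (g : G) (hg : g ∈ Subgroup.centralizer ({t} : Set G)), cb Ω hg = 1 ↔ (g = 1 ∨ g = t))
    (h : cb Ω hg = cb Ω hw) : g = w ∨ g = w * t := by
  have hm : w⁻¹ * g ∈ Subgroup.centralizer ({t} : Set G) := Subgroup.mul_mem _ (Subgroup.inv_mem _ hw) hg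
  have h1 : cb Ω hm = 1 := by
    have h2 : cb Ω hm = (cb Ω hw)⁻¹ * cb Ω hg := by
      change cbH Ω t ⟨_, hm⟩ = (cbH Ω t ⟨_, hw⟩)⁻¹ * cbH Ω t ⟨_, hg⟩
      rw [← map_inv, ← map_mul]
      rfl
    rw [h2, h, inv_mul_cancel]
  rcases (hcb _ hm).1 h1 with h2 | h2
  · left; exact (inv_mul_eq_one.1 h2).symm
  · right; rw [← h2]; group

theorem cb_surj {t : G} (c : CB G Ω t) : ∃ (g : G) (hg : g ∈ Subgroup.centralizer ({t} : Set G)), cb Ω hg = c := by
  obtain ⟨_, ⟨g, rfl⟩⟩ := c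
  exact ⟨g, g.2, rfl⟩

theorem mem_cent {t g : G} : g ∈ Subgroup.centralizer ({t} : Set G) ↔ g * t = t * g := by
  rw [Subgroup.mem_centralizer_singleton_iff]

theorem card_Fx (t : G) : Nat.card (Fx G (Ω := Ω) ({t} : Set G)) = fx G Ω t := by
  unfold fx Fx
  exact Nat.card_congr (Equiv.subtypeEquivRight (fun x => by simp))



section abstract
variable {C : Type u} {X : Type v} [Group C] [MulAction C X]

theorem inv_conj {q w : C} (hq1 : q ≠ 1) (hqq : q * q = 1) (hw : IsConj q w) : Inv w := by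
  obtain ⟨g, rfl⟩ := isConj_iff.1 hw
  refine ⟨?_, ?_⟩
  · intro h
    apply hq1
    have : q = g⁻¹ * (g * q * g⁻¹) * g := by group
    rw [this, h]; group
  · calc g * q * g⁻¹ * (g * q * g⁻¹) = g * (q * q) * g⁻¹ := by group
      _ = 1 := by rw [hqq]; group

theorem fix1 {q v w : C} (hq1 : q ≠ 1) (hqq : q * q = 1)
    (h6 : ∀ g : C, g ≠ 1 → (∃ c d : X, c ≠ d ∧ g • c = c ∧ g • d = d) → IsConj v g) (hnq : ¬ IsConj v q)
    (hw : IsConj q w) {c d : X} (hc : w • c = c) (hd : w • d = d) : c = d := by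
  by_contra hcd
  exact hnq ((h6 w (inv_conj hq1 hqq hw).1 ⟨c, d, hcd, hc, hd⟩).trans hw.symm)

theorem inv_swap {w : C} (hw : Inv w) {x y : X} (h : w • x = y) : w • y = x := by
  rw [← h, ← mul_smul, hw.2, one_smul]

theorem swap (hT : TT C X) {a b : X} (hab : a ≠ b) {v p q : C} (hq1 : q ≠ 1) (hqq : q * q = 1) (hqa : q • a = b)
    (hpc : IsConj v p) (hnq : ¬ IsConj v q)
    (hall : ∀ g : C, g • a = b → g • b = a → g = p ∨ g = q) (x y : X) (hxy : x ≠ y) :
    ∃ w : C, IsConj q w ∧ w • x = y ∧ ∀ w' : C, IsConj q w' → w' • x = y → w' = w := by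
  obtain ⟨g, hga, hgb⟩ := hT.tr a b x y hab hxy
  have hgx : g⁻¹ • x = a := by rw [← hga, inv_smul_smul]
  have hgy : g⁻¹ • y = b := by rw [← hgb, inv_smul_smul]
  refine ⟨g * q * g⁻¹, isConj_iff.2 ⟨g, rfl⟩, ?_, ?_⟩
  · rw [mul_smul, mul_smul, hgx, hqa, hgb]
  · intro w' hw' hwx
    have hi := inv_conj hq1 hqq hw'
    have hwy := inv_swap hi hwx
    rcases hall (g⁻¹ * w' * g) (by rw [mul_smul, mul_smul, hga, hwx, hgy]) (by rw [mul_smul, mul_smul, hgb, hwy, hgx])
      with h | h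
    · exfalso
      apply hnq
      have h1 : IsConj p w' := isConj_iff.2 ⟨g, by rw [← h]; group⟩
      exact (hpc.trans h1).trans hw'.symm
    · rw [← h]; group

theorem odd_part [Finite C] [Finite X] (hT : T2 C X) {a b : X} (hab : a ≠ b) {v p q : C} (hq1 : q ≠ 1)
    (hqq : q * q = 1) (hqa : q • a = b)
    (h6 : ∀ g : C, g ≠ 1 → (∃ c d : X, c ≠ d ∧ g • c = c ∧ g • d = d) → IsConj v g)
    (hpc : IsConj v p) (hnq : ¬ IsConj v q)
    (hall : ∀ g : C, g • a = b → g • b = a → g = p ∨ g = q) (ho : Odd (Nat.card X)) :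
    ∃ (r k : ℕ) (E : Subgroup C), r.Prime ∧ 1 ≤ k ∧ Nat.card X = r ^ k ∧ Reg C X E ∧
      (∀ g ∈ E, ∀ g' ∈ E, g * g' = g' * g) ∧ (∀ g ∈ E, g ^ r = 1) := by
  classical
  haveI := Fintype.ofFinite C
  haveI := Fintype.ofFinite X
  have hsw := swap hT.toTT hab hq1 hqq hqa hpc hnq hall
  have hex : ∀ w : C, IsConj q w → ∃ c : X, ∀ x : X, w • x = x ↔ x = c := by
    intro w hw
    haveI : Fact (Nat.Prime 2) := ⟨Nat.prime_two⟩
    obtain ⟨c, hc⟩ := Equiv.Perm.exists_fixed_point_of_prime (p := 2) (n := 1) (α := X) (σ := MulAction.toPerm w) (by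
        rw [← Nat.card_eq_fintype_card]
        exact ho.not_two_dvd_nat) (by
        ext x
        rw [pow_one, pow_two, Equiv.Perm.mul_apply, MulAction.toPerm_apply, MulAction.toPerm_apply, ← mul_smul,
          (inv_conj hq1 hqq hw).2, one_smul]
        rfl)
    refine ⟨c, fun x => ⟨fun hx => ?_, fun hx => by rw [hx]; exact hc⟩⟩
    exact fix1 hq1 hqq h6 hnq hw hx hc
  let W : Finset C := Finset.univ.filter (fun w => IsConj q w)
  have hW : ∀ w, w ∈ W ↔ IsConj q w := fun w => by simp [W]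
  have hf2 : 2 ≤ Fintype.card X := by
    have : ({a, b} : Finset X).card ≤ Fintype.card X := Finset.card_le_univ _
    rwa [Finset.card_pair hab] at this
  have h1 : ∀ x : X, W.card = (W.filter (fun w => w • x = x)).card + (Fintype.card X - 1) := by
    intro x
    rw [← Finset.card_filter_add_card_filter_not (s := W) (fun w => w • x = x)]
    congr 1
    rw [← Finset.card_univ, ← Finset.card_erase_of_mem (Finset.mem_univ x)]
    refine Finset.card_bij (fun w _ => w • x) ?_ ?_ ?_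
    · intro w hw
      rw [Finset.mem_filter] at hw
      exact Finset.mem_erase.2 ⟨hw.2, Finset.mem_univ _⟩
    · intro w hw w' hw' hh
      rw [Finset.mem_filter] at hw hw'
      obtain ⟨w0, -, -, h0⟩ := hsw x (w • x) (Ne.symm hw.2)
      rw [h0 w ((hW w).1 hw.1) rfl, h0 w' ((hW w').1 hw'.1) hh.symm]
    · intro y hy
      have hyx := (Finset.mem_erase.1 hy).1
      obtain ⟨w0, hw0, hwx, -⟩ := hsw x y (Ne.symm hyx)
      exact ⟨w0, Finset.mem_filter.2 ⟨(hW w0).2 hw0, by rw [hwx]; exact hyx⟩, hwx⟩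
  have h2 : ∑ x : X, (W.filter (fun w => w • x = x)).card = W.card := by
    have h3 : ∑ x : X, (W.filter (fun w => w • x = x)).card = ∑ w ∈ W, (Finset.univ.filter (fun x : X => w • x = x)).card := by
      simp only [Finset.card_filter]
      exact Finset.sum_comm
    rw [h3]
    rw [Finset.card_eq_sum_ones]
    refine Finset.sum_congr rfl fun w hw => ?_
    obtain ⟨c, hc⟩ := hex w ((hW w).1 hw)
    rw [Finset.card_eq_one]
    exact ⟨c, by ext x; simp [hc]⟩
  have h3 : ∀ x : X, (W.filter (fun w => w • x = x)).card = 1 := by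
    intro x
    have h4 : ∀ y : X, (W.filter (fun w => w • y = y)).card = (W.filter (fun w => w • x = x)).card := by
      intro y
      have e1 := h1 x
      have e2 := h1 y
      omega
    rw [Finset.sum_congr rfl (fun y _ => h4 y), Finset.sum_const, Finset.card_univ, smul_eq_mul, h1 x] at h2
    obtain ⟨n, hn⟩ : ∃ n, Fintype.card X = n + 2 := ⟨_, (Nat.sub_add_cancel hf2).symm⟩
    rw [hn] at h2
    have h5 : (n + 1) * (W.filter (fun w => w • x = x)).card = (n + 1) * 1 := by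
      have h6 : n + 2 - 1 = n + 1 := rfl
      rw [h6] at h2
      nlinarith
    exact Nat.eq_of_mul_eq_mul_left (Nat.succ_pos n) h5
  obtain ⟨c, hc⟩ := hex q (IsConj.refl q)
  refine reg_odd hT.toTT q ⟨hq1, hqq⟩ c hc ?_ ?_
  · intro g hg
    have h4 : q ∈ W.filter (fun w => w • c = c) := Finset.mem_filter.2 ⟨(hW q).2 (IsConj.refl q), (hc c).2 rfl⟩
    have h5 : g * q * g⁻¹ ∈ W.filter (fun w => w • c = c) :=
      Finset.mem_filter.2 ⟨(hW _).2 (isConj_iff.2 ⟨g, rfl⟩), hg⟩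
    exact Finset.card_le_one.1 (h3 c).le _ h5 _ h4
  · intro N _ hN x y hxy g hg hgx hgy
    have h4 : Nat.card (St C x y) = 2 := hT.st x y hxy
    have h5 : g ^ 2 = 1 := by
      have h7 : (⟨g, ⟨hgx, hgy⟩⟩ : St C x y) ^ Nat.card (St C x y) = 1 := pow_card_eq_one'
      rw [h4] at h7
      exact congrArg Subtype.val h7
    have h7 : g ^ Nat.card N = 1 := by
      have h8 : (⟨g, hg⟩ : N) ^ Nat.card N = 1 := pow_card_eq_one'
      exact congrArg Subtype.val h8
    have h8 : orderOf g ∣ Nat.gcd 2 (Nat.card N) :=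
      Nat.dvd_gcd (orderOf_dvd_of_pow_eq_one h5) (orderOf_dvd_of_pow_eq_one h7)
    have h9 : Nat.gcd 2 (Nat.card N) = 1 := (Nat.coprime_two_left.2 hN)
    rw [h9, Nat.dvd_one, orderOf_eq_one_iff] at h8
    exact h8

theorem even_part [Finite C] [Finite X] (hT : T2 C X) {a b : X} (hab : a ≠ b) {v p q : C} (hq1 : q ≠ 1)
    (hqq : q * q = 1) (hqa : q • a = b)
    (h6 : ∀ g : C, g ≠ 1 → (∃ c d : X, c ≠ d ∧ g • c = c ∧ g • d = d) → IsConj v g)
    (hpc : IsConj v p) (hnq : ¬ IsConj v q)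
    (hall : ∀ g : C, g • a = b → g • b = a → g = p ∨ g = q) (e : ℕ) (he : Nat.card X = 2 ^ e) :
    ∃ E : Subgroup C, Reg C X E ∧ (∀ g ∈ E, ∀ g' ∈ E, g * g' = g' * g) := by
  classical
  haveI := Fintype.ofFinite X
  have hsw := swap hT.toTT hab hq1 hqq hqa hpc hnq hall
  have hf2 : 2 ≤ Fintype.card X := by
    have : ({a, b} : Finset X).card ≤ Fintype.card X := Finset.card_le_univ _
    rwa [Finset.card_pair hab] at this
  refine reg_even hT.toTT {w | IsConj q w} (fun w hw => inv_conj hq1 hqq hw) ?_ ?_ ?_ e he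
  · intro g w hw
    exact IsConj.trans hw (isConj_iff.2 ⟨g, rfl⟩)
  · intro w hw x hx
    haveI : Fact (Nat.Prime 2) := ⟨Nat.prime_two⟩
    have he0 : e ≠ 0 := by
      rintro rfl
      rw [Nat.card_eq_fintype_card] at he
      omega
    obtain ⟨y, hy, hyx⟩ := Equiv.Perm.exists_fixed_point_of_prime' (p := 2) (n := 1) (α := X) (σ := MulAction.toPerm w) (by
        rw [← Nat.card_eq_fintype_card, he]
        exact dvd_pow_self 2 he0) (by
        ext x
        rw [pow_one, pow_two, Equiv.Perm.mul_apply, MulAction.toPerm_apply, MulAction.toPerm_apply, ← mul_smul,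
          (inv_conj hq1 hqq hw).2, one_smul]
        rfl) (a := x) hx
    exact hyx (fix1 hq1 hqq h6 hnq hw hy hx)
  · intro x y hxy
    obtain ⟨w, hw, hwx, hu⟩ := hsw x y hxy
    exact ⟨w, hw, hwx, fun w' hw' => hu w' hw'⟩

end abstract

end Q7b


end H39.DA
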