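import Cfsg.Agent.Lib.H39.DAQ7a
import Cfsg.Agent.Lib.H38.PPrime
import Cfsg.Agent.Lib.H90.Q8i
import Mathlib.GroupTheory.FixedPointFree

/-!
S3262, piece Q8 (modulo `sh_odd`): no doubly transitive group of odd degree with two-point stabilizers of order two all of
whose involutions have at least two fixed points.
-/

set_option autoImplicit false
set_option linter.unusedSectionVars false
set_option linter.style.haveILetI false
set_option maxHeartbeats 1000000

namespace H39.DA.Q8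

open MulAction H38.Basic

universe u v

theorem fixco {A : Type*} [Group A] [Finite A] {p : ℕ} [Fact p.Prime] {P H : Subgroup A} (hP : IsPGroup p P) (hPH : P ≤ H)
    (h : ∀ g : A, (∀ x ∈ P, g⁻¹ * x * g ∈ H) → g ∈ H) : H.index ≡ 1 [MOD p] := by
  have h1 := hP.card_modEq_card_fixedPoints (A ⧸ H)
  have h2 : Nat.card (fixedPoints P (A ⧸ H)) = 1 := by
    rw [Nat.card_eq_one_iff_unique]
    refine ⟨⟨?_⟩, ⟨⟨((1 : A) : A ⧸ H), ?_⟩⟩⟩
    · have key : ∀ z : fixedPoints P (A ⧸ H), (z : A ⧸ H) = ((1 : A) : A ⧸ H) := by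
        rintro ⟨z, hz⟩
        obtain ⟨g, rfl⟩ := QuotientGroup.mk_surjective z
        have h3 : g ∈ H := by
          apply h
          intro x hx
          have h4 : (⟨x, hx⟩ : P)⁻¹ • ((g : A) : A ⧸ H) = ((g : A) : A ⧸ H) := hz _
          have h5 : ((x⁻¹ * g : A) : A ⧸ H) = (g : A ⧸ H) := h4
          rw [QuotientGroup.eq] at h5
          have h6 : (x⁻¹ * g)⁻¹ * g = g⁻¹ * x * g := by group
          rwa [h6] at h5
        rw [QuotientGroup.eq]
        simpa using h3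
      intro z z'
      exact Subtype.ext ((key z).trans (key z').symm)
    · intro x
      have h4 : x • ((1 : A) : A ⧸ H) = (((x : A) * 1 : A) : A ⧸ H) := rfl
      rw [h4, mul_one, QuotientGroup.eq, mul_one]
      exact inv_mem (hPH x.2)
  rw [h2, ← Subgroup.index_eq_card] at h1
  exact h1

theorem inv_of_fpf {A : Type*} [Group A] [Finite A] (N : Subgroup A) {w : A} (hw : w * w = 1)
    (hn : ∀ x ∈ N, w * x * w⁻¹ ∈ N) (hf : ∀ x ∈ N, w * x = x * w → x = 1) : ∀ x ∈ N, w * x * w⁻¹ = x⁻¹ := by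
  let φ : N →* N :=
    { toFun := fun x => ⟨w * x * w⁻¹, hn x x.2⟩
      map_one' := Subtype.ext (by simp)
      map_mul' := fun x y => Subtype.ext (by simp [mul_assoc]) }
  have h1 : MonoidHom.FixedPointFree φ := by
    intro x hx
    have h2 : w * x * w⁻¹ = x := congrArg Subtype.val hx
    exact Subtype.ext (hf x x.2 (mul_inv_eq_iff_eq_mul.1 h2))
  have h2 : Function.Involutive φ := by
    intro x
    apply Subtype.ext
    show w * (w * x * w⁻¹) * w⁻¹ = x
    have h3 : w * (w * x * w⁻¹) * w⁻¹ = (w * w) * x * (w * w)⁻¹ := by group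
    rw [h3, hw]; simp
  intro x hx
  have h3 := congrFun (h1.coe_eq_inv_of_involutive h2) ⟨x, hx⟩
  exact congrArg Subtype.val h3

theorem pow_odd {A : Type*} [Group A] {v : A} (hv : v * v = 1) {r : ℕ} (hr : Odd r) : v ^ r = v := by
  obtain ⟨k, hk⟩ := hr
  rw [hk, pow_succ, pow_mul, pow_two, hv, one_pow, one_mul]

theorem zp {A : Type*} [Group A] {v : A} (hv : v * v = 1) {x : A} (hx : x ∈ Subgroup.zpowers v) : x = 1 ∨ x = v := by
  obtain ⟨k, rfl⟩ := Subgroup.mem_zpowers_iff.1 hx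
  have h2 : v ^ (2 : ℤ) = 1 := by rw [zpow_two, hv]
  rcases Int.even_or_odd' k with ⟨j, rfl | rfl⟩
  · left; rw [zpow_mul, h2, one_zpow]
  · right; rw [zpow_add, zpow_mul, h2, one_zpow, one_mul, zpow_one]

section F

variable {C : Type u} {X : Type v} [Group C] [Finite C] [MulAction C X] [Finite X]

/-- `cb` as a homomorphism -/
def rho (C : Type u) (X : Type v) [Group C] [MulAction C X] (v : C) : Subgroup.centralizer ({v} : Set C) →* CB C X v :=
  (resHom (Subgroup.centralizer ({v} : Set C)) (Fx C (Ω := X) ({v} : Set C)) cent_inv).rangeRestrict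

theorem rho_surj (v : C) : Function.Surjective (rho C X v) := MonoidHom.rangeRestrict_surjective _

theorem mc {v g : C} (h : g * v = v * g) : g ∈ Subgroup.centralizer ({v} : Set C) :=
  Subgroup.mem_centralizer_singleton_iff.2 h

theorem mc' {v g : C} (h : g ∈ Subgroup.centralizer ({v} : Set C)) : g * v = v * g :=
  Subgroup.mem_centralizer_singleton_iff.1 h

theorem exists_F {v : C} (hv : Inv v)
    (hker : ∀ (g : C) (hg : g ∈ Subgroup.centralizer ({v} : Set C)), cb X hg = 1 ↔ (g = 1 ∨ g = v))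
    {r : ℕ} (hr : Odd r) (E : Subgroup (CB C X v)) (hE : Reg (CB C X v) (Fx C (Ω := X) ({v} : Set C)) E)
    (hc : ∀ g ∈ E, ∀ g' ∈ E, g * g' = g' * g) (he : ∀ g ∈ E, g ^ r = 1) (x0 : Fx C (Ω := X) ({v} : Set C)) :
    ∃ F : Subgroup C, (∀ g ∈ F, g * v = v * g) ∧ Nat.card F = Nat.card (Fx C (Ω := X) ({v} : Set C)) ∧
      (∀ g ∈ F, g ^ r = 1) ∧ (∀ a ∈ F, ∀ b ∈ F, a * b = b * a) ∧
      (∀ g, g * v = v * g → ∀ e ∈ F, g * e * g⁻¹ ∈ F) ∧
      (∀ g, g * v = v * g → (∀ e ∈ F, g * e = e * g) → g ∈ F ∨ g * v ∈ F) := by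
  have hk : ∀ g : Subgroup.centralizer ({v} : Set C), rho C X v g = 1 → (g : C) = 1 ∨ (g : C) = v :=
    fun g hg => (hker g g.2).1 hg
  have hk' : ∀ g : Subgroup.centralizer ({v} : Set C), ((g : C) = 1 ∨ (g : C) = v) → rho C X v g = 1 :=
    fun g hg => (hker g g.2).2 hg
  have hvr : v ^ r = v := pow_odd hv.2 hr
  have hvc : v ∈ Subgroup.centralizer ({v} : Set C) := mc rfl
  have hcm : ∀ g h : Subgroup.centralizer ({v} : Set C), rho C X v g ∈ E → rho C X v h ∈ E → (h : C) ^ r = 1 →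
      (g : C) * h = h * g := by
    intro g h hg hh hhr
    have h1 : rho C X v (g * h * g⁻¹ * h⁻¹) = 1 := by
      rw [map_mul, map_mul, map_mul, map_inv, map_inv, hc _ hg _ hh]; group
    rcases hk _ h1 with h2 | h2
    · have h3 : (g : C) * h * (g : C)⁻¹ * (h : C)⁻¹ = 1 := h2
      have h4 : (g : C) * h * (g : C)⁻¹ = h := mul_inv_eq_one.1 h3
      exact mul_inv_eq_iff_eq_mul.1 h4
    · exfalso
      have h3 : (g : C) * h * (g : C)⁻¹ * (h : C)⁻¹ = v := h2
      have h4 : (g : C) * h * (g : C)⁻¹ = v * h := mul_inv_eq_iff_eq_mul.1 h3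
      have h5 : (v * (h : C)) ^ r = v := by
        have hvh : Commute v (h : C) := (mc' h.2).symm
        rw [hvh.mul_pow, hvr, hhr, mul_one]
      have h6 : ((g : C) * h * (g : C)⁻¹) ^ r = 1 := by rw [conj_pow, hhr]; group
      rw [h4, h5] at h6
      exact hv.1 h6
  let F : Subgroup C :=
    { carrier := {g | ∃ hg : g ∈ Subgroup.centralizer ({v} : Set C), rho C X v ⟨g, hg⟩ ∈ E ∧ g ^ r = 1}
      one_mem' := ⟨one_mem _, by
        have : rho C X v ⟨1, one_mem _⟩ = 1 := map_one _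
        rw [this]; exact one_mem _, one_pow _⟩
      mul_mem' := by
        rintro a b ⟨ha, ha1, ha2⟩ ⟨hb, hb1, hb2⟩
        refine ⟨mul_mem ha hb, ?_, ?_⟩
        · have : rho C X v ⟨a * b, mul_mem ha hb⟩ = rho C X v ⟨a, ha⟩ * rho C X v ⟨b, hb⟩ := (rho C X v).map_mul ⟨a, ha⟩ ⟨b, hb⟩
          rw [this]; exact mul_mem ha1 hb1
        · have h1 : Commute a b := hcm ⟨a, ha⟩ ⟨b, hb⟩ ha1 hb1 hb2
          rw [h1.mul_pow, ha2, hb2, one_mul]
      inv_mem' := by
        rintro a ⟨ha, ha1, ha2⟩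
        refine ⟨inv_mem ha, ?_, by rw [inv_pow, ha2, inv_one]⟩
        have : rho C X v ⟨a⁻¹, inv_mem ha⟩ = (rho C X v ⟨a, ha⟩)⁻¹ := (rho C X v).map_inv ⟨a, ha⟩
        rw [this]; exact inv_mem ha1 }
  have hF : ∀ g, g ∈ F ↔ ∃ hg : g ∈ Subgroup.centralizer ({v} : Set C), rho C X v ⟨g, hg⟩ ∈ E ∧ g ^ r = 1 := fun g => Iff.rfl
  -- lifting
  have hlift : ∀ e ∈ E, ∃ g : F, ∃ hg : (g : C) ∈ Subgroup.centralizer ({v} : Set C), rho C X v ⟨g, hg⟩ = e := by
    intro e hee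
    obtain ⟨⟨g, hg⟩, hge⟩ := rho_surj (X := X) v e
    have h1 : rho C X v (⟨g, hg⟩ ^ r) = 1 := by rw [map_pow, hge, he e hee]
    rcases hk _ h1 with h2 | h2
    · exact ⟨⟨g, hg, by rw [hge]; exact hee, h2⟩, hg, hge⟩
    · have h2' : g ^ r = v := h2
      have hgv : Commute g v := mc' hg
      have h3 : rho C X v ⟨g * v, mul_mem hg hvc⟩ = e := by
        have : rho C X v ⟨g * v, mul_mem hg hvc⟩ = rho C X v ⟨g, hg⟩ * rho C X v ⟨v, hvc⟩ := (rho C X v).map_mul ⟨g, hg⟩ ⟨v, hvc⟩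
        rw [this, hk' ⟨v, hvc⟩ (Or.inr rfl), mul_one, hge]
      exact ⟨⟨g * v, mul_mem hg hvc, by rw [h3]; exact hee, by rw [hgv.mul_pow, h2', hvr, hv.2]⟩, _, h3⟩
  have hinj : ∀ g ∈ F, ∀ hg : g ∈ Subgroup.centralizer ({v} : Set C), rho C X v ⟨g, hg⟩ = 1 → g = 1 := by
    rintro g ⟨hg0, hg1, hg2⟩ hg h1
    rcases hk _ h1 with h2 | h2
    · exact h2
    · exfalso
      have h3 : g = v := h2
      rw [h3, hvr] at hg2
      exact hv.1 hg2
  refine ⟨F, fun g hg => mc' hg.1, ?_, fun g hg => hg.2.2, ?_, ?_, ?_⟩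
  · -- cardinality
    have c1 : Nat.card F = Nat.card E := by
      apply Nat.card_congr
      refine Equiv.ofBijective (fun g : F => (⟨rho C X v ⟨g, g.2.1⟩, g.2.2.1⟩ : E)) ⟨?_, ?_⟩
      · intro a b hab
        have h1 : rho C X v ⟨a, a.2.1⟩ = rho C X v ⟨b, b.2.1⟩ := congrArg Subtype.val hab
        have h2 : (a : C)⁻¹ * b = 1 := by
          apply hinj _ (mul_mem (inv_mem a.2) b.2) (mul_mem (inv_mem a.2.1) b.2.1)
          have : rho C X v ⟨(a : C)⁻¹ * b, mul_mem (inv_mem a.2.1) b.2.1⟩ = (rho C X v ⟨a, a.2.1⟩)⁻¹ * rho C X v ⟨b, b.2.1⟩ := by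
            rw [← map_inv, ← map_mul]; rfl
          rw [this, h1]; group
        exact Subtype.ext (inv_mul_eq_one.1 h2)
      · rintro ⟨e, hee⟩
        obtain ⟨g, hg, hge⟩ := hlift e hee
        exact ⟨g, Subtype.ext hge⟩
    have c2 : Nat.card E = Nat.card (Fx C (Ω := X) ({v} : Set C)) := by
      apply Nat.card_congr
      refine Equiv.ofBijective (fun e : E => (e : CB C X v) • x0) ⟨?_, ?_⟩
      · intro a b hab
        have h1 : (a : CB C X v) • x0 = (b : CB C X v) • x0 := hab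
        have h2 : ((a : CB C X v)⁻¹ * b) • x0 = x0 := by rw [mul_smul, ← h1, inv_smul_smul]
        have h3 := hE.2.2 _ (mul_mem (inv_mem a.2) b.2) x0 h2
        exact Subtype.ext (inv_mul_eq_one.1 h3)
      · intro y
        obtain ⟨e, hee, hy⟩ := hE.2.1 x0 y
        exact ⟨⟨e, hee⟩, hy⟩
    rw [c1, c2]
  · rintro a ⟨ha, ha1, ha2⟩ b ⟨hb, hb1, hb2⟩
    exact hcm ⟨a, ha⟩ ⟨b, hb⟩ ha1 hb1 hb2
  · rintro g hg e ⟨he0, he1, he2⟩
    refine ⟨mul_mem (mul_mem (mc hg) he0) (inv_mem (mc hg)), ?_, ?_⟩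
    · have : rho C X v ⟨g * e * g⁻¹, mul_mem (mul_mem (mc hg) he0) (inv_mem (mc hg))⟩ =
        rho C X v ⟨g, mc hg⟩ * rho C X v ⟨e, he0⟩ * (rho C X v ⟨g, mc hg⟩)⁻¹ := by
        rw [← map_inv, ← map_mul, ← map_mul]; rfl
      rw [this]
      exact hE.1.conj_mem _ he1 _
    · rw [conj_pow, he2]; group
  · intro g hg hcg
    have hgc : g ∈ Subgroup.centralizer ({v} : Set C) := mc hg
    have hce : ∀ e ∈ E, rho C X v ⟨g, hgc⟩ * e = e * rho C X v ⟨g, hgc⟩ := by
      intro e hee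
      obtain ⟨a, ha, rfl⟩ := hlift e hee
      rw [← map_mul, ← map_mul]
      congr 1
      exact Subtype.ext (hcg a a.2)
    obtain ⟨e, hee, hex⟩ := hE.2.1 x0 (rho C X v ⟨g, hgc⟩ • x0)
    have h1 : rho C X v ⟨g, hgc⟩ = e := by
      apply Subtype.ext
      apply Equiv.ext
      intro y
      obtain ⟨e', he', rfl⟩ := hE.2.1 x0 y
      show rho C X v ⟨g, hgc⟩ • e' • x0 = e • e' • x0
      rw [← mul_smul, hce e' he', mul_smul, ← hex, ← mul_smul, ← mul_smul, hc e' he' e hee]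
    obtain ⟨a, ha, hae⟩ := hlift e hee
    have h2 : rho C X v (⟨g, hgc⟩ * ⟨a, ha⟩⁻¹) = 1 := by rw [map_mul, map_inv, h1, hae]; group
    rcases hk _ h2 with h3 | h3
    · left
      have h4 : g * (a : C)⁻¹ = 1 := h3
      rw [mul_inv_eq_one.1 h4]
      exact a.2
    · right
      have h4 : g * (a : C)⁻¹ = v := h3
      have h5 : g * v = a := by
        rw [hg]
        have h6 : g = v * a := mul_inv_eq_iff_eq_mul.1 h4
        rw [h6, ← mul_assoc, hv.2, one_mul]
      rw [h5]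
      exact a.2

end F


section main

variable {C : Type u} {X : Type v} [Group C] [Finite C] [MulAction C X] [Finite X]

theorem inv_conj {v w : C} (hv : Inv v) (h : IsConj v w) : Inv w := by
  obtain ⟨c, hc⟩ := isConj_iff.1 h
  refine ⟨fun h1 => hv.1 ?_, ?_⟩
  · rw [h1, mul_inv_eq_one] at hc
    exact mul_left_cancel (hc.trans (mul_one c).symm)
  · rw [← hc]
    have : c * v * c⁻¹ * (c * v * c⁻¹) = c * (v * v) * c⁻¹ := by group
    rw [this, hv.2]; group

theorem fx_conj {v w : C} (h : IsConj v w) : fx C X w = fx C X v := by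
  obtain ⟨c, rfl⟩ := isConj_iff.1 h
  symm
  apply Nat.card_congr
  refine ⟨fun x => ⟨c • (x : X), ?_⟩, fun x => ⟨c⁻¹ • (x : X), ?_⟩, ?_, ?_⟩
  · rw [mul_smul, mul_smul, inv_smul_smul, x.2]
  · have h1 := x.2
    rw [mul_smul, mul_smul] at h1
    exact (eq_inv_smul_iff.2 h1)
  · intro x; exact Subtype.ext (inv_smul_smul _ _)
  · intro x; exact Subtype.ext (smul_inv_smul _ _)

theorem order_inv {v : C} (hv : Inv v) : orderOf v = 2 := orderOf_eq_prime (by rw [pow_two]; exact hv.2) hv.1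

/-- the end of the argument -/
theorem endgame {v p : C} (hv : Inv v) (hp : Inv p) (hpv : p * v = v * p) (hne : p ≠ v)
    {r k m : ℕ} (hr : r.Prime) (hr2 : Odd r) (hk : 1 ≤ k) (hm : m = r ^ k)
    (hC : Nat.card C = 2 * (m * (2 * m - 1) * (m * (2 * m - 1) - 1)))
    (hCv : Nat.card (Subgroup.centralizer ({v} : Set C)) = 2 * (m * (m - 1)))
    (F : Subgroup C) (hFv : ∀ g ∈ F, g * v = v * g) (hFm : Nat.card F = m)
    (hFr : ∀ g ∈ F, g ^ r = 1) (hFc : ∀ a ∈ F, ∀ b ∈ F, a * b = b * a)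
    (hFn : ∀ g, g * v = v * g → ∀ e ∈ F, g * e * g⁻¹ ∈ F)
    (hFs : ∀ g, g * v = v * g → (∀ e ∈ F, g * e = e * g) → g ∈ F ∨ g * v ∈ F)
    (hkill : ∀ w : C, Inv w → v * w = w * v → v ≠ w → ∀ g : C, g * w = w * g → (orderOf g).Coprime (2 * m) →
      v * g * v⁻¹ = g⁻¹ → g = 1) : False := by
  haveI : Fact r.Prime := ⟨hr⟩
  haveI : Fact (Nat.Prime 2) := ⟨Nat.prime_two⟩
  have hr3 : 3 ≤ r := by
    obtain ⟨j, hj⟩ := hr2
    have := hr.two_le
    omega
  have hvinv : v⁻¹ = v := inv_eq_of_mul_eq_one_left hv.2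
  have hrm : r ∣ m := by rw [hm]; exact dvd_pow_self r (by omega)
  have hm3 : 3 ≤ m := hr3.trans (Nat.le_of_dvd (by rw [hm]; exact pow_pos hr.pos k) hrm)
  have hvo : orderOf v = 2 := order_inv hv
  -- arithmetic
  have hA : m * (2 * m - 1) - 1 = (2 * m + 1) * (m - 1) := by
    obtain ⟨n, rfl⟩ : ∃ n, m = n + 1 := ⟨m - 1, by omega⟩
    have h1 : 2 * (n + 1) - 1 = 2 * n + 1 := by omega
    rw [h1, Nat.add_sub_cancel]
    have h2 : (n + 1) * (2 * n + 1) = (2 * (n + 1) + 1) * n + 1 := by ring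
    rw [h2, Nat.add_sub_cancel]
  have hnd1 : ¬ r ∣ m - 1 := by
    intro h1
    have := (Nat.dvd_sub hrm h1)
    rw [show m - (m - 1) = 1 by omega] at this
    exact hr.one_lt.ne' (Nat.dvd_one.1 this)
  have hnd2 : ¬ r ∣ 2 * m - 1 := by
    intro h1
    have := (Nat.dvd_sub (hrm.mul_left 2) h1)
    rw [show 2 * m - (2 * m - 1) = 1 by omega] at this
    exact hr.one_lt.ne' (Nat.dvd_one.1 this)
  have hnd3 : ¬ r ∣ 2 * m + 1 := by
    intro h1
    have := (Nat.dvd_sub h1 (hrm.mul_left 2))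
    rw [show 2 * m + 1 - 2 * m = 1 by omega] at this
    exact hr.one_lt.ne' (Nat.dvd_one.1 this)
  have hnd4 : ¬ r ∣ 2 := by
    intro h1
    have := Nat.le_of_dvd (by norm_num) h1
    omega
  have hFp : IsPGroup r F := fun x => ⟨1, Subtype.ext (by rw [pow_one]; exact hFr x x.2)⟩
  have hFidx : ¬ r ∣ F.index := by
    have h1 : Nat.card F * F.index = Nat.card C := F.card_mul_index
    rw [hFm, hC, hA] at h1
    have h2 : F.index = 2 * ((2 * m - 1) * ((2 * m + 1) * (m - 1))) := by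
      apply Nat.eq_of_mul_eq_mul_left (show 0 < m by omega)
      rw [h1]; ring
    rw [h2, hr.dvd_mul, hr.dvd_mul, hr.dvd_mul]
    tauto
  obtain ⟨J, hJ⟩ : ∃ J, J = Subgroup.centralizer (F : Set C) := ⟨_, rfl⟩
  have hJm : ∀ x, x ∈ J ↔ ∀ e ∈ F, e * x = x * e := fun x => by rw [hJ, Subgroup.mem_centralizer_iff]; rfl
  have hFJ : F ≤ J := fun x hx => (hJm x).2 fun e he => hFc e he x hx
  have hsyl : IsSyl r F J := by
    refine ⟨hFJ, hFp, fun h1 => hFidx ?_⟩
    rw [← Subgroup.relIndex_mul_index hFJ]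
    exact h1.mul_right _
  obtain ⟨K, hK, -, -⟩ := H38.PPrime.exists_complement_of_central hsyl (by
    intro x hx
    rw [hJ] at hx
    exact hx)
  have hvJ : v ∈ J := (hJm v).2 hFv
  have hvK : v ∈ K := (hK v).2 ⟨hvJ, by
    rw [hvo]; exact ((Nat.coprime_primes Nat.prime_two hr).2 (by omega))⟩
  have hcK : ∀ g ∈ K, g * v = v * g → g = 1 ∨ g = v := by
    intro g hg hgv
    obtain ⟨hgJ, hgo⟩ := (hK g).1 hg
    rcases hFs g hgv (fun e he => ((hJm g).1 hgJ e he).symm) with h1 | h1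
    · left
      have h2 : orderOf g ∣ r := orderOf_dvd_of_pow_eq_one (hFr g h1)
      have h3 : orderOf g = 1 := Nat.eq_one_of_dvd_coprimes hgo dvd_rfl h2
      exact orderOf_eq_one_iff.1 h3
    · right
      have h2 := hFr _ h1
      have hc : Commute g v := hgv
      rw [hc.mul_pow, pow_odd hv.2 hr2] at h2
      have h3 : g ^ r = v := by rw [← hvinv]; exact mul_eq_one_iff_eq_inv.1 h2
      have h4 : g ^ (2 * r) = 1 := by rw [mul_comm, pow_mul, h3, pow_two, hv.2]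
      have h5 : orderOf g ∣ 2 := hgo.dvd_of_dvd_mul_right (orderOf_dvd_of_pow_eq_one h4)
      have h6 : g * g = 1 := by rw [← pow_two]; exact orderOf_dvd_iff_pow_eq_one.1 h5
      rw [← h3]
      exact (pow_odd h6 hr2).symm
  -- Sylow 2-subgroup of `K`
  have hzvK : Subgroup.zpowers v ≤ K := by rwa [Subgroup.zpowers_le]
  have hz2 : IsPGroup 2 (Subgroup.zpowers v) := by
    intro x
    refine ⟨1, Subtype.ext ?_⟩
    rw [pow_one]
    rcases zp hv.2 x.2 with h | h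
    · show (x : C) ^ 2 = 1
      rw [h, one_pow]
    · show (x : C) ^ 2 = 1
      rw [h, pow_two, hv.2]
  have hsyl2 : IsSyl 2 (Subgroup.zpowers v) K := by
    refine ⟨hzvK, hz2, ?_⟩
    have h1 : ((Subgroup.zpowers v).subgroupOf K).index ≡ 1 [MOD 2] := by
      apply fixco (P := (Subgroup.zpowers v).subgroupOf K) (hz2.comap_subtype) le_rfl
      intro g hg
      have h2 := hg ⟨v, hvK⟩ (Subgroup.mem_zpowers v)
      have h3 : (g : C)⁻¹ * v * g ∈ Subgroup.zpowers v := h2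
      have h4 : (g : C) * v = v * g := by
        rcases zp hv.2 h3 with h | h
        · exfalso
          apply hv.1
          have h5 : v = (g : C) * ((g : C)⁻¹ * v * g) * (g : C)⁻¹ := by group
          rw [h5, h]; group
        · calc (g : C) * v = g * ((g : C)⁻¹ * v * g) := by rw [h]
            _ = v * g := by group
      rw [Subgroup.mem_subgroupOf]
      rcases hcK g g.2 h4 with h | h
      · rw [h]; exact one_mem _
      · rw [h]; exact Subgroup.mem_zpowers v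
    intro h2
    rw [Subgroup.relIndex] at h2
    have h3 : ((Subgroup.zpowers v).subgroupOf K).index ≡ 0 [MOD 2] := (Nat.modEq_zero_iff_dvd).2 h2
    have h4 := h1.symm.trans h3
    exact absurd h4 (by decide)
  obtain ⟨Y, hY, -, hYK⟩ := H38.PPrime.exists_complement_of_burnside hsyl2 (by
    intro g hg
    obtain ⟨hgK, hgn⟩ := Subgroup.mem_inf.1 hg
    rw [Subgroup.mem_centralizer_iff]
    have h3 := (Subgroup.mem_normalizer_iff.1 hgn v).1 (Subgroup.mem_zpowers v)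
    have h4 : g * v = v * g := by
      rcases zp hv.2 h3 with h | h
      · exfalso
        apply hv.1
        have h5 : v = g⁻¹ * (g * v * g⁻¹) * g := by group
        rw [h5, h]; group
      · exact mul_inv_eq_iff_eq_mul.1 h
    intro y hy
    rcases zp hv.2 hy with rfl | rfl
    · rw [one_mul, mul_one]
    · exact h4.symm)
  -- conjugation by elements commuting with `v`
  have hYn : ∀ w, w * v = v * w → ∀ x ∈ Y, w * x * w⁻¹ ∈ Y := by
    intro w hw x hx
    obtain ⟨hxK, hx2⟩ := (hY x).1 hx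
    obtain ⟨hxJ, hxr⟩ := (hK x).1 hxK
    have ho : orderOf (w * x * w⁻¹) = orderOf x := H38.PPrime.orderOf_conj w x
    refine (hY _).2 ⟨(hK _).2 ⟨(hJm _).2 fun e he => ?_, by rw [ho]; exact hxr⟩, by rw [ho]; exact hx2⟩
    have hw' : w⁻¹ * v = v * w⁻¹ := by
      have : w⁻¹ * (w * v) * w⁻¹ = w⁻¹ * (v * w) * w⁻¹ := by rw [hw]
      simpa [mul_assoc] using this.symm
    have h1 := hFn w⁻¹ hw' e he
    rw [inv_inv] at h1
    have h2 := (hJm x).1 hxJ _ h1
    calc e * (w * x * w⁻¹) = w * ((w⁻¹ * e * w) * x) * w⁻¹ := by group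
      _ = w * (x * (w⁻¹ * e * w)) * w⁻¹ := by rw [h2]
      _ = w * x * w⁻¹ * e := by group
  have hYcop : ∀ x ∈ Y, (orderOf x).Coprime (2 * m) := by
    intro x hx
    obtain ⟨hxK, hx2⟩ := (hY x).1 hx
    obtain ⟨hxJ, hxr⟩ := (hK x).1 hxK
    rw [hm]
    exact Nat.Coprime.mul_right hx2 (hxr.pow_right k)
  have hvY : ∀ x ∈ Y, v * x * v⁻¹ = x⁻¹ := by
    refine inv_of_fpf Y hv.2 (hYn v rfl) (fun x hx hxv => ?_)
    obtain ⟨hxK, hx2⟩ := (hY x).1 hx
    rcases hcK x hxK hxv.symm with h | h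
    · exact h
    · exfalso
      rw [h, hvo] at hx2
      exact absurd hx2 (by decide)
  have hwY : ∀ w, Inv w → w * v = v * w → v ≠ w → ∀ x ∈ Y, w * x * w⁻¹ = x⁻¹ := by
    intro w hw hwv hne' 
    refine inv_of_fpf Y hw.2 (hYn w hwv) (fun x hx hxw => ?_)
    exact hkill w hw hwv.symm hne' x hxw.symm (hYcop x hx) (hvY x hx)
  have hpY := hwY p hp hpv (fun h => hne h.symm)
  have hqY := hwY (p * v) ⟨fun h => hne (by
      have : p = v⁻¹ := eq_inv_of_mul_eq_one_left h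
      rw [this, hvinv]), by
      have : p * v * (p * v) = p * (v * p) * v := by group
      rw [this, ← hpv]
      have : p * (p * v) * v = (p * p) * (v * v) := by group
      rw [this, hp.2, hv.2, one_mul]⟩ (by
      rw [mul_assoc, hv.2, mul_one, ← mul_assoc, ← hpv, mul_assoc, hv.2, mul_one]) (by
      intro h
      apply hp.1
      have : p * v = 1 * v := by rw [one_mul]; exact h.symm
      exact mul_right_cancel this)
  have hY1 : ∀ x ∈ Y, x = 1 := by
    intro x hx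
    have h1 := hqY x hx
    have h2 : p * v * x * (p * v)⁻¹ = p * (v * x * v⁻¹) * p⁻¹ := by group
    rw [h2, hvY x hx, hpY _ (inv_mem hx), inv_inv] at h1
    have h3 : x ^ 2 = 1 := by rw [pow_two]; nth_rw 1 [h1]; exact inv_mul_cancel x
    have h4 : orderOf x ∣ 2 := orderOf_dvd_of_pow_eq_one h3
    have h5 : orderOf x = 1 := Nat.eq_one_of_dvd_coprimes ((hY x).1 hx).2 dvd_rfl h4
    exact orderOf_eq_one_iff.1 h5
  have hKv : ∀ x ∈ K, x = 1 ∨ x = v := by
    intro x hx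
    obtain ⟨t, ht, y, hy, rfl⟩ := hYK x hx
    rw [hY1 y hy, mul_one]
    exact zp hv.2 ht
  -- counting
  have hcount : (Subgroup.centralizer ({v} : Set C)).index ≡ 1 [MOD r] := by
    apply fixco hFp (fun x hx => mc (hFv x hx))
    intro g hg
    have h1 : g * v * g⁻¹ ∈ K := by
      refine (hK _).2 ⟨(hJm _).2 fun e he => ?_, ?_⟩
      · have h2 := mc' (hg e he)
        calc e * (g * v * g⁻¹) = g * ((g⁻¹ * e * g) * v) * g⁻¹ := by group
          _ = g * (v * (g⁻¹ * e * g)) * g⁻¹ := by rw [h2]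
          _ = g * v * g⁻¹ * e := by group
      · rw [H38.PPrime.orderOf_conj, hvo]
        exact ((Nat.coprime_primes Nat.prime_two hr).2 (by omega))
    apply mc
    rcases hKv _ h1 with h | h
    · exfalso
      apply hv.1
      have h5 : v = g⁻¹ * (g * v * g⁻¹) * g := by group
      rw [h5, h]; group
    · exact mul_inv_eq_iff_eq_mul.1 h
  have hidx : (Subgroup.centralizer ({v} : Set C)).index = (2 * m - 1) * (2 * m + 1) := by
    have h1 := (Subgroup.centralizer ({v} : Set C)).card_mul_index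
    rw [hCv, hC, hA] at h1
    apply Nat.eq_of_mul_eq_mul_left (show 0 < 2 * (m * (m - 1)) from Nat.mul_pos (by norm_num) (Nat.mul_pos (by omega) (by omega)))
    rw [h1]; ring
  rw [hidx] at hcount
  have h9 : (2 * m - 1) * (2 * m + 1) + 1 = 4 * (m * m) := by
    obtain ⟨n, rfl⟩ : ∃ n, m = n + 1 := ⟨m - 1, by omega⟩
    have h1 : 2 * (n + 1) - 1 = 2 * n + 1 := by omega
    rw [h1]; ring
  have h10 := hcount.add_right 1
  rw [h9] at h10
  have h11 : 4 * (m * m) ≡ 0 [MOD r] := (Nat.modEq_zero_iff_dvd).2 ((hrm.mul_right m).mul_left 4)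
  have h12 : 1 + 1 ≡ 0 [MOD r] := h10.symm.trans h11
  exact hnd4 ((Nat.modEq_zero_iff_dvd).1 h12)

end main


-- [Q8]
theorem t2_no_odd_of (sh_odd : ∀ {Y : Type v} {Z : Type v} [Group Y] [Finite Y] [MulAction Y Z] [Finite Z] (_ : Sh Y Z)
      (_ : Odd (Nat.card Z)), Nat.card Y = Nat.card Z * (Nat.card Z - 1) ∧
      ∃ (r k : ℕ) (F : Subgroup Y), r.Prime ∧ 1 ≤ k ∧ Nat.card Z = r ^ k ∧ Reg Y Z F ∧
      (∀ g ∈ F, ∀ g' ∈ F, g * g' = g' * g) ∧ (∀ g ∈ F, g ^ r = 1) ∧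
      (∀ g : Y, Inv g → ∀ e ∈ F, g * e * g⁻¹ = e⁻¹))
    {C : Type u} {X : Type v} [Group C] [Finite C] [MulAction C X] [Finite X] (h : T2 C X) (ho : Odd (Nat.card X))
    (hall : ∀ g : C, Inv g → ∃ c d : X, c ≠ d ∧ g • c = c ∧ g • d = d) : False := by
  obtain ⟨a, b, hab⟩ := h.two
  obtain ⟨v, hvS, hv1⟩ : ∃ v ∈ St C a b, v ≠ 1 := by
    have h1 : 1 < Nat.card (St C a b) := by rw [h.st a b hab]; norm_num
    haveI := Finite.one_lt_card_iff_nontrivial.1 h1
    obtain ⟨⟨v, hv⟩, hne⟩ := exists_ne (1 : St C a b)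
    exact ⟨v, hv, fun h2 => hne (Subtype.ext h2)⟩
  obtain ⟨hv, hm2, hmf, hC, hCv, hconj, hfm, hSh, hker, p, q, hpq, hpa, hpb, hqa, hqb, hqp, hvp, hqq, hsw⟩ :=
    t2_main h hab hvS hv1
  have hallc : ∀ g : C, Inv g → IsConj v g := fun g hg => hconj g hg.1 (hall g hg)
  have hp : Inv p := inv_conj hv hvp
  have hq : Inv q := by
    refine ⟨fun h1 => hab ?_, hqq⟩
    rw [h1, one_smul] at hqa
    exact hqa
  have hvinv : v⁻¹ = v := inv_eq_of_mul_eq_one_left hv.2
  have hpinv : p⁻¹ = p := inv_eq_of_mul_eq_one_left hp.2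
  have hpv : p * v = v * p := by
    have h1 : (p * v)⁻¹ = p * v := by
      rw [← hqp]; exact inv_eq_of_mul_eq_one_left hqq
    rw [mul_inv_rev, hvinv, hpinv] at h1
    exact h1.symm
  have hne : p ≠ v := by
    intro h1
    rw [h1, hv.2] at hqp
    exact hq.1 hqp
  obtain ⟨m, hm⟩ : ∃ m, m = fx C X v := ⟨_, rfl⟩
  -- the number of swapping involutions
  have hN : Nat.card {g : C // IsConj v g ∧ g • a = b ∧ g • b = a} = 2 := by
    have h1 : Nat.card {g : C // IsConj v g ∧ g • a = b ∧ g • b = a} = ({p, q} : Set C).ncard := by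
      rw [← Nat.card_coe_set_eq]
      apply Nat.card_congr
      apply Equiv.subtypeEquivRight
      intro g
      constructor
      · rintro ⟨-, h2, h3⟩
        exact hsw g h2 h3
      · rintro (h2 | h2)
        · rw [h2]; exact ⟨hvp, hpa, hpb⟩
        · have h3 : g = q := h2
          rw [h3]; exact ⟨hallc q hq, hqa, hqb⟩
    rw [h1, Set.ncard_pair hpq]
  rw [hN, ← hm] at hfm
  rw [← hm] at hm2 hmf hCv
  have hf : Nat.card X = m * (2 * m - 1) := by
    obtain ⟨n, rfl⟩ : ∃ n, m = n + 1 := ⟨m - 1, by omega⟩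
    have h1 : 2 * (n + 1) - 1 = 2 * n + 1 := by omega
    rw [h1]
    rw [Nat.add_sub_cancel] at hfm
    have h2 : (n + 1) * (2 * n + 1) = (n + 1) * n * 2 + (n + 1) := by ring
    rw [h2]; omega
  have hmo : Odd m := by
    rw [hf] at ho
    exact (Nat.odd_mul.1 ho).1
  rw [hf] at hC
  -- structure of `C(w)` for involutions `w`
  have hstr : ∀ w : C, Inv w → Sh (CB C X w) (Fx C (Ω := X) ({w} : Set C)) ∧
      (∀ (g : C) (hg : g ∈ Subgroup.centralizer ({w} : Set C)), cb X hg = 1 ↔ (g = 1 ∨ g = w)) ∧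
      Nat.card (Fx C (Ω := X) ({w} : Set C)) = m ∧ fx C X w = m := by
    intro w hw
    obtain ⟨c, d, hcd, hc, hd⟩ := hall w hw
    obtain ⟨-, -, -, -, -, -, -, h1, h2, -⟩ := t2_main h hcd (v := w) (Subgroup.mem_inf.2 ⟨hc, hd⟩) hw.1
    have h3 : fx C X w = m := by rw [hm]; exact fx_conj (hallc w hw)
    exact ⟨h1, h2, by rw [H90.Q8i.card_Fx, h3], h3⟩
  obtain ⟨hShv, hkerv, hFxv, -⟩ := hstr v hv
  obtain ⟨-, r, k, E, hr, hk, hrk, hE, hEc, hEe, -⟩ := sh_odd hShv (by rw [hFxv]; exact hmo)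
  rw [hFxv] at hrk
  have hro : Odd r := by
    rw [hrk] at hmo
    exact Nat.Odd.of_mul_left (n := r ^ (k - 1)) (by
      rw [← pow_succ', Nat.sub_add_cancel hk]; exact hmo)
  have hx0 : a ∈ Fx C (Ω := X) ({v} : Set C) := by
    intro g hg
    rw [Set.mem_singleton_iff] at hg
    rw [hg]
    exact (Subgroup.mem_inf.1 hvS).1
  obtain ⟨F, hFv, hFm, hFr, hFc, hFn, hFs⟩ := exists_F hv hkerv hro E hE hEc hEe ⟨a, hx0⟩
  rw [hFxv] at hFm
  refine endgame hv hp hpv hne hr hro hk hrk hC hCv F hFv hFm hFr hFc hFn hFs ?_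
  intro w hw hvw hvw' g hg hgo hinv
  obtain ⟨h1, h2, h3, h4⟩ := hstr w hw
  obtain ⟨-, r', k', E', -, -, -, hE', -, -, hEi'⟩ := sh_odd h1 (by rw [h3]; exact hmo)
  exact H90.Q8i.inv_kill hw h1 h2 E' hE' hEi' hv hvw hvw' hg (by rw [h4]; exact hgo) hinv

end H39.DA.Q8
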