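import Cfsg.Agent.Lib.H39.DA2

/-!
S3262, piece Q9a: the odd lift of the regular normal subgroup.
-/

set_option autoImplicit false
set_option linter.unusedSectionVars false
set_option linter.unusedVariables false

open MulAction

universe u v w

namespace H39.DA

namespace Q9a

variable {L : Type u} {B : Type v} {X : Type w} [Group L] [Group B] [Finite L] [Finite B]
  [MulAction B X] [Finite X]

theorem lift_core (φ : L →* B) (hφ : Function.Surjective φ) (t : L) (ht : t ≠ 1) (ht2 : t * t = 1)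
    (hk : ∀ g, φ g = 1 ↔ g = 1 ∨ g = t) (hT : T2 B X) {r : ℕ} (hr : Odd r) (E : Subgroup B)
    (hE : Reg B X E) (hcomm : ∀ g ∈ E, ∀ g' ∈ E, g * g' = g' * g) (hexp : ∀ g ∈ E, g ^ r = 1) :
    ∃ Et : Subgroup L, Nat.card Et = Nat.card X ∧ (∀ g, ∀ e ∈ Et, g * e * g⁻¹ ∈ Et) ∧
      (∀ e ∈ Et, ∀ e' ∈ Et, e * e' = e' * e) ∧ (∀ e ∈ Et, e ^ r = 1) ∧
      (∀ g, (∀ e ∈ Et, g * e = e * g) → g ∈ Et ∨ g * t ∈ Et) ∧
      (∀ g, Odd (orderOf g) → ∀ e ∈ Et, e ≠ 1 → g * e = e * g → g ∈ Et) := by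
  obtain ⟨hEn, hEt, hEr⟩ := hE
  obtain ⟨j, hj⟩ := hr
  -- `t` is central
  have htc : ∀ g : L, g * t = t * g := by
    intro g
    have h1 : φ (g * t * g⁻¹) = 1 := by
      rw [map_mul, map_mul, (hk t).2 (Or.inr rfl), mul_one, ← map_mul, mul_inv_cancel, map_one]
    rcases (hk _).1 h1 with h2 | h2
    · exfalso
      apply ht
      have h3 : g * t = g := by
        have := congrArg (· * g) h2
        simpa using this
      exact mul_eq_left.1 h3
    · have := congrArg (· * g) h2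
      simpa using this
  have htinv : t⁻¹ = t := inv_eq_of_mul_eq_one_left ht2
  -- odd powers of t
  have htr : t ^ r = t := by
    rw [hj, pow_succ, pow_mul, pow_two, ht2, one_pow, one_mul]
  -- elements with trivial r-th power commute
  have hcom : ∀ x y : L, φ x ∈ E → φ y ∈ E → x ^ r = 1 → x * y = y * x := by
    intro x y hx hy hxr
    have h1 : φ (x * y * x⁻¹ * y⁻¹) = 1 := by
      rw [map_mul, map_mul, map_mul, hcomm _ hx _ hy, map_inv, map_inv]
      group
    rcases (hk _).1 h1 with h2 | h2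
    · have h3 : x * y * x⁻¹ = y := mul_inv_eq_one.1 h2
      exact mul_inv_eq_iff_eq_mul.1 h3
    · exfalso
      -- y x y⁻¹ = t x
      have h3 : x * y * x⁻¹ = t * y := mul_inv_eq_iff_eq_mul.1 h2
      have h4 : x * y = t * y * x := mul_inv_eq_iff_eq_mul.1 h3
      have h5 : y * x * y⁻¹ = t * x := by
        have h6 : y * x = t * (x * y) := by
          rw [h4, ← mul_assoc, ← mul_assoc, ht2, one_mul]
        rw [h6]; group
      have h7 : (y * x * y⁻¹) ^ r = 1 := by
        rw [conj_pow, hxr]; group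
      rw [h5, (show Commute t x from (htc x).symm).mul_pow, hxr, mul_one, htr] at h7
      exact ht h7
  let Et : Subgroup L :=
    { carrier := {x | φ x ∈ E ∧ x ^ r = 1}
      one_mem' := ⟨by rw [map_one]; exact one_mem _, one_pow _⟩
      mul_mem' := by
        rintro x y ⟨hx, hx'⟩ ⟨hy, hy'⟩
        refine ⟨by rw [map_mul]; exact mul_mem hx hy, ?_⟩
        rw [(show Commute x y from hcom x y hx hy hx').mul_pow, hx', hy', one_mul]
      inv_mem' := by
        rintro x ⟨hx, hx'⟩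
        refine ⟨by rw [map_inv]; exact inv_mem hx, ?_⟩
        rw [inv_pow, hx', inv_one] }
  have hmem : ∀ x : L, x ∈ Et ↔ φ x ∈ E ∧ x ^ r = 1 := fun x => Iff.rfl
  -- surjectivity on E
  have hsur : ∀ e ∈ E, ∃ x ∈ Et, φ x = e := by
    intro e he
    obtain ⟨x, rfl⟩ := hφ e
    have h1 : φ (x ^ r) = 1 := by rw [map_pow]; exact hexp _ he
    have h2 : (x ^ r) * (x ^ r) = 1 := by
      rcases (hk _).1 h1 with h3 | h3
      · rw [h3, one_mul]
      · rw [h3, ht2]
    refine ⟨x * x ^ r, (hmem _).2 ⟨?_, ?_⟩, ?_⟩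
    · rw [map_mul, h1, mul_one]; exact he
    · rw [(Commute.pow_right (Commute.refl x) r).mul_pow, ← pow_mul, mul_comm r r, pow_mul]
      have h4 : ∀ y : L, y * y ^ r = (y * y) ^ (j + 1) := by
        intro y
        rw [← pow_two, ← pow_mul, ← pow_succ']
        congr 1; omega
      rw [h4, h2, one_pow]
    · rw [map_mul, h1, mul_one]
  have hinj : ∀ x ∈ Et, φ x = 1 → x = 1 := by
    intro x hx h1
    rcases (hk _).1 h1 with h2 | h2
    · exact h2
    · exfalso
      have h3 := ((hmem _).1 hx).2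
      rw [h2, htr] at h3
      exact ht h3
  obtain ⟨x0, x1, h01⟩ := hT.two
  have hrep : ∀ g : L, φ g ∈ E → g ∈ Et ∨ g * t ∈ Et := by
    intro g hg
    obtain ⟨x, hx, hxg⟩ := hsur _ hg
    have h1 : φ (x⁻¹ * g) = 1 := by rw [map_mul, map_inv, hxg, inv_mul_cancel]
    rcases (hk _).1 h1 with h2 | h2
    · left
      rw [inv_mul_eq_one] at h2
      rw [← h2]; exact hx
    · right
      rw [inv_mul_eq_iff_eq_mul] at h2
      rw [h2, mul_assoc, ht2, mul_one]; exact hx
  refine ⟨Et, ?_, ?_, ?_, ?_, ?_, ?_⟩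
  · apply Nat.card_eq_of_bijective (fun x : Et => φ (x : L) • x0)
    constructor
    · intro x y hxy
      have h0 : φ (x : L) • x0 = φ (y : L) • x0 := hxy
      have h1 : (φ ((y : L)⁻¹ * x)) • x0 = x0 := by
        rw [map_mul, map_inv, mul_smul, h0, ← mul_smul, inv_mul_cancel, one_smul]
      have hm : (y : L)⁻¹ * x ∈ Et := mul_mem (inv_mem y.2) x.2
      have h2 := hEr _ ((hmem _).1 hm).1 x0 h1
      have h3 := hinj _ hm h2
      exact Subtype.ext (inv_mul_eq_one.1 h3).symm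
    · intro z
      obtain ⟨e, he, hez⟩ := hEt x0 z
      obtain ⟨x, hx, hxe⟩ := hsur e he
      exact ⟨⟨x, hx⟩, by show φ x • x0 = z; rw [hxe, hez]⟩
  · intro g e he
    refine (hmem _).2 ⟨?_, ?_⟩
    · rw [map_mul, map_mul, map_inv]
      exact hEn.conj_mem _ ((hmem _).1 he).1 _
    · rw [conj_pow, ((hmem _).1 he).2]; group
  · intro e he e' he'
    exact hcom e e' ((hmem _).1 he).1 ((hmem _).1 he').1 ((hmem _).1 he).2
  · intro e he
    exact ((hmem _).1 he).2
  · intro g hg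
    apply hrep
    obtain ⟨e, he, hex⟩ := hEt x0 (φ g • x0)
    have hfix : (e⁻¹ * φ g) • x0 = x0 := by
      rw [mul_smul, ← hex, ← mul_smul, inv_mul_cancel, one_smul]
    have h1 : e⁻¹ * φ g = 1 := by
      apply hT.faith
      intro z
      obtain ⟨e', he', rfl⟩ := hEt x0 z
      obtain ⟨y, hy, hye⟩ := hsur e' he'
      have h2 : φ g * e' = e' * φ g := by
        rw [← hye, ← map_mul, hg y hy, map_mul]
      have h3 : e⁻¹ * φ g * e' = e' * (e⁻¹ * φ g) := by
        rw [mul_assoc, h2, ← mul_assoc, hcomm _ (inv_mem he) _ he', mul_assoc]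
      rw [← mul_smul, h3, mul_smul, hfix]
    rw [inv_mul_eq_one] at h1
    rw [← h1]; exact he
  · intro g hodd e he he1 hge
    set b := φ g with hb
    have hbar := ((hmem _).1 he).1
    have hbar1 : φ e ≠ 1 := fun h => he1 (hinj e he h)
    obtain ⟨e1, he1m, hex⟩ := hEt x0 (b • x0)
    set b' := e1⁻¹ * b with hb'
    have hfix : b' • x0 = x0 := by
      rw [hb', mul_smul, ← hex, ← mul_smul, inv_mul_cancel, one_smul]
    have hbe : b * φ e = φ e * b := by rw [hb, ← map_mul, hge, map_mul]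
    have hb'e : b' * φ e = φ e * b' := by
      rw [hb', mul_assoc, hbe, ← mul_assoc, hcomm _ (inv_mem he1m) _ hbar, mul_assoc]
    have hfix2 : b' • (φ e • x0) = φ e • x0 := by
      rw [← mul_smul, hb'e, mul_smul, hfix]
    have hne : x0 ≠ φ e • x0 := fun h => hbar1 (hEr _ hbar x0 h.symm)
    have hst : b' ∈ St B x0 (φ e • x0) := ⟨hfix, hfix2⟩
    have hsq : b' * b' = 1 := by
      have h1 := hT.st _ _ hne
      have h2 : orderOf (⟨b', hst⟩ : St B x0 (φ e • x0)) ∣ 2 := by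
        rw [← h1]; exact orderOf_dvd_natCard _
      have h3 := orderOf_dvd_iff_pow_eq_one.1 h2
      have h4 := congrArg Subtype.val h3
      rw [← pow_two]
      simpa using h4
    have hbb : b = e1 * b' := by rw [hb']; group
    have hb2 : b * b ∈ E := by
      have h1 : b * b = e1 * (b' * e1 * b'⁻¹) * (b' * b') := by
        rw [hbb]; group
      rw [h1, hsq, mul_one]
      exact mul_mem he1m (hEn.conj_mem _ he1m _)
    obtain ⟨n, hn⟩ := hodd
    have hbn : b ^ (2 * n + 1) = 1 := by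
      rw [hb, ← map_pow, ← hn, pow_orderOf_eq_one, map_one]
    have hbE : b ∈ E := by
      have h1 : b = (b * b) ^ (n + 1) := by
        rw [← pow_two, ← pow_mul]
        have h2 : 2 * (n + 1) = 2 * n + 1 + 1 := by ring
        rw [h2, pow_succ, hbn, one_mul]
      rw [h1]; exact pow_mem hb2 _
    refine (hmem _).2 ⟨hbE, ?_⟩
    have h1 : φ (g ^ r) = 1 := by rw [map_pow]; exact hexp _ hbE
    rcases (hk _).1 h1 with h2 | h2
    · exact h2
    · exfalso
      have h3 : t ^ (orderOf g) = 1 := by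
        rw [← h2, ← pow_mul, mul_comm, pow_mul, pow_orderOf_eq_one, one_pow]
      rw [hn, pow_succ, pow_mul, pow_two, ht2, one_pow, one_mul] at h3
      exact ht h3

end Q9a

variable {G : Type u} {Ω : Type v} [Group G] [Finite G] [MulAction G Ω] [Finite Ω]


theorem Q9a.liftE_of {t : G} (ht : Inv t)
    (hT : T2 (CB G Ω t) (Fx G (Ω := Ω) ({t} : Set G)))
    (hcb : ∀ (g : G) (hg : g ∈ Subgroup.centralizer ({t} : Set G)), cb Ω hg = 1 ↔ (g = 1 ∨ g = t)) (hmo : Odd (fx G Ω t))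
    (r k : ℕ) (hr : r.Prime) (hk : 1 ≤ k) (hrk : fx G Ω t = r ^ k) (E : Subgroup (CB G Ω t)) (hE : Reg (CB G Ω t) (Fx G (Ω := Ω) ({t} : Set G)) E)
    (hcomm : ∀ g ∈ E, ∀ g' ∈ E, g * g' = g' * g) (hexp : ∀ g ∈ E, g ^ r = 1) :
    ∃ Et : Subgroup G, Et ≤ Subgroup.centralizer ({t} : Set G) ∧ Nat.card Et = fx G Ω t ∧
      (∀ g : G, g * t = t * g → ∀ e ∈ Et, g * e * g⁻¹ ∈ Et) ∧ (∀ e ∈ Et, ∀ e' ∈ Et, e * e' = e' * e) ∧ (∀ e ∈ Et, e ^ r = 1) ∧
      (∀ g : G, g * t = t * g → (∀ e ∈ Et, g * e = e * g) → g ∈ Et ∨ g * t ∈ Et) ∧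
      (∀ g : G, g * t = t * g → Odd (orderOf g) → ∀ e ∈ Et, e ≠ 1 → g * e = e * g → g ∈ Et) := by
  have hro : Odd r := by
    rw [hrk] at hmo
    exact (Nat.odd_pow_iff (by omega)).1 hmo
  set L := Subgroup.centralizer ({t} : Set G) with hL
  have hmemL : ∀ g : G, g ∈ L ↔ g * t = t * g := fun g => by
    rw [hL, Subgroup.mem_centralizer_singleton_iff]
  have htL : t ∈ L := (hmemL t).2 rfl
  let φ : L →* CB G Ω t := (resHom L (Fx G (Ω := Ω) ({t} : Set G)) cent_inv).rangeRestrict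
  have hφ : Function.Surjective φ := MonoidHom.rangeRestrict_surjective _
  have hφcb : ∀ g : L, φ g = cb Ω g.2 := fun g => rfl
  have hk' : ∀ g : L, φ g = 1 ↔ g = 1 ∨ g = ⟨t, htL⟩ := by
    intro g
    rw [hφcb, hcb]
    constructor
    · rintro (h1 | h1)
      · exact Or.inl (Subtype.ext h1)
      · exact Or.inr (Subtype.ext h1)
    · rintro (h1 | h1)
      · exact Or.inl (congrArg Subtype.val h1)
      · exact Or.inr (congrArg Subtype.val h1)
  obtain ⟨Et, h1, h2, h3, h4, h5, h6⟩ := Q9a.lift_core φ hφ ⟨t, htL⟩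
    (fun h => ht.1 (congrArg Subtype.val h)) (Subtype.ext ht.2) hk' hT hro E hE hcomm hexp
  have hcard : Nat.card (Fx G (Ω := Ω) ({t} : Set G)) = fx G Ω t := by
    apply Nat.card_congr
    exact Equiv.subtypeEquivRight (fun x => by
      constructor
      · intro h; exact h t rfl
      · intro h s hs; rw [Set.mem_singleton_iff] at hs; rw [hs]; exact h)
  refine ⟨Et.map L.subtype, ?_, ?_, ?_, ?_, ?_, ?_, ?_⟩
  · rintro _ ⟨x, -, rfl⟩; exact x.2
  · rw [Subgroup.card_map_of_injective L.subtype_injective, h1, hcard]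
  · rintro g hg _ ⟨x, hx, rfl⟩
    exact ⟨⟨g, (hmemL g).2 hg⟩ * x * ⟨g, (hmemL g).2 hg⟩⁻¹, h2 _ x hx, rfl⟩
  · rintro _ ⟨x, hx, rfl⟩ _ ⟨y, hy, rfl⟩
    exact congrArg Subtype.val (h3 x hx y hy)
  · rintro _ ⟨x, hx, rfl⟩
    exact congrArg Subtype.val (h4 x hx)
  · intro g hg hc
    rcases h5 ⟨g, (hmemL g).2 hg⟩ (fun e he => Subtype.ext (hc e ⟨e, he, rfl⟩)) with h7 | h7
    · exact Or.inl ⟨_, h7, rfl⟩
    · exact Or.inr ⟨_, h7, rfl⟩
  · rintro g hg hodd _ ⟨x, hx, rfl⟩ hx1 hgx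
    have h7 := h6 ⟨g, (hmemL g).2 hg⟩ (by rw [Subgroup.orderOf_mk]; exact hodd) x hx
      (fun h => hx1 (by rw [h]; rfl)) (Subtype.ext hgx)
    exact ⟨_, h7, rfl⟩

end H39.DA
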