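import Cfsg.Agent.Lib.H39.DA2
import Cfsg.Agent.Lib.H81.InvertSylow
import Cfsg.Agent.Lib.H1.Coprime2
import Cfsg.Agent.Lib.H25.Isolated

/-!
S3262, piece Q9b: the abstract part (counting conjugates of `t` modulo `r`).
-/

set_option autoImplicit false
set_option linter.unusedSectionVars false
set_option linter.unusedVariables false
set_option linter.style.haveILetI false

open MulAction

universe u v w

namespace H39.DA

namespace Q9b

/-- an involution whose centralizer contains no further 2-element -/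
theorem compl {J : Type u} [Group J] [Finite J] {t : J} (ht : t ≠ 1) (ht2 : t * t = 1)
    (h2 : ∀ c : J, c * t = t * c → (∃ k : ℕ, c ^ 2 ^ k = 1) → c = 1 ∨ c = t) :
    (∃ K : Subgroup J, K.Normal ∧ Odd (Nat.card K) ∧ K.index = 2 ∧ ∀ y : J, y ∈ K ↔ Odd (orderOf y)) ∧
    (∀ s : J, s ≠ 1 → s * s = 1 → IsConj t s) := by
  classical
  haveI : Fact (Nat.Prime 2) := ⟨Nat.prime_two⟩
  have hord : orderOf t = 2 := orderOf_eq_prime (by rw [pow_two, ht2]) ht
  have hcz : ∀ s : J, s ≠ 1 → s * s = 1 → IsPGroup 2 (Subgroup.zpowers s) := by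
    intro s hs hs2
    have h1 : orderOf s = 2 := orderOf_eq_prime (by rw [pow_two, hs2]) hs
    exact IsPGroup.of_card (n := 1) (by rw [Nat.card_zpowers, h1, pow_one])
  obtain ⟨S, hS⟩ := (hcz t ht ht2).exists_le_sylow
  have htS : t ∈ (S : Subgroup J) := hS (Subgroup.mem_zpowers t)
  have hel : ∀ c ∈ (S : Subgroup J), ∃ k : ℕ, c ^ 2 ^ k = 1 := by
    intro c hc
    obtain ⟨k, hk⟩ := S.2 ⟨c, hc⟩
    exact ⟨k, by simpa using congrArg Subtype.val hk⟩
  have hSel : ∀ c ∈ (S : Subgroup J), c = 1 ∨ c = t := by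
    haveI : Nontrivial (S : Subgroup J) := ⟨⟨⟨t, htS⟩, 1, fun h => ht (congrArg Subtype.val h)⟩⟩
    haveI := S.2.center_nontrivial
    obtain ⟨z, hz⟩ := exists_ne (1 : Subgroup.center (S : Subgroup J))
    have hzc := Subgroup.mem_center_iff.1 z.2
    have hz1 : ((z : (S : Subgroup J)) : J) ≠ 1 := fun h => hz (Subtype.ext (Subtype.ext h))
    have hzt : ((z : (S : Subgroup J)) : J) = t := by
      have h1 : ((z : (S : Subgroup J)) : J) * t = t * ((z : (S : Subgroup J)) : J) :=
        congrArg Subtype.val (hzc ⟨t, htS⟩).symm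
      rcases h2 _ h1 (hel _ (z : (S : Subgroup J)).2) with h3 | h3
      · exact absurd h3 hz1
      · exact h3
    intro c hc
    have h1 : c * t = t * c := by
      have := congrArg Subtype.val (hzc ⟨c, hc⟩)
      rw [← hzt]
      exact this
    exact h2 c h1 (hel c hc)
  have hSeq : (S : Subgroup J) = Subgroup.zpowers t := by
    apply le_antisymm _ hS
    intro c hc
    rcases hSel c hc with h | h
    · rw [h]; exact one_mem _
    · rw [h]; exact Subgroup.mem_zpowers t
  have hScard : Nat.card (S : Subgroup J) = 2 := by rw [hSeq, Nat.card_zpowers, hord]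
  have hN : Subgroup.normalizer ((S : Subgroup J) : Set J) ≤ Subgroup.centralizer ((S : Subgroup J) : Set J) := by
    intro g hg
    rw [Subgroup.mem_centralizer_iff]
    intro c hc
    rcases hSel c hc with h | h
    · rw [h]; group
    · rw [h]
      have h1 : g * t * g⁻¹ ∈ (S : Subgroup J) := (Subgroup.mem_normalizer_iff.1 hg t).1 htS
      rcases hSel _ h1 with h3 | h3
      · exfalso
        apply ht
        have h4 : g * t = g := mul_inv_eq_one.1 h3
        exact mul_eq_left.1 h4
      · exact (mul_inv_eq_iff_eq_mul.1 h3).symm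
  constructor
  · have hcomp := MonoidHom.ker_transferSylow_isComplement' S hN
    set K := (MonoidHom.transferSylow S hN).ker with hK
    have hidx : K.index = 2 := by rw [hcomp.symm.index_eq_card, hScard]
    have hKo : Odd (Nat.card K) := by
      rw [← Nat.not_even_iff_odd, even_iff_two_dvd]
      have h5 : (S : Subgroup J).index = Nat.card K := hcomp.index_eq_card
      rw [← h5]
      exact S.not_dvd_index
    refine ⟨K, inferInstance, hKo, hidx, fun y => ⟨fun hy => ?_, fun hy => ?_⟩⟩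
    · have h6 : orderOf y ∣ Nat.card K := by
        have := orderOf_dvd_natCard (⟨y, hy⟩ : K)
        rwa [Subgroup.orderOf_mk] at this
      exact Odd.of_dvd_nat hKo h6
    · obtain ⟨n, hn⟩ := hy
      have h7 : y = (y ^ 2) ^ (n + 1) := by
        rw [← pow_mul]
        have h8 : 2 * (n + 1) = orderOf y + 1 := by omega
        rw [h8, pow_succ, pow_orderOf_eq_one, one_mul]
      rw [h7]
      exact pow_mem (Subgroup.sq_mem_of_index_two hidx y) _
  · intro s hs hs2
    obtain ⟨S', hS'⟩ := (hcz s hs hs2).exists_le_sylow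
    have hsS' : s ∈ (S' : Subgroup J) := hS' (Subgroup.mem_zpowers s)
    obtain ⟨g, rfl⟩ := exists_smul_eq J S S'
    obtain ⟨c, hc, hcs⟩ := hsS'
    have hcs' : g * c * g⁻¹ = s := hcs
    rcases hSel c hc with h | h
    · exfalso
      apply hs
      rw [← hcs', h]; group
    · rw [h] at hcs'
      exact isConj_iff.2 ⟨g, hcs'⟩

variable {G : Type u} [Group G] [Finite G]

theorem core {t v : G} (ht : Inv t) (hv : Inv v) (hvt : v ≠ t) (htv : t * v = v * t) {r : ℕ}
    (hr : r.Prime) (hr2 : r ≠ 2) (Et : Subgroup G) (h1 : ∀ e ∈ Et, e * t = t * e)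
    (hab : ∀ e ∈ Et, ∀ e' ∈ Et, e * e' = e' * e) (hexp : ∀ e ∈ Et, e ^ r = 1)
    (hc : ∀ g : G, g * t = t * g → (∀ e ∈ Et, g * e = e * g) → g ∈ Et ∨ g * t ∈ Et)
    (hvE : ∀ e ∈ Et, v * e * v⁻¹ ∈ Et)
    (hr1 : ∀ s : G, s = t ∨ s = v ∨ s = t * v → ∀ y : G, Odd (orderOf y) →
      (∀ e ∈ Et, y * e = e * y) → y * s = s * y → y ^ r = 1) :
    ∃ q : ℕ, (q = 1 ∨ r ∣ q) ∧ Nat.card {s : G // IsConj t s} ≡ q [MOD r] := by
  classical
  haveI : Fact (Nat.Prime 2) := ⟨Nat.prime_two⟩
  haveI : Fact r.Prime := ⟨hr⟩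
  have hcop : ∀ k : ℕ, Nat.Coprime (2 ^ k) r := fun k =>
    Nat.Coprime.pow_left k ((Nat.coprime_primes Nat.prime_two hr).2 (Ne.symm hr2))
  have hone : ∀ x : G, ∀ k : ℕ, x ^ r = 1 → x ^ 2 ^ k = 1 → x = 1 := by
    intro x k h2 h3
    have h4 : orderOf x ∣ Nat.gcd (2 ^ k) r := Nat.dvd_gcd (orderOf_dvd_of_pow_eq_one h3)
      (orderOf_dvd_of_pow_eq_one h2)
    rw [hcop k] at h4
    exact orderOf_eq_one_iff.1 (Nat.dvd_one.1 h4)
  set J := Subgroup.centralizer (Et : Set G) with hJ
  have hmemJ : ∀ g : G, g ∈ J ↔ ∀ e ∈ Et, g * e = e * g := by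
    intro g
    rw [hJ, Subgroup.mem_centralizer_iff]
    exact ⟨fun h e he => (h e he).symm, fun h e he => (h e he).symm⟩
  have htJ : t ∈ J := (hmemJ t).2 fun e he => (h1 e he).symm
  have hEJ : Et ≤ J := fun e he => (hmemJ e).2 fun e' he' => hab e he e' he'
  have htinv : t⁻¹ = t := inv_eq_of_mul_eq_one_left ht.2
  have hvinv : v⁻¹ = v := inv_eq_of_mul_eq_one_left hv.2
  -- 2-elements of C_J(t)
  have hcJ : ∀ c : J, c * ⟨t, htJ⟩ = ⟨t, htJ⟩ * c → (∃ k : ℕ, c ^ 2 ^ k = 1) → c = 1 ∨ c = ⟨t, htJ⟩ := by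
    rintro ⟨c, hcJ⟩ hct ⟨k, hk⟩
    have hct' : c * t = t * c := congrArg Subtype.val hct
    have hk' : c ^ 2 ^ k = 1 := by simpa using congrArg Subtype.val hk
    rcases hc c hct' ((hmemJ c).1 hcJ) with h3 | h3
    · left
      exact Subtype.ext (hone c k (hexp c h3) hk')
    · right
      have h4 : (c * t) ^ 2 ^ (k + 1) = 1 := by
        rw [(show Commute c t from hct').mul_pow, pow_succ 2 k, pow_mul, hk', one_pow, one_mul,
          mul_comm (2 ^ k) 2, pow_mul, pow_two, ht.2, one_pow]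
      have h5 := hone _ (k + 1) (hexp _ h3) h4
      apply Subtype.ext
      show c = t
      rw [← htinv]
      exact eq_inv_of_mul_eq_one_left h5
  obtain ⟨⟨K, hKn, hKo, hKi, hKm⟩, hconj⟩ := compl (J := J) (t := ⟨t, htJ⟩)
    (fun h => ht.1 (congrArg Subtype.val h)) (Subtype.ext ht.2) hcJ
  set X : Subgroup G := K.map J.subtype with hX
  have hmemX : ∀ g : G, g ∈ X ↔ g ∈ J ∧ Odd (orderOf g) := by
    intro g
    constructor
    · rintro ⟨x, hx, rfl⟩
      refine ⟨x.2, ?_⟩
      have := (hKm x).1 hx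
      rw [← Subgroup.orderOf_coe] at this
      exact this
    · rintro ⟨hg, hgo⟩
      refine ⟨⟨g, hg⟩, (hKm _).2 ?_, rfl⟩
      rw [Subgroup.orderOf_mk]; exact hgo
  have hXc : Nat.card X = Nat.card K := Subgroup.card_map_of_injective J.subtype_injective
  have hXo : Odd (Nat.card X) := by rw [hXc]; exact hKo
  -- invariance
  have hinvJ : ∀ s : G, s * s = 1 → (∀ e ∈ Et, s * e * s⁻¹ ∈ Et) → ∀ y ∈ J, s * y * s⁻¹ ∈ J := by
    intro s hs hsE y hy
    rw [hmemJ] at hy ⊢
    intro e he
    have hsi : s⁻¹ = s := inv_eq_of_mul_eq_one_left hs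
    have h3 := hy _ (hsE e he)
    rw [hsi] at h3 ⊢
    have h4 : s * y * s * e = s * (y * (s * e * s)) * s := by
      calc s * y * s * e = s * y * s * e * (s * s) := by rw [hs, mul_one]
        _ = _ := by group
    rw [h4, h3]
    calc s * (s * e * s * y) * s = (s * s) * e * (s * y * s) := by group
      _ = _ := by rw [hs, one_mul]
  have hinvX : ∀ s : G, s * s = 1 → (∀ e ∈ Et, s * e * s⁻¹ ∈ Et) → ∀ y ∈ X, s * y * s⁻¹ ∈ X := by
    intro s hs hsE y hy
    rw [hmemX] at hy ⊢
    refine ⟨hinvJ s hs hsE y hy.1, ?_⟩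
    have h3 : orderOf (s * y * s⁻¹) = orderOf y := by
      have := orderOf_injective (MulAut.conj s).toMonoidHom (MulAut.conj s).injective y
      simpa using this
    rw [h3]; exact hy.2
  have htE : ∀ e ∈ Et, t * e * t⁻¹ ∈ Et := by
    intro e he
    rw [← h1 e he, mul_assoc, mul_inv_cancel, mul_one]; exact he
  -- the four-group
  have hvt' : t * v ≠ 1 := by
    intro h
    apply hvt
    rw [mul_eq_one_iff_eq_inv, hvinv] at h
    exact h.symm
  let V : Subgroup G :=
    { carrier := {x | x = 1 ∨ x = t ∨ x = v ∨ x = t * v}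
      one_mem' := Or.inl rfl
      mul_mem' := by
        have e1 : t * (t * v) = v := by rw [← mul_assoc, ht.2, one_mul]
        have e2 : v * (t * v) = t := by rw [htv, ← mul_assoc, hv.2, one_mul]
        have e3 : (t * v) * t = v := by rw [htv, mul_assoc, ht.2, mul_one]
        have e4 : (t * v) * v = t := by rw [mul_assoc, hv.2, mul_one]
        have e5 : (t * v) * (t * v) = 1 := by rw [← mul_assoc, e3, hv.2]
        rintro x y (rfl | rfl | rfl | rfl) (rfl | rfl | rfl | rfl) <;>
          simp only [Set.mem_ofPred_eq, one_mul, mul_one, e1, e2, e3, e4, e5, ht.2, hv.2, ← htv] <;> tauto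
      inv_mem' := by
        rintro x (rfl | rfl | rfl | rfl)
        · left; exact inv_one
        · right; left; exact htinv
        · right; right; left; exact hvinv
        · right; right; right; rw [mul_inv_rev, htinv, hvinv, htv] }
  have hVm : ∀ x : G, x ∈ V ↔ (x = 1 ∨ x = t ∨ x = v ∨ x = t * v) := fun x => Iff.rfl
  have hV2 : ∀ x ∈ V, x * x = 1 := by
    rintro x (rfl | rfl | rfl | rfl)
    · exact one_mul 1
    · exact ht.2
    · exact hv.2
    · calc t * v * (t * v) = t * (v * t) * v := by group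
        _ = t * (t * v) * v := by rw [htv]
        _ = (t * t) * (v * v) := by group
        _ = 1 := by rw [ht.2, hv.2, one_mul]
  have hVE : ∀ x ∈ V, ∀ e ∈ Et, x * e * x⁻¹ ∈ Et := by
    rintro x (rfl | rfl | rfl | rfl) e he
    · simpa using he
    · exact htE e he
    · exact hvE e he
    · have := htE _ (hvE e he)
      rwa [show t * v * e * (t * v)⁻¹ = t * (v * e * v⁻¹) * t⁻¹ by group]
  have hVp : IsPGroup 2 V := fun x => ⟨1, Subtype.ext (by
    show (x : G) ^ 2 ^ 1 = 1
    rw [pow_one, pow_two, hV2 x x.2])⟩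
  have hVX : V ≤ Subgroup.normalizer (X : Set G) := by
    intro x hx
    have hstep : ∀ y ∈ X, x * y * x⁻¹ ∈ X := hinvX x (hV2 x hx) (hVE x hx)
    rw [Subgroup.mem_normalizer_iff]
    intro y
    refine ⟨hstep y, fun hy => ?_⟩
    have h3 := hstep _ hy
    have hxi : x⁻¹ = x := inv_eq_of_mul_eq_one_left (hV2 x hx)
    rw [hxi] at h3
    have h4 : x * (x * y * x) * x = y := by
      calc x * (x * y * x) * x = (x * x) * y * (x * x) := by group
        _ = y := by rw [hV2 x hx, one_mul, mul_one]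
    rwa [h4] at h3
  have hVcop : (Nat.card V).Coprime (Nat.card X) := by
    obtain ⟨n, hn⟩ := IsPGroup.iff_card.1 hVp
    rw [hn]
    exact Nat.Coprime.pow_left n (Nat.coprime_two_left.2 hXo)
  have hVsol : Group.IsSolvable V := by
    haveI := hVp.isNilpotent
    infer_instance
  -- X is an r-group
  have hXr : ∀ {d : ℕ}, d.Prime → d ∣ Nat.card X → d = r := by
    intro d hd hdX
    by_contra hne
    haveI : Fact d.Prime := ⟨hd⟩
    obtain ⟨Y, ⟨hYX, hYc⟩, hYV⟩ := H1.Coprime2.exists_invariant_sylow V X hVX hVcop (Or.inl hVsol) d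
    have hkill : ∀ s : G, s = t ∨ s = v ∨ s = t * v → ∀ y ∈ Y, s * y * s⁻¹ = y → y = 1 := by
      intro s hs y hy hsy
      have h3 := (hmemX y).1 (hYX hy)
      have h4 : y ^ r = 1 := hr1 s hs y h3.2 ((hmemJ y).1 h3.1) (mul_inv_eq_iff_eq_mul.1 hsy).symm
      have h5 : orderOf y ∣ r := orderOf_dvd_of_pow_eq_one h4
      have h6 : orderOf y ∣ Nat.card Y := by
        have := orderOf_dvd_natCard (⟨y, hy⟩ : Y)
        rwa [Subgroup.orderOf_mk] at this
      rw [hYc] at h6
      have h7 : orderOf y ∣ Nat.gcd r (d ^ (Nat.card X).factorization d) := Nat.dvd_gcd h5 h6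
      have h8 : Nat.Coprime r (d ^ (Nat.card X).factorization d) :=
        Nat.Coprime.pow_right _ ((Nat.coprime_primes hr hd).2 (Ne.symm hne))
      rw [h8] at h7
      exact orderOf_eq_one_iff.1 (Nat.dvd_one.1 h7)
    have hinvY : ∀ s ∈ V, ∀ y ∈ Y, s * y * s⁻¹ ∈ Y := fun s hs y hy =>
      (Subgroup.mem_normalizer_iff.1 (hYV hs) y).1 hy
    have htV : t ∈ V := Or.inr (Or.inl rfl)
    have hvV : v ∈ V := Or.inr (Or.inr (Or.inl rfl))
    have hti := H81.InvertSylow.inverts_of_fixedPointFree Y ht.2 (hinvY t htV) (hkill t (Or.inl rfl))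
    have hvi := H81.InvertSylow.inverts_of_fixedPointFree Y hv.2 (hinvY v hvV) (hkill v (Or.inr (Or.inl rfl)))
    have hY1 : ∀ y ∈ Y, y = 1 := by
      intro y hy
      apply hkill (t * v) (Or.inr (Or.inr rfl)) y hy
      calc t * v * y * (t * v)⁻¹ = t * (v * y * v⁻¹) * t⁻¹ := by group
        _ = t * y⁻¹ * t⁻¹ := by rw [hvi y hy]
        _ = y := by rw [hti _ (inv_mem hy), inv_inv]
    have hYbot : Y = ⊥ := (Subgroup.eq_bot_iff_forall Y).2 hY1
    rw [hYbot, Subgroup.card_bot] at hYc
    have h9 : d ∣ d ^ (Nat.card X).factorization d := by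
      apply dvd_pow_self
      exact (hd.factorization_pos_of_dvd Nat.card_pos.ne' hdX).ne'
    rw [← hYc] at h9
    exact hd.one_lt.ne' (Nat.dvd_one.1 h9)
  have hXpow := Nat.eq_prime_pow_of_unique_prime_dvd (n := Nat.card X) (p := r) Nat.card_pos.ne' hXr
  -- the count
  set q := Nat.card {s : J // IsConj ⟨t, htJ⟩ s} with hq
  have hq1 : q * Nat.card (Subgroup.centralizer ({(⟨t, htJ⟩ : J)} : Set J)) = Nat.card J :=
    H25.Isolated.card_conj_mul_card_centralizer _
  have hq2 : 2 ∣ Nat.card (Subgroup.centralizer ({(⟨t, htJ⟩ : J)} : Set J)) := by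
    have h3 : orderOf (⟨⟨t, htJ⟩, Subgroup.mem_centralizer_singleton_iff.2 rfl⟩ :
        Subgroup.centralizer ({(⟨t, htJ⟩ : J)} : Set J)) = 2 := by
      rw [Subgroup.orderOf_mk, Subgroup.orderOf_mk]
      exact orderOf_eq_prime (by rw [pow_two, ht.2]) ht.1
    rw [← h3]; exact orderOf_dvd_natCard _
  have hqX : q ∣ Nat.card X := by
    obtain ⟨c, hcc⟩ := hq2
    have h3 : Nat.card J = 2 * Nat.card X := by
      rw [hXc, ← K.card_mul_index, hKi, mul_comm]
    rw [hcc, h3] at hq1
    refine ⟨c, ?_⟩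
    have h4 : 2 * Nat.card X = 2 * (q * c) := by rw [← hq1]; ring
    exact Nat.eq_of_mul_eq_mul_left (by norm_num) h4
  rw [hXpow] at hqX
  obtain ⟨j, -, hj⟩ := (Nat.dvd_prime_pow hr).1 hqX
  refine ⟨q, ?_, ?_⟩
  · rcases Nat.eq_zero_or_pos j with h3 | h3
    · left; rw [hj, h3, pow_zero]
    · right; rw [hj]; exact dvd_pow_self r h3.ne'
  · -- action of Et on the class of t
    letI act : MulAction Et {s : G // IsConj t s} :=
      { smul := fun e s => ⟨(e : G) * s * (e : G)⁻¹, s.2.trans (isConj_iff.2 ⟨e, rfl⟩)⟩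
        one_smul := fun s => Subtype.ext (by
          show ((1 : Et) : G) * (s : G) * ((1 : Et) : G)⁻¹ = s
          simp)
        mul_smul := fun e e' s => Subtype.ext (by
          show ((e * e' : Et) : G) * (s : G) * ((e * e' : Et) : G)⁻¹ =
            (e : G) * ((e' : G) * s * (e' : G)⁻¹) * (e : G)⁻¹
          rw [Subgroup.coe_mul]; group) }
    have hEp : IsPGroup r Et := fun e => ⟨1, Subtype.ext (by
      show (e : G) ^ r ^ 1 = 1
      rw [pow_one]; exact hexp e e.2)⟩
    have h3 := hEp.card_modEq_card_fixedPoints {s : G // IsConj t s}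
    have h4 : Nat.card (fixedPoints Et {s : G // IsConj t s}) = q := by
      have hfix : ∀ s : {s : G // IsConj t s}, s ∈ fixedPoints Et {s : G // IsConj t s} ↔ (s : G) ∈ J := by
        intro s
        rw [mem_fixedPoints, hmemJ]
        constructor
        · intro h e he
          have h5 : e * (s : G) * e⁻¹ = s := congrArg Subtype.val (h ⟨e, he⟩)
          exact (mul_inv_eq_iff_eq_mul.1 h5).symm
        · intro h e
          apply Subtype.ext
          show (e : G) * (s : G) * (e : G)⁻¹ = s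
          rw [← h e e.2]; group
      have hsinv : ∀ s : G, IsConj t s → s ≠ 1 ∧ s * s = 1 := by
        intro s hs
        obtain ⟨g, rfl⟩ := isConj_iff.1 hs
        constructor
        · intro h5
          apply ht.1
          have h6 : g * t = g := mul_inv_eq_one.1 h5
          exact mul_eq_left.1 h6
        · calc g * t * g⁻¹ * (g * t * g⁻¹) = g * (t * t) * g⁻¹ := by group
            _ = 1 := by rw [ht.2]; group
      rw [hq]
      apply Nat.card_congr
      refine
        { toFun := fun s => ⟨⟨((s : {s : G // IsConj t s}) : G), (hfix s).1 s.2⟩, ?_⟩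
          invFun := fun s => ⟨⟨((s : J) : G), ?_⟩, ?_⟩
          left_inv := fun s => rfl
          right_inv := fun s => rfl }
      · apply hconj
        · intro h5
          exact (hsinv _ (s : {s : G // IsConj t s}).2).1 (congrArg Subtype.val h5)
        · exact Subtype.ext (hsinv _ (s : {s : G // IsConj t s}).2).2
      · obtain ⟨g, hg⟩ := isConj_iff.1 s.2
        exact isConj_iff.2 ⟨(g : G), congrArg Subtype.val hg⟩
      · exact (hfix _).2 (s : J).2
    rw [h4] at h3
    exact h3

end Q9b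

end H39.DA
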