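import Cfsg.Agent.Lib.H39.DA2
set_option autoImplicit false
set_option linter.all false
open MulAction H39.DA
universe u v
namespace H39.DA

namespace R2

/-- arithmetic: `m(m-1)/2` odd forces `m ≡ 3 mod 4` -/
theorem mod_four {m : ℕ} (hm : Odd m) (h2 : ¬ 4 ∣ m * (m - 1)) : m % 4 = 3 := by
  obtain ⟨k, rfl⟩ := hm
  by_contra hne
  apply h2
  have h3 : (2 * k + 1) % 4 = 1 := by omega
  have h4 : 4 ∣ 2 * k := by omega
  have e : 2 * k + 1 - 1 = 2 * k := by omega
  rw [e]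
  exact Dvd.dvd.mul_left h4 _

theorem prime_mod_four {r m j : ℕ} (h : m = r ^ j) (hm : m % 4 = 3) : r % 4 = 3 := by
  have h1 : r ^ j % 4 = (r % 4) ^ j % 4 := Nat.pow_mod r j 4
  rw [← h, hm] at h1
  have h2 : r % 4 < 4 := Nat.mod_lt _ (by norm_num)
  interval_cases h3 : r % 4
  · rcases Nat.eq_zero_or_pos j with rfl | hj
    · simp at h1
    · rw [Nat.zero_pow hj] at h1; simp at h1
  · simp at h1
  · exfalso
    rcases j with _ | _ | j
    · simp at h1
    · simp at h1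
    · have : (2 : ℕ) ^ (j + 1 + 1) % 4 = 0 := by
        rw [pow_succ, pow_succ, mul_assoc]; norm_num
      rw [this] at h1; omega
  · rfl

/-- the final arithmetic contradiction -/
theorem arith {r f m T q : ℕ} (hr : r.Prime) (hr4 : r % 4 = 3) (hrm : r ∣ m) (hf : f = m * m)
    (hT : 3 * T = 5 * ((2 * f + 1) * (2 * f + 3))) (hq : q = 1 ∨ r ∣ q) (hTq : T ≡ q [MOD r]) : False := by
  have h5 : T ≡ 5 [MOD r] := by
    obtain ⟨c, rfl⟩ := hrm
    rcases eq_or_ne r 3 with rfl | h3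
    · have e : T = 5 + 3 * (180 * (c * c) * (c * c) + 40 * (c * c)) := by
        have h1 : 3 * T = 3 * (5 + 3 * (180 * (c * c) * (c * c) + 40 * (c * c))) := by
          rw [hT, hf]; ring
        exact Nat.eq_of_mul_eq_mul_left (by norm_num) h1
      rw [e]
      show (5 + 3 * _) % 3 = 5 % 3
      omega
    · have hco : Nat.Coprime r 3 := (Nat.coprime_primes hr Nat.prime_three).2 h3
      have h1 : 3 * T ≡ 3 * 5 [MOD r] := by
        have e : 3 * T = 3 * 5 + r * (c * (5 * (2 * (r * c) * (2 * f + 3) + 2 * (r * c)))) := by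
          rw [hT, hf]; ring
        rw [e]
        show (3 * 5 + r * _) % r = (3 * 5) % r
        rw [Nat.add_mul_mod_self_left]
      exact Nat.ModEq.cancel_left_of_coprime hco h1
  have h6 : 5 ≡ q [MOD r] := h5.symm.trans hTq
  rcases hq with rfl | hq
  · have h7 : r ∣ 5 - 1 := (Nat.modEq_iff_dvd' (by norm_num)).1 h6.symm
    have h8 : r ∣ 2 := (Nat.Prime.dvd_of_dvd_pow hr (show r ∣ 2 ^ 2 from h7))
    have := (Nat.prime_dvd_prime_iff_eq hr Nat.prime_two).1 h8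
    omega
  · have h7 : r ∣ 5 := by
      have : 5 ≡ 0 [MOD r] := h6.trans ((Nat.modEq_zero_iff_dvd).2 hq)
      exact (Nat.modEq_zero_iff_dvd).1 this
    have := (Nat.prime_dvd_prime_iff_eq hr Nat.prime_five).1 h7
    omega

variable {G : Type u} {Ω : Type v} [Group G] [Finite G] [MulAction G Ω] [Finite Ω]

/-- the four elements of `V` -/
theorem v_list {V : Subgroup G} (h4 : Nat.card V = 4) {t v : G} (ht : t ∈ V) (hv : v ∈ V) (ht1 : t ≠ 1) (hv1 : v ≠ 1)
    (hvt : v ≠ t) (hvt1 : v * t ≠ 1) : ∀ g ∈ V, g = 1 ∨ g = t ∨ g = v ∨ g = v * t := by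
  classical
  intro g hg
  by_contra hcon
  push Not at hcon
  obtain ⟨c1, c2, c3, c4⟩ := hcon
  let w : Fin 5 → V := ![⟨1, one_mem V⟩, ⟨t, ht⟩, ⟨v, hv⟩, ⟨v * t, mul_mem hv ht⟩, ⟨g, hg⟩]
  have hw : Function.Injective w := by
    have e1 : v * t ≠ t := fun h => hv1 (mul_eq_right.1 h)
    have e2 : v * t ≠ v := fun h => ht1 (mul_eq_left.1 h)
    intro i j hij
    have hij' : ((w i : V) : G) = (w j : V) := congrArg Subtype.val hij
    fin_cases i <;> fin_cases j <;> first | rfl | (exfalso; revert hij'; simp [w]; tauto)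
  have := Nat.card_le_card_of_injective w hw
  rw [h4, Nat.card_fin] at this
  omega

/-- the subgroup of `NT` centralizing `v` -/
def C0 (V : Subgroup G) (t v : G) : Subgroup (NT V t) := (Subgroup.centralizer ({v} : Set G)).subgroupOf (NT V t)

theorem mem_C0 {V : Subgroup G} {t v : G} {g : NT V t} : g ∈ C0 V t v ↔ (g : G) * v = v * g := by
  rw [C0, Subgroup.mem_subgroupOf, Subgroup.mem_centralizer_singleton_iff]

/-- the restriction homomorphism onto `YB` -/
def rh (G : Type u) (Ω : Type v) [Group G] [MulAction G Ω] (V : Subgroup G) (t : G) : NT V t →* YB G Ω V t :=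
  (resHom (NT V t) (Fx G (Ω := Ω) (V : Set G)) NT_inv).rangeRestrict

theorem rh_surj (V : Subgroup G) (t : G) : Function.Surjective (rh G Ω V t) := MonoidHom.rangeRestrict_surjective _

theorem rh_one {V : Subgroup G} {t : G} {g : NT V t} (h : rh G Ω V t g = 1) (x : Ω) (hx : x ∈ Fx G (Ω := Ω) (V : Set G)) :
    (g : G) • x = x := by
  have h1 : resHom (NT V t) (Fx G (Ω := Ω) (V : Set G)) NT_inv g = 1 := congrArg Subtype.val h
  have h2 := congrArg (fun p : Equiv.Perm (Fx G (Ω := Ω) (V : Set G)) => ((p ⟨x, hx⟩ : Fx G (Ω := Ω) (V : Set G)) : Ω)) h1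
  exact h2

end R2

open R2 in
/-- [R2] with the earlier pieces as hypotheses -/
theorem R2.core {G : Type u} {Ω : Type v} [Group G] [Finite G] [MulAction G Ω] [Finite Ω]
    (h : Base G Ω) {a b : Ω} (hab : a ≠ b) {t : G} (ht : Inv t) (hts : t ∈ St G a b)
    (P_vf : Nat.card (VV a b t) = 4 ∧ (∀ g ∈ VV a b t, g * g = 1) ∧ (∀ g ∈ VV a b t, ∀ g' ∈ VV a b t, g * g' = g' * g) ∧
      (∀ s ∈ VV a b t, s ≠ 1 → VV a b s = VV a b t) ∧
      (∀ s ∈ VV a b t, s ≠ 1 → ∃ x ∈ St G a b, x ∈ Subgroup.normalizer (VV a b t : Set G) ∧ x * t * x⁻¹ = s) ∧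
      Nat.card (St G a b ⊓ Subgroup.normalizer (VV a b t : Set G) : Subgroup G) = 12 ∧
      (∀ V' : Subgroup G, V' ≤ St G a b → Nat.card V' = 4 → ∃ g ∈ St G a b, V'.map (MulAut.conj g).toMonoidHom = VV a b t))
    (P_cn : Nat.card G = 60 * (Nat.card Ω * (Nat.card Ω - 1)) ∧
      Nat.card (Subgroup.centralizer ({t} : Set G)) = 4 * (fx G Ω t * (fx G Ω t - 1)) ∧
      2 ≤ fx G Ω t ∧ fx G Ω t < Nat.card Ω ∧
      15 * (Nat.card Ω - fx G Ω t) = fx G Ω t * (fx G Ω t - 1) * Nat.card {s : G // IsConj t s ∧ s • a = b ∧ s • b = a} ∧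
      Nat.card {s : G // IsConj t s} * (fx G Ω t * (fx G Ω t - 1)) = 15 * (Nat.card Ω * (Nat.card Ω - 1)))
    (P_cV : let m := fS G Ω (VV a b t)
      2 ≤ m ∧ m ≤ fx G Ω t ∧ Nat.card (Subgroup.normalizer (VV a b t : Set G)) = 12 * (m * (m - 1)) ∧
      Nat.card (NT (VV a b t) t) = 4 * (m * (m - 1)) ∧
      (∀ c ∈ Fx G (Ω := Ω) (VV a b t : Set G), ∀ d ∈ Fx G (Ω := Ω) (VV a b t : Set G), c ≠ d →
        ∀ c' ∈ Fx G (Ω := Ω) (VV a b t : Set G), ∀ d' ∈ Fx G (Ω := Ω) (VV a b t : Set G), c' ≠ d' →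
        ∃ g ∈ NT (VV a b t) t, g • c = c' ∧ g • d = d') ∧
      (∀ g ∈ NT (VV a b t) t, ∀ c ∈ Fx G (Ω := Ω) (VV a b t : Set G), ∀ d ∈ Fx G (Ω := Ω) (VV a b t : Set G), c ≠ d →
        g • c = c → g • d = d → g ∈ VV a b t) ∧
      (Nat.card Ω - 1) * 5 % (m - 1) = 0)
    (P_sh : Sh (YB G Ω (VV a b t) t) (Fx G (Ω := Ω) (VV a b t : Set G)))
    (P_se : Even (Nat.card (Fx G (Ω := Ω) (VV a b t : Set G))) → 2 < Nat.card (Fx G (Ω := Ω) (VV a b t : Set G)) →
      ∀ H : Subgroup (YB G Ω (VV a b t) t), H.index ≠ 2)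
    (P_si : Odd (Nat.card (Fx G (Ω := Ω) (VV a b t : Set G))) →
      ∀ g g' : YB G Ω (VV a b t) t, Inv g → Inv g' → ∃ y : YB G Ω (VV a b t) t, y * g * y⁻¹ = g')
    (P_so : Odd (Nat.card (Fx G (Ω := Ω) (VV a b t : Set G))) → Nat.card (YB G Ω (VV a b t) t) =
      Nat.card (Fx G (Ω := Ω) (VV a b t : Set G)) * (Nat.card (Fx G (Ω := Ω) (VV a b t : Set G)) - 1))
    (P_d1 : ∀ {v : G} (hv : v ∈ VV a b t) (hv1 : v ≠ 1) (hvt : v ≠ t)
      {s : G} (hst : s * t = t * s) (hsa : s • a = b) (hsb : s • b = a)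
      (hns : ∀ g : G, g * t = t * g → g * v * g⁻¹ ≠ s ∧ g * v * g⁻¹ ≠ s * t),
      fx G Ω t = fS G Ω (VV a b t) * fS G Ω (VV a b t) ∧
      (Odd (fx G Ω t) → ∃ (r k : ℕ) (E : Subgroup (CB G Ω t)), r.Prime ∧ 1 ≤ k ∧ fx G Ω t = r ^ k ∧
        Reg (CB G Ω t) (Fx G (Ω := Ω) ({t} : Set G)) E ∧ (∀ g ∈ E, ∀ g' ∈ E, g * g' = g' * g) ∧ (∀ g ∈ E, g ^ r = 1)) ∧
      (∀ e : ℕ, fx G Ω t = 2 ^ e → ∃ E : Subgroup (CB G Ω t), Reg (CB G Ω t) (Fx G (Ω := Ω) ({t} : Set G)) E ∧
        (∀ g ∈ E, ∀ g' ∈ E, g * g' = g' * g)))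
    (P_mr : ∀ (hm : fS G Ω (VV a b t) * fS G Ω (VV a b t) = fx G Ω t) (hmo : Odd (fx G Ω t))
      (r k : ℕ) (hr : r.Prime) (hrk : fx G Ω t = r ^ k) (E : Subgroup (CB G Ω t)) (hE : Reg (CB G Ω t) (Fx G (Ω := Ω) ({t} : Set G)) E)
      (hcomm : ∀ g ∈ E, ∀ g' ∈ E, g * g' = g' * g) (hexp : ∀ g ∈ E, g ^ r = 1),
      ∃ q : ℕ, (q = 1 ∨ r ∣ q) ∧ Nat.card {s : G // IsConj t s} ≡ q [MOD r])
    (hA : CaseA a b t) (hm : fS G Ω (VV a b t) < fx G Ω t) : Nat.card Ω = 12 := by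
  classical
  obtain ⟨h10, hconj, σ, ρ, v, hv, hσ, hσa, hσb, hσt, hσv, hvσ, hρa, hρb, hρ2, hρN, hσN, hall⟩ := hA
  obtain ⟨vf1, vf2, vf3, vf4, vf5, vf6, vf7⟩ := P_vf
  have ht1 : t ≠ 1 := ht.1
  have htt : t * t = 1 := ht.2
  have hv1 : v ≠ 1 := by
    rintro rfl
    rw [one_mul, inv_one, mul_one] at hvσ
    exact ht1 (mul_eq_left.1 hvσ.symm)
  have htV : t ∈ VV a b t := ⟨hts, Subgroup.mem_centralizer_singleton_iff.2 rfl⟩
  have hvt : v ≠ t := by
    rintro rfl
    apply hσv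
    exact hσt
  have hvv : v * v = 1 := vf2 v hv
  have hvt1 : v * t ≠ 1 := by
    intro h0
    apply hvt
    calc v = v * (t * t) := by rw [htt, mul_one]
      _ = (v * t) * t := by group
      _ = t := by rw [h0, one_mul]
  have hvtc : v * t = t * v := vf3 v hv t htV
  have hlist := v_list vf1 htV hv ht1 hv1 hvt hvt1
  -- delta_one
  have hρt : ρ * t = t * ρ := by rw [← hρ2]; group
  have hns : ∀ g : G, g * t = t * g → g * v * g⁻¹ ≠ ρ ∧ g * v * g⁻¹ ≠ ρ * t := by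
    intro g _
    have hsq : (g * v * g⁻¹) * (g * v * g⁻¹) = 1 := by
      calc (g * v * g⁻¹) * (g * v * g⁻¹) = g * (v * v) * g⁻¹ := by group
        _ = 1 := by rw [hvv]; group
    constructor
    · intro h0
      rw [h0, hρ2] at hsq
      exact ht1 hsq
    · intro h0
      rw [h0] at hsq
      apply ht1
      calc t = ρ * ρ := hρ2.symm
        _ = ρ * ρ * (t * t) := by rw [htt, mul_one]
        _ = ρ * (ρ * t) * t := by group
        _ = ρ * (t * ρ) * t := by rw [hρt]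
        _ = (ρ * t) * (ρ * t) := by group
        _ = 1 := hsq
  obtain ⟨hf, hodd, -⟩ := P_d1 hv hv1 hvt hρt hρa hρb hns
  obtain ⟨cn1, cn2, cn3, cn4, cn5, cn6⟩ := P_cn
  obtain ⟨cv1, cv2, cv3, cv4, cv5, cv6, cv7⟩ := P_cV
  set m := fS G Ω (VV a b t) with hmd
  set f := fx G Ω t with hfd
  set n := Nat.card Ω with hnd
  set j := Nat.card {s : G // IsConj t s ∧ s • a = b ∧ s • b = a} with hjd
  set T := Nat.card {s : G // IsConj t s} with hTd
  -- j = 10
  have hinv : ∀ s, IsConj t s → Inv s := by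
    intro s hs
    obtain ⟨c, hc⟩ := isConj_iff.1 hs
    subst hc
    constructor
    · intro h0
      apply ht1
      calc t = c⁻¹ * (c * t * c⁻¹) * c := by group
        _ = 1 := by rw [h0]; group
    · calc c * t * c⁻¹ * (c * t * c⁻¹) = c * (t * t) * c⁻¹ := by group
        _ = 1 := by rw [htt]; group
  have hjpos : j ≠ 0 := by
    intro h0
    rw [h0, mul_zero] at cn5
    omega
  obtain ⟨⟨s0, hs0, hs0a, hs0b⟩⟩ : Nonempty {s : G // IsConj t s ∧ s • a = b ∧ s • b = a} := by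
    by_contra hcon
    rw [not_nonempty_iff] at hcon
    exact hjpos (by rw [hjd]; exact Nat.card_of_isEmpty)
  have hj : j = 10 := by
    rw [← h10, hjd]
    apply Nat.card_congr
    apply Equiv.subtypeEquivRight
    intro s
    constructor
    · rintro ⟨h1, h2, h3⟩; exact ⟨hinv s h1, h2, h3⟩
    · rintro ⟨h1, h2, h3⟩
      exact ⟨hs0.trans (hconj s0 s (hinv s0 hs0) hs0a hs0b h1 h2 h3), h2, h3⟩
  have hf2 : 2 ≤ f := cn3
  have h3n : 3 * n = f * (2 * f + 1) := by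
    rw [hj] at cn5
    obtain ⟨F, hF⟩ : ∃ F, f = F + 1 := ⟨f - 1, by omega⟩
    obtain ⟨N, hN⟩ : ∃ N, n = f + N := ⟨n - f, by omega⟩
    have e1 : n - f = N := by omega
    have e2 : f - 1 = F := by omega
    rw [e1, e2] at cn5
    rw [hN]
    have e3 : 15 * (3 * (f + N)) = 15 * (f * (2 * f + 1)) := by
      have : 15 * (3 * (f + N)) = 45 * f + 3 * (15 * N) := by ring
      rw [this, cn5, hF]; ring
    exact Nat.eq_of_mul_eq_mul_left (by norm_num) e3
  have h3T : 3 * T = 5 * ((2 * f + 1) * (2 * f + 3)) := by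
    obtain ⟨F, hF⟩ : ∃ F, f = F + 1 := ⟨f - 1, by omega⟩
    have hn1 : 3 * (n - 1) = (2 * f + 3) * (f - 1) := by
      have e2 : f - 1 = F := by omega
      have e3 : 3 * n = 3 + (2 * f + 3) * F := by rw [h3n, hF]; ring
      rw [e2]; omega
    have e4 : 3 * (3 * T) * (f * (f - 1)) = 3 * (5 * ((2 * f + 1) * (2 * f + 3))) * (f * (f - 1)) := by
      calc 3 * (3 * T) * (f * (f - 1)) = 9 * (T * (f * (f - 1))) := by ring
        _ = 9 * (15 * (n * (n - 1))) := by rw [cn6]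
        _ = 15 * ((3 * n) * (3 * (n - 1))) := by ring
        _ = 15 * ((f * (2 * f + 1)) * ((2 * f + 3) * (f - 1))) := by rw [h3n, hn1]
        _ = _ := by ring
    have hpos : 0 < f * (f - 1) := Nat.mul_pos (by omega) (by omega)
    have e5 := Nat.eq_of_mul_eq_mul_right hpos e4
    exact Nat.eq_of_mul_eq_mul_left (by norm_num) e5
  -- the group YB
  have hsh := P_sh
  have hcardX : Nat.card (Fx G (Ω := Ω) (VV a b t : Set G)) = m := rfl
  have haX : a ∈ Fx G (Ω := Ω) (VV a b t : Set G) := fun g hg => hg.1.1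
  have hbX : b ∈ Fx G (Ω := Ω) (VV a b t : Set G) := fun g hg => hg.1.2
  have hσNT : σ ∈ NT (VV a b t) t := ⟨hσN, Subgroup.mem_centralizer_singleton_iff.2 hσt⟩
  have hker : (rh G Ω (VV a b t) t).ker ≤ C0 (VV a b t) t v := by
    intro g hg
    have h1 := rh_one (MonoidHom.mem_ker.1 hg)
    have h2 := cv6 (g : G) g.2 a haX b hbX hab (h1 a haX) (h1 b hbX)
    rw [mem_C0]
    exact vf3 _ h2 _ hv
  have hidx0 : (C0 (VV a b t) t v).index = 2 := by
    rw [Subgroup.index_eq_two_iff]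
    refine ⟨⟨σ, hσNT⟩, fun g => ?_⟩
    have hgt : (g : G) * t = t * g := Subgroup.mem_centralizer_singleton_iff.1 g.2.2
    have hcase : (g : G) * v * (g : G)⁻¹ = v ∨ (g : G) * v * (g : G)⁻¹ = v * t := by
      have h1 : (g : G) * v * (g : G)⁻¹ ∈ VV a b t := (Subgroup.mem_normalizer_iff.1 g.2.1 v).1 hv
      rcases hlist _ h1 with h2 | h2 | h2 | h2
      · exfalso; apply hv1
        calc v = (g : G)⁻¹ * ((g : G) * v * (g : G)⁻¹) * g := by group
          _ = 1 := by rw [h2]; group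
      · exfalso; apply hvt
        calc v = (g : G)⁻¹ * ((g : G) * v * (g : G)⁻¹) * g := by group
          _ = (g : G)⁻¹ * (t * g) := by rw [h2]; group
          _ = t := by rw [← hgt]; group
      · exact Or.inl h2
      · exact Or.inr h2
    have hσv2 : σ * v * σ⁻¹ = v * t := by
      have h1 : σ * v * σ⁻¹ ∈ VV a b t := (Subgroup.mem_normalizer_iff.1 hσN v).1 hv
      rcases hlist _ h1 with h2 | h2 | h2 | h2
      · exfalso; apply hv1
        calc v = σ⁻¹ * (σ * v * σ⁻¹) * σ := by group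
          _ = 1 := by rw [h2]; group
      · exfalso; apply hvt
        calc v = σ⁻¹ * (σ * v * σ⁻¹) * σ := by group
          _ = σ⁻¹ * (t * σ) := by rw [h2]; group
          _ = t := by rw [← hσt]; group
      · exact absurd (mul_inv_eq_iff_eq_mul.1 h2) hσv
      · exact h2
    have hgσ : (g : G) * σ * v * ((g : G) * σ)⁻¹ = (g : G) * v * (g : G)⁻¹ * t := by
      calc (g : G) * σ * v * ((g : G) * σ)⁻¹ = (g : G) * (σ * v * σ⁻¹) * (g : G)⁻¹ := by group
        _ = (g : G) * (v * t) * (g : G)⁻¹ := by rw [hσv2]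
        _ = (g : G) * v * (g : G)⁻¹ * ((g : G) * t * (g : G)⁻¹) := by group
        _ = (g : G) * v * (g : G)⁻¹ * t := by rw [hgt]; group
    have hm1 : ∀ k : NT (VV a b t) t, k ∈ C0 (VV a b t) t v ↔ (k : G) * v * (k : G)⁻¹ = v := by
      intro k; rw [mem_C0, mul_inv_eq_iff_eq_mul]
    rw [hm1, hm1]
    have hco : ((g * ⟨σ, hσNT⟩ : NT (VV a b t) t) : G) = (g : G) * σ := rfl
    rw [hco, hgσ]
    rcases hcase with h2 | h2
    · right
      rw [h2]
      exact ⟨rfl, fun h3 => ht1 (mul_eq_left.1 h3)⟩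
    · left
      rw [h2]
      refine ⟨by rw [mul_assoc, htt, mul_one], fun h3 => ht1 (mul_eq_left.1 h3)⟩
  set H := (C0 (VV a b t) t v).map (rh G Ω (VV a b t) t) with hHd
  have hidx : H.index = 2 := by
    rw [hHd, Subgroup.index_map_eq _ (rh_surj _ _) hker, hidx0]
  have hσH : rh G Ω (VV a b t) t ⟨σ, hσNT⟩ ∉ H := by
    rintro ⟨k, hk, hke⟩
    have h1 : (⟨σ, hσNT⟩ : NT (VV a b t) t) * k⁻¹ ∈ (rh G Ω (VV a b t) t).ker := by
      rw [MonoidHom.mem_ker, map_mul, map_inv, hke, mul_inv_cancel]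
    have h2 := mul_mem (hker h1) hk
    rw [inv_mul_cancel_right, mem_C0] at h2
    exact hσv h2
  rcases Nat.even_or_odd m with he | ho
  · -- m even
    have hno := P_se (by rw [hcardX]; exact he)
    have h2 : ¬ 2 < m := fun h2 => hno (by rw [hcardX]; exact h2) H hidx
    have h3 : m = 2 := by omega
    rw [h3] at hf
    rw [hf] at h3n
    omega
  · exfalso
    have hcj := P_si (by rw [hcardX]; exact ho)
    have hcY := P_so (by rw [hcardX]; exact ho)
    rw [hcardX] at hcY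
    have hHn : H.Normal := Subgroup.normal_of_index_eq_two hidx
    have hσi : Inv (rh G Ω (VV a b t) t ⟨σ, hσNT⟩) := by
      constructor
      · intro h0
        have h1 := rh_one h0 a haX
        exact hab (h1.symm.trans hσa)
      · rw [← map_mul]
        have : (⟨σ, hσNT⟩ : NT (VV a b t) t) * ⟨σ, hσNT⟩ = 1 := Subtype.ext hσ.2
        rw [this, map_one]
    have hnd4 : ¬ 4 ∣ m * (m - 1) := by
      intro h4
      have hH2 : 2 ∣ Nat.card H := by
        have h5 := Subgroup.card_mul_index H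
        rw [hidx, hcY] at h5
        obtain ⟨c, hc⟩ := h4
        exact ⟨c, by omega⟩
      haveI : Fact (Nat.Prime 2) := ⟨Nat.prime_two⟩
      obtain ⟨τ, hτ⟩ := exists_prime_orderOf_dvd_card' 2 hH2
      have hτi : Inv (τ : YB G Ω (VV a b t) t) := by
        constructor
        · intro h0
          have : τ = 1 := Subtype.ext h0
          rw [this, orderOf_one] at hτ
          omega
        · have h6 := pow_orderOf_eq_one τ
          rw [hτ, pow_two] at h6
          exact congrArg Subtype.val h6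
      obtain ⟨y, hy⟩ := hcj _ _ hτi hσi
      exact hσH (by rw [← hy]; exact hHn.conj_mem _ τ.2 y)
    have hm4 := mod_four ho hnd4
    have hfo : Odd f := by rw [hf]; exact ho.mul ho
    obtain ⟨r, k, E, hr, hk, hrk, hE, hEc, hEe⟩ := hodd hfo
    obtain ⟨q, hq, hTq⟩ := P_mr hf.symm hfo r k hr hrk E hE hEc hEe
    have hrm : r ∣ m := by
      have h7 : r ∣ m * m := by rw [← hf, hrk]; exact dvd_pow_self r (by omega)
      rcases (Nat.Prime.dvd_mul hr).1 h7 with h8 | h8 <;> exact h8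
    have hmr : ∃ i, m = r ^ i := by
      have h9 : m ∣ r ^ k := by rw [← hrk, hf]; exact Dvd.intro m rfl
      obtain ⟨i, -, hi⟩ := (Nat.dvd_prime_pow hr).1 h9
      exact ⟨i, hi⟩
    obtain ⟨i, hi⟩ := hmr
    exact arith hr (prime_mod_four hi hm4) hrm hf h3T hq hTq

end H39.DA
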