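import Cfsg.Agent.Lib.H39.DA2

set_option autoImplicit false
open MulAction
universe u v
namespace H39.DA

namespace R8

variable {G : Type u} {Ω : Type v} [Group G] [Finite G] [MulAction G Ω] [Finite Ω]

/-- order of a 2-transitive group -/
theorem card_tt (h : TT G Ω) {a b : Ω} (hab : a ≠ b) :
    Nat.card G = Nat.card (St G a b) * (Nat.card Ω * (Nat.card Ω - 1)) := by
  classical
  let _ := Fintype.ofFinite Ω
  have h1 : orbit G ((a, b) : Ω × Ω) = ((Finset.univ : Finset Ω).offDiag : Set (Ω × Ω)) := by
    ext ⟨c, d⟩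
    simp only [Finset.coe_offDiag, Set.mem_offDiag, Finset.coe_univ, Set.mem_univ, true_and]
    constructor
    · rintro ⟨g, hg⟩ hcd
      have hg1 : g • a = c := congrArg Prod.fst hg
      have hg2 : g • b = d := congrArg Prod.snd hg
      apply hab
      rw [← hg1, ← hg2] at hcd
      exact MulAction.injective g hcd
    · intro hcd
      obtain ⟨g, hg1, hg2⟩ := h.tr a b c d hab hcd
      exact ⟨g, Prod.ext hg1 hg2⟩
  have h2 : stabilizer G ((a, b) : Ω × Ω) = St G a b := by
    ext g
    rw [mem_stabilizer_iff, St, Subgroup.mem_inf, mem_stabilizer_iff, mem_stabilizer_iff,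
      Prod.smul_mk, Prod.mk.injEq]
  have h3 : (stabilizer G ((a, b) : Ω × Ω)).index = Nat.card Ω * (Nat.card Ω - 1) := by
    rw [MulAction.index_stabilizer, h1, Set.ncard_coe_finset, Finset.offDiag_card, Finset.card_univ,
      ← Nat.card_eq_fintype_card, Nat.mul_sub, Nat.mul_one]
  rw [← (St G a b).card_mul_index, ← h3, h2]

theorem card_St (h : Base G Ω) {a b : Ω} (hab : a ≠ b) : Nat.card (St G a b) = 60 := by
  obtain ⟨e⟩ := h.a5 a b hab
  rw [Nat.card_congr e.toEquiv, nat_card_alternatingGroup]
  simp [Nat.factorial]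

theorem card_base (h : Base G Ω) : Nat.card G = 60 * (Nat.card Ω * (Nat.card Ω - 1)) := by
  obtain ⟨a, b, hab⟩ := h.two
  rw [card_tt h.toTT hab, card_St h hab]

end R8

variable {G : Type u} {Ω : Type v} [Group G] [Finite G] [MulAction G Ω] [Finite Ω]

theorem final7 (h : Base G Ω) (hn : Nat.card Ω = 7) : Nonempty (G ≃* alternatingGroup (Fin 7)) := by
  classical
  let _ := Fintype.ofFinite Ω
  have hf : Function.Injective (MulAction.toPermHom G Ω) := by
    rw [injective_iff_map_eq_one]
    intro g hg
    apply h.faith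
    intro x
    have := congrFun (congrArg DFunLike.coe hg) x
    exact this
  have hcard : Nat.card (MulAction.toPermHom G Ω).range = 2520 := by
    rw [← Nat.card_congr (MonoidHom.ofInjective hf).toEquiv, R8.card_base h, hn]
  have hn' : Fintype.card Ω = 7 := by rw [← Nat.card_eq_fintype_card, hn]
  have hidx : (MulAction.toPermHom G Ω).range.index = 2 := by
    have h1 := (MulAction.toPermHom G Ω).range.card_mul_index
    rw [hcard, Nat.card_perm, hn] at h1
    have h2 : (7 : ℕ).factorial = 5040 := rfl
    rw [h2] at h1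
    omega
  have hA := Equiv.Perm.eq_alternatingGroup_of_index_eq_two hidx
  exact ⟨(MonoidHom.ofInjective hf).trans ((MulEquiv.subgroupCongr hA).trans
    (Equiv.altCongrHom (Fintype.equivFinOfCardEq hn')))⟩

end H39.DA
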