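import Cfsg.Agent.Lib.H71.BB3plug
import Cfsg.Agent.Lib.H27.BB3

set_option autoImplicit false

/-! S3219, piece BB3 (helper27, helper53, helper71). -/

open MulAction

universe u v

namespace H39.DA

variable {G : Type u} {Ω : Type v} [Group G] [Finite G] [MulAction G Ω] [Finite Ω]

theorem a4B1_eq16 (h : B4 G Ω) {a b : Ω} (hab : a ≠ b) {t : G} (ht : Inv t) (hts : t ∈ St G a b)
    (hn : Nat.card Ω = fx G Ω t * fx G Ω t) (hk : ∃ k : ℕ, fS G Ω (VV a b t) = 2 ^ k) (hm : fx G Ω t = fS G Ω (VV a b t)) :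
    Nat.card Ω = 16 :=
  H71.BB3plug.plug (fun S h1 h2 h3 h4 => H27.BB3.psl_part S h1 h2 h3 h4) h hab ht hts hn hk hm

end H39.DA
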