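import Cfsg.Agent.S3188
import Cfsg.Agent.Lib.H39.DB0

/-!
S3219, piece BB4: the abstract part.
-/

set_option autoImplicit false

namespace H39.DA.BB4

open Subgroup

universe u v

theorem odd_core {B : Type u} [Group B] [Finite B] : Odd (Nat.card (Cfsg.oddCore B)) :=
  Nat.coprime_two_right.1 (H1.Cores.coprime_card_pPrimeCore (G := B) 2)

theorem one_of_core {B : Type u} [Group B] [Finite B] {x : B} (hx : x ∈ Cfsg.oddCore B) (h : x * x = 1) : x = 1 := by
  have h1 : orderOf x ∣ Nat.card (Cfsg.oddCore B) := by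
    rw [← orderOf_mk x hx]
    exact orderOf_dvd_natCard _
  have h2 : orderOf x ∣ 2 := orderOf_dvd_of_pow_eq_one (by rw [pow_two]; exact h)
  have h3 : orderOf x ∣ 1 := by
    have := Nat.dvd_gcd h2 h1
    rwa [Nat.Coprime.gcd_eq_one (Nat.coprime_two_left.2 odd_core)] at this
  exact orderOf_eq_one_iff.1 (Nat.dvd_one.1 h3)

/-- solvable case -/
theorem solv_case {B : Type u} [Group B] [Finite B] (hs : Group.IsSolvable B) (P : Sylow 2 B)
    (hV : Nat.card P = 4) (hV2 : ∀ g ∈ (P : Subgroup B), g * g = 1) (hP : IsMulCommutative P)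
    (hconj : ∀ s s' : B, s ≠ 1 → s * s = 1 → s' ≠ 1 → s' * s' = 1 → ∃ g : B, g * s * g⁻¹ = s')
    (hc : ∀ s : B, s ≠ 1 → s * s = 1 → ∀ x ∈ Cfsg.oddCore B, s * x = x * s)
    (hi : 4 < Nat.card {s : B // s ≠ 1 ∧ s * s = 1}) : False := by
  haveI : Fact (Nat.Prime 2) := ⟨Nat.prime_two⟩
  have hn := H1.Solv.sylow_sup_pPrimeCore_normal hs 2 P hP
  have hmem : ∀ s : B, s ≠ 1 → s * s = 1 → s ∈ (P : Subgroup B) := by
    intro s hs1 hs2
    obtain ⟨v, hv, hv1⟩ : ∃ v ∈ (P : Subgroup B), v ≠ 1 := by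
      by_contra hcon
      push Not at hcon
      have : (P : Subgroup B) = ⊥ := (Subgroup.eq_bot_iff_forall _).2 hcon
      have h1 : Nat.card (P : Subgroup B) = 1 := by rw [this]; exact Subgroup.card_bot
      have h2 : Nat.card (P : Subgroup B) = 4 := hV
      omega
    obtain ⟨g, hg⟩ := hconj v s hv1 (hV2 v hv) hs1 hs2
    have h1 : s ∈ (P : Subgroup B) ⊔ Cfsg.pPrimeCore 2 B := by
      rw [← hg]
      exact hn.conj_mem v (Subgroup.mem_sup_left hv) g
    haveI : (Cfsg.pPrimeCore 2 B).Normal := H1.Cores.pPrimeCore_normal 2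
    rw [Subgroup.mem_sup_of_normal_right] at h1
    obtain ⟨y, hy, z, hz, hyz⟩ := h1
    by_cases hy1 : y = 1
    · subst hy1
      rw [one_mul] at hyz
      subst hyz
      exact absurd (one_of_core hz hs2) hs1
    · have h3 := hc y hy1 (hV2 y hy) z hz
      have h4 : z * z = 1 := by
        have : y * z * (y * z) = (y * y) * (z * z) := by
          calc y * z * (y * z) = y * (z * y) * z := by group
            _ = y * (y * z) * z := by rw [← h3]
            _ = (y * y) * (z * z) := by group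
        rw [hyz, hs2, hV2 y hy, one_mul] at this
        exact this.symm
      have h5 := one_of_core hz h4
      rw [h5, mul_one] at hyz
      rw [← hyz]; exact hy
  have h6 : Nat.card {s : B // s ≠ 1 ∧ s * s = 1} ≤ Nat.card (P : Subgroup B) :=
    Nat.card_le_card_of_injective (fun s => (⟨s.1, hmem s.1 s.2.1 s.2.2⟩ : (P : Subgroup B)))
      (fun s s' h => Subtype.ext (congrArg (fun z : (P : Subgroup B) => (z : B)) h))
  have h7 : Nat.card (P : Subgroup B) = 4 := hV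
  omega

/-- lifting involutions -/
theorem lift {B : Type u} [Group B] [Finite B] (q : B ⧸ Cfsg.oddCore B) (h1 : q ≠ 1) (h2 : q * q = 1) :
    ∃ s : B, s ≠ 1 ∧ s * s = 1 ∧ (QuotientGroup.mk s : B ⧸ Cfsg.oddCore B) = q := by
  obtain ⟨g, rfl⟩ := QuotientGroup.mk_surjective q
  obtain ⟨n, hn⟩ := odd_core (B := B)
  have hgg : g * g ∈ Cfsg.oddCore B := by
    rw [← QuotientGroup.mk_mul] at h2
    exact (QuotientGroup.eq_one_iff _).1 h2
  refine ⟨g ^ (2 * n + 1), ?_, ?_, ?_⟩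
  · intro h
    apply h1
    have h3 : (QuotientGroup.mk g : B ⧸ Cfsg.oddCore B) ^ (2 * n + 1) = 1 := by
      rw [← QuotientGroup.mk_pow, h]; rfl
    rwa [pow_succ, pow_mul, pow_two, h2, one_pow, one_mul] at h3
  · have h3 : (⟨g * g, hgg⟩ : Cfsg.oddCore B) ^ (Nat.card (Cfsg.oddCore B)) = 1 := pow_card_eq_one'
    rw [hn] at h3
    have h4 : (g * g) ^ (2 * n + 1) = 1 := congrArg Subtype.val h3
    rw [← pow_add, ← two_mul, pow_mul, pow_two]
    exact h4
  · rw [QuotientGroup.mk_pow, pow_succ, pow_mul, pow_two, h2, one_pow, one_mul]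

theorem inj {B : Type u} [Group B] [Finite B]
    (hc : ∀ s : B, s ≠ 1 → s * s = 1 → ∀ x ∈ Cfsg.oddCore B, s * x = x * s) {s s' : B} (h1 : s ≠ 1) (h2 : s * s = 1)
    (h2' : s' * s' = 1) (h : (QuotientGroup.mk s : B ⧸ Cfsg.oddCore B) = QuotientGroup.mk s') : s = s' := by
  have h3 : s⁻¹ * s' ∈ Cfsg.oddCore B := QuotientGroup.eq.1 h
  have h4 := hc s h1 h2 _ h3
  have h5 : (s⁻¹ * s') * (s⁻¹ * s') = 1 := by
    have h6 : s * (s⁻¹ * s') = s' := by group
    rw [h6] at h4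
    -- s' = s⁻¹ * s' * s
    have h7 : s⁻¹ * s' = s' * s⁻¹ := by
      rw [eq_mul_inv_iff_mul_eq]; exact h4.symm
    have hs : s⁻¹ = s := inv_eq_of_mul_eq_one_right h2
    calc (s⁻¹ * s') * (s⁻¹ * s') = (s' * s⁻¹) * (s⁻¹ * s') := by rw [h7]
      _ = s' * (s * s)⁻¹ * s' := by group
      _ = s' * s' := by rw [h2, inv_one, mul_one]
      _ = 1 := h2'
  have h8 := one_of_core h3 h5
  rw [inv_mul_eq_one] at h8
  exact h8

/-- the statement on `PSL₂` -/
def PL (N : Type u) [Group N] : Prop := ∀ t : N, t ≠ 1 → t * t = 1 →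
  3 * Nat.card {s : N // s ≠ 1 ∧ s * s = 1 ∧ s ≠ t ∧ s * t = t * s} ^ 2 ≤ 4 * Nat.card {s : N // s ≠ 1 ∧ s * s = 1}

theorem PL.of_equiv {N : Type u} {N' : Type v} [Group N] [Group N'] (e : N ≃* N') (h : PL N') : PL N := by
  intro t h1 h2
  have h3 := h (e t) (by rw [Ne, map_eq_one_iff _ e.injective]; exact h1) (by rw [← map_mul, h2, map_one])
  have e1 : {s : N // s ≠ 1 ∧ s * s = 1 ∧ s ≠ t ∧ s * t = t * s} ≃
      {s : N' // s ≠ 1 ∧ s * s = 1 ∧ s ≠ e t ∧ s * e t = e t * s} := by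
    refine Equiv.subtypeEquiv e.toEquiv fun s => ?_
    simp only [MulEquiv.toEquiv_eq_coe, EquivLike.coe_coe, ne_eq, map_eq_one_iff _ e.injective,
      ← map_mul, e.injective.eq_iff]
  have e2 : {s : N // s ≠ 1 ∧ s * s = 1} ≃ {s : N' // s ≠ 1 ∧ s * s = 1} := by
    refine Equiv.subtypeEquiv e.toEquiv fun s => ?_
    simp only [MulEquiv.toEquiv_eq_coe, EquivLike.coe_coe, ne_eq, map_eq_one_iff _ e.injective,
      ← map_mul]
  rw [Nat.card_congr e1, Nat.card_congr e2]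
  exact h3

theorem psl_case {B : Type u} [Group B] [Finite B]
    (hconj : ∀ s s' : B, s ≠ 1 → s * s = 1 → s' ≠ 1 → s' * s' = 1 → ∃ g : B, g * s * g⁻¹ = s')
    (hc : ∀ s : B, s ≠ 1 → s * s = 1 → ∀ x ∈ Cfsg.oddCore B, s * x = x * s)
    (N : Subgroup (B ⧸ Cfsg.oddCore B)) (hN : N.Normal) (hN2 : 2 ∣ Nat.card N) (hPL : PL N) (M : ℕ) (hM : 1 ≤ M)
    (hi : Nat.card {s : B // s ≠ 1 ∧ s * s = 1} = 3 * (M ^ 2 + 1))
    (hr : ∀ r : B, r ≠ 1 → r * r = 1 → 2 * (M + 1) ≤ Nat.card {s : B // s ≠ 1 ∧ s * s = 1 ∧ s ≠ r ∧ s * r = r * s}) :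
    False := by
  haveI : Fact (Nat.Prime 2) := ⟨Nat.prime_two⟩
  let π : B →* B ⧸ Cfsg.oddCore B := QuotientGroup.mk' _
  have hπ1 : ∀ s : B, s ≠ 1 → s * s = 1 → π s ≠ 1 := by
    intro s h1 h2 h3
    exact h1 (one_of_core ((QuotientGroup.eq_one_iff _).1 h3) h2)
  obtain ⟨n, hn⟩ := exists_prime_orderOf_dvd_card' (G := N) 2 hN2
  have hn1 : (n : B ⧸ Cfsg.oddCore B) ≠ 1 := by
    intro h
    have h1 : n = 1 := Subtype.ext h
    rw [h1, orderOf_one] at hn
    omega
  have hn2 : n * n = 1 := by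
    have h := pow_orderOf_eq_one n
    rw [hn, pow_two] at h
    exact h
  obtain ⟨t, ht1, ht2, htn⟩ := lift (n : B ⧸ Cfsg.oddCore B) hn1 (congrArg Subtype.val hn2)
  have hmem : ∀ s : B, s ≠ 1 → s * s = 1 → π s ∈ N := by
    intro s h1 h2
    obtain ⟨g, hg⟩ := hconj t s ht1 ht2 h1 h2
    rw [← hg, map_mul, map_mul, map_inv]
    refine hN.conj_mem _ ?_ _
    show (QuotientGroup.mk t : B ⧸ Cfsg.oddCore B) ∈ N
    rw [htn]; exact n.2
  have h3 := hPL n (by intro h; rw [h] at hn1; exact hn1 rfl) hn2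
  have h4 : Nat.card {s : N // s ≠ 1 ∧ s * s = 1} ≤ Nat.card {s : B // s ≠ 1 ∧ s * s = 1} := by
    let f : {s : B // s ≠ 1 ∧ s * s = 1} → {s : N // s ≠ 1 ∧ s * s = 1} := fun s =>
      ⟨⟨π s.1, hmem _ s.2.1 s.2.2⟩, fun h => hπ1 _ s.2.1 s.2.2 (congrArg Subtype.val h),
        Subtype.ext (by show π s.1 * π s.1 = 1; rw [← map_mul, s.2.2, map_one])⟩
    refine Nat.card_le_card_of_surjective f ?_
    rintro ⟨q, hq1, hq2⟩
    obtain ⟨s, hs1, hs2, hs3⟩ := lift (q : B ⧸ Cfsg.oddCore B) (fun h => hq1 (Subtype.ext h)) (congrArg Subtype.val hq2)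
    exact ⟨⟨s, hs1, hs2⟩, Subtype.ext (Subtype.ext hs3)⟩
  have h5 : Nat.card {s : B // s ≠ 1 ∧ s * s = 1 ∧ s ≠ t ∧ s * t = t * s} ≤
      Nat.card {s : N // s ≠ 1 ∧ s * s = 1 ∧ s ≠ n ∧ s * n = n * s} := by
    let f : {s : B // s ≠ 1 ∧ s * s = 1 ∧ s ≠ t ∧ s * t = t * s} → {s : N // s ≠ 1 ∧ s * s = 1 ∧ s ≠ n ∧ s * n = n * s} :=
      fun s => ⟨⟨π s.1, hmem _ s.2.1 s.2.2.1⟩, fun h => hπ1 _ s.2.1 s.2.2.1 (congrArg Subtype.val h),
        Subtype.ext (by show π s.1 * π s.1 = 1; rw [← map_mul, s.2.2.1, map_one]),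
        fun h => s.2.2.2.1 (inj hc s.2.1 s.2.2.1 ht2 (by
          have h6 : π s.1 = (n : B ⧸ Cfsg.oddCore B) := congrArg Subtype.val h
          rw [htn]; exact h6)),
        Subtype.ext (by
          show π s.1 * (n : B ⧸ Cfsg.oddCore B) = n * π s.1
          rw [← htn]
          show π s.1 * π t = π t * π s.1
          rw [← map_mul, ← map_mul, s.2.2.2.2])⟩
    refine Nat.card_le_card_of_injective f ?_
    intro s s' h
    refine Subtype.ext (inj hc s.2.1 s.2.2.1 s'.2.2.1 ?_)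
    exact congrArg (fun z : {s : N // s ≠ 1 ∧ s * s = 1 ∧ s ≠ n ∧ s * n = n * s} => ((z : N) : B ⧸ Cfsg.oddCore B)) h
  have h6 := hr t ht1 ht2
  have h7 : (2 * (M + 1)) ^ 2 ≤ Nat.card {s : N // s ≠ 1 ∧ s * s = 1 ∧ s ≠ n ∧ s * n = n * s} ^ 2 :=
    Nat.pow_le_pow_left (h6.trans h5) 2
  rw [hi] at h4
  nlinarith

/-- upper unitriangular matrices -/
def tr (F : Type) [Field F] : Multiplicative F →* Matrix.SpecialLinearGroup (Fin 2) F where
  toFun a := ⟨!![1, a.toAdd; 0, 1], by simp [Matrix.det_fin_two]⟩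
  map_one' := by
    ext i j
    fin_cases i <;> fin_cases j <;> simp
  map_mul' a b := by
    apply Subtype.ext
    show (!![1, (a * b).toAdd; 0, 1] : Matrix (Fin 2) (Fin 2) F) = !![1, a.toAdd; 0, 1] * !![1, b.toAdd; 0, 1]
    ext i j
    fin_cases i <;> fin_cases j <;> simp [Matrix.mul_apply, Fin.sum_univ_two, add_comm]

theorem card_dvd (F : Type) [Field F] [Fintype F] :
    Fintype.card F ∣ Nat.card (Matrix.ProjectiveSpecialLinearGroup (Fin 2) F) := by
  have h1 : Nat.card (Multiplicative F) = Fintype.card F := by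
    rw [← Nat.card_eq_fintype_card]; rfl
  rw [← h1]
  let f : Multiplicative F →* Matrix.ProjectiveSpecialLinearGroup (Fin 2) F :=
    (QuotientGroup.mk' (Subgroup.center (Matrix.SpecialLinearGroup (Fin 2) F))).comp (tr F)
  refine Subgroup.card_dvd_of_injective f ?_
  rw [injective_iff_map_eq_one]
  intro a ha
  have h2 : tr F a ∈ Subgroup.center (Matrix.SpecialLinearGroup (Fin 2) F) := (QuotientGroup.eq_one_iff _).1 ha
  let w : Matrix.SpecialLinearGroup (Fin 2) F := ⟨!![1, 0; 1, 1], by simp [Matrix.det_fin_two]⟩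
  have h3 := (Subgroup.mem_center_iff.1 h2) w
  have h4 : (w.1 * (tr F a).1) 0 0 = ((tr F a).1 * w.1) 0 0 := by
    have := congrArg (fun z : Matrix.SpecialLinearGroup (Fin 2) F => z.1 0 0) h3
    exact this
  have h6 : (!![1, 0; 1, 1] * !![1, a.toAdd; 0, 1] : Matrix (Fin 2) (Fin 2) F) 0 0 =
      (!![1, a.toAdd; 0, 1] * !![1, 0; 1, 1] : Matrix (Fin 2) (Fin 2) F) 0 0 := h4
  simp [Matrix.mul_apply, Fin.sum_univ_two] at h6
  exact h6

theorem main {B : Type u} [Group B] [Finite B] (P : Sylow 2 B)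
    (hV : Nat.card P = 4) (hV2 : ∀ g ∈ (P : Subgroup B), g * g = 1)
    (hconj : ∀ s s' : B, s ≠ 1 → s * s = 1 → s' ≠ 1 → s' * s' = 1 → ∃ g : B, g * s * g⁻¹ = s')
    (hc : ∀ s : B, s ≠ 1 → s * s = 1 → ∀ x ∈ Cfsg.oddCore B, s * x = x * s)
    (hC : ∀ t : B, orderOf t = 2 → Group.IsSolvable ↥(Subgroup.centralizer ({t} : Set B)))
    (psl_odd : ∀ (F : Type) (_ : Field F) (_ : Fintype F), Odd (Fintype.card F) → PL (Matrix.ProjectiveSpecialLinearGroup (Fin 2) F))
    (psl_four : ∀ (F : Type) (_ : Field F) (_ : Fintype F), Fintype.card F = 4 → PL (Matrix.ProjectiveSpecialLinearGroup (Fin 2) F))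
    (M : ℕ) (hM : 2 ≤ M)
    (hi : Nat.card {s : B // s ≠ 1 ∧ s * s = 1} = 3 * (M ^ 2 + 1))
    (hr : ∀ r : B, r ≠ 1 → r * r = 1 → 2 * (M + 1) ≤ Nat.card {s : B // s ≠ 1 ∧ s * s = 1 ∧ s ≠ r ∧ s * r = r * s}) :
    False := by
  haveI : Fact (Nat.Prime 2) := ⟨Nat.prime_two⟩
  have hP : IsMulCommutative (P : Subgroup B) := by
    refine ⟨⟨fun a b => Subtype.ext ?_⟩⟩
    show (a : B) * b = b * a
    have h1 := hV2 _ (P.mul_mem a.2 b.2)
    have h2 := hV2 _ a.2
    have h3 := hV2 _ b.2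
    have ha : (a : B)⁻¹ = a := inv_eq_of_mul_eq_one_right h2
    have hb : (b : B)⁻¹ = b := inv_eq_of_mul_eq_one_right h3
    have hab : ((a : B) * b)⁻¹ = a * b := inv_eq_of_mul_eq_one_right h1
    rw [mul_inv_rev, ha, hb] at hab
    exact hab.symm
  have h9 : 4 < Nat.card {s : B // s ≠ 1 ∧ s * s = 1} := by rw [hi]; nlinarith
  rcases Cfsg.Agent.S3188.result P hP hC with hs | ⟨F, iF, iFf, hF, N, hN, ⟨e⟩, hNc⟩
  · exact solv_case hs P hV hV2 hP hconj hc h9
  · have hcard : Nat.card N = Nat.card (Matrix.ProjectiveSpecialLinearGroup (Fin 2) F) := Nat.card_congr e.toEquiv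
    have hPB : Nat.card (P : Subgroup B) = 4 := hV
    have h8 : ¬ 8 ∣ Nat.card B := by
      intro h8
      have h10 : Nat.card P = 2 ^ (Nat.card B).factorization 2 := P.card_eq_multiplicity
      have h11 : 3 ≤ (Nat.card B).factorization 2 :=
        (Nat.Prime.pow_dvd_iff_le_factorization Nat.prime_two Nat.card_pos.ne').1 (by simpa using h8)
      have h12 : 2 ^ 3 ≤ 2 ^ (Nat.card B).factorization 2 := Nat.pow_le_pow_right (by norm_num) h11
      omega
    have hNB : Nat.card N ∣ Nat.card B :=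
      (Subgroup.card_subgroup_dvd_card N).trans (Subgroup.card_quotient_dvd_card _)
    have h2N : 2 ∣ Nat.card N ∧ ((∃ n : ℕ, 2 ≤ n ∧ Fintype.card F = 2 ^ n) → Fintype.card F = 4) := by
      constructor
      · by_contra h2
        have h3 : (Nat.card N).Coprime 2 :=
          (Nat.coprime_comm.1 ((Nat.Prime.coprime_iff_not_dvd Nat.prime_two).2 h2))
        have h4 : N ≤ Cfsg.pPrimeCore 2 (B ⧸ Cfsg.oddCore B) := H1.Cores.le_pPrimeCore hN h3
        have h5 : N = ⊥ := by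
          rw [eq_bot_iff]
          refine h4.trans ?_
          exact (H1.Cores.pPrimeCore_quotient_pPrimeCore (G := B) 2).le
        have h6 : (⊤ : Subgroup (B ⧸ Cfsg.oddCore B)) = ⊥ := by
          rw [← hNc, h5]
          rw [eq_comm, eq_top_iff]
          intro x _
          rw [Subgroup.mem_centralizer_iff]
          intro y hy
          have : y = 1 := hy
          rw [this, one_mul, mul_one]
        have h7 : Nat.card (B ⧸ Cfsg.oddCore B) = 1 := by
          rw [← Subgroup.card_top, h6, Subgroup.card_bot]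
        have h10 : Nat.card B = Nat.card (B ⧸ Cfsg.oddCore B) * Nat.card (Cfsg.oddCore B) :=
          Subgroup.card_eq_card_quotient_mul_card_subgroup _
        rw [h7, one_mul] at h10
        have h11 : Odd (Nat.card B) := by rw [h10]; exact odd_core
        have h12 : 4 ∣ Nat.card B := by rw [← hPB]; exact Subgroup.card_subgroup_dvd_card _
        rw [Nat.odd_iff] at h11
        omega
      · rintro ⟨n, hn, hFn⟩
        have h3 : 2 ^ n ∣ Nat.card B := by
          rw [← hFn]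
          exact (card_dvd F).trans (by rw [← hcard]; exact hNB)
        have h4 : n = 2 := by
          by_contra h5
          exact h8 ((pow_dvd_pow 2 (by omega : 3 ≤ n)).trans h3)
        rw [hFn, h4]; norm_num
    rcases hF with ⟨h35, h5⟩ | h
    · have hodd : Odd (Fintype.card F) := by
        rw [Nat.odd_iff]; omega
      exact psl_case hconj hc N hN h2N.1 (PL.of_equiv e (psl_odd F iF iFf hodd)) M (by omega) hi hr
    · exact psl_case hconj hc N hN h2N.1 (PL.of_equiv e (psl_four F iF iFf (h2N.2 h))) M (by omega) hi hr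

end H39.DA.BB4
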