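import Cfsg.Agent.Lib.H39.DBB4core
import Cfsg.Agent.Lib.H5.IndexTwo
import Cfsg.Agent.Lib.H1.BB4P3
import Cfsg.Agent.Lib.H31.BB4P4
import Cfsg.Agent.Lib.H39.DBD0a
import Cfsg.Agent.Lib.H39.DBD0b

/-!
S3219, piece BB4: solvable centralizers and the core of the point stabilizer.
-/

set_option autoImplicit false

namespace H39.DA.BB4

open Subgroup MulAction

universe u v

theorem solv_two {C : Type u} [Group C] [Finite C] (h4 : ¬ 4 ∣ Nat.card C) : Group.IsSolvable C := by
  haveI : Fact (Nat.Prime 2) := ⟨Nat.prime_two⟩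
  by_cases ho : Odd (Nat.card C)
  · exact Cfsg.Agent.S0205.result ho
  · have he : Even (Nat.card C) := Nat.not_odd_iff_even.1 ho
    let T : Sylow 2 C := default
    have hT : Nat.card (T : Subgroup C) = 2 ^ (Nat.card C).factorization 2 := T.card_eq_multiplicity
    have h1 : (Nat.card C).factorization 2 ≤ 1 := by
      by_contra hcon
      exact h4 ((pow_dvd_pow 2 (by omega : 2 ≤ (Nat.card C).factorization 2)).trans (Nat.ordProj_dvd _ _))
    have h2 : (Nat.card C).factorization 2 ≠ 0 := by
      have := Nat.Prime.factorization_pos_of_dvd Nat.prime_two Nat.card_pos.ne' he.two_dvd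
      omega
    have h3 : (Nat.card C).factorization 2 = 1 := by omega
    have hTc : IsCyclic (T : Subgroup C) := isCyclic_of_prime_card (p := 2) (by rw [hT, h3, pow_one])
    obtain ⟨H, hH⟩ := H5.IndexTwo.exists_index_two_of_cyclic_sylow he T hTc
    haveI : H.Normal := Subgroup.normal_of_index_eq_two hH
    have h5 : Nat.card H * 2 = Nat.card C := by rw [← hH]; exact H.card_mul_index
    have h6 : Odd (Nat.card H) := by
      rw [← Nat.not_even_iff_odd]
      rintro ⟨k, hk⟩
      apply h4
      exact ⟨k, by rw [← h5, hk]; ring⟩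
    rw [Group.isSolvable_iff_subgroup_quotient H]
    refine ⟨Cfsg.Agent.S0205.result h6, ?_⟩
    have h7 : Nat.card (C ⧸ H) = 2 := hH
    haveI : IsCyclic (C ⧸ H) := isCyclic_of_prime_card (p := 2) h7
    infer_instance

theorem solv_central {C : Type u} [Group C] [Finite C] {z : C} (hz1 : z ≠ 1) (hz2 : z * z = 1) (hzc : ∀ x : C, x * z = z * x)
    (h8 : ¬ 8 ∣ Nat.card C) : Group.IsSolvable C := by
  haveI : Fact (Nat.Prime 2) := ⟨Nat.prime_two⟩
  haveI : (zpowers z).Normal := by
    refine ⟨fun n hn g => ?_⟩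
    obtain ⟨k, rfl⟩ := Subgroup.mem_zpowers_iff.1 hn
    have h1 : g * z ^ k * g⁻¹ = z ^ k := by
      rw [mul_inv_eq_iff_eq_mul]
      exact ((show Commute g z from hzc g).zpow_right k)
    rw [h1]; exact hn
  rw [Group.isSolvable_iff_subgroup_quotient (zpowers z)]
  refine ⟨inferInstance, solv_two ?_⟩
  rintro ⟨k, hk⟩
  apply h8
  have h1 : Nat.card C = Nat.card (C ⧸ zpowers z) * Nat.card (zpowers z) :=
    Subgroup.card_eq_card_quotient_mul_card_subgroup _
  have h2 : Nat.card (zpowers z) = 2 := by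
    rw [Nat.card_zpowers]
    exact orderOf_eq_prime (by rw [pow_two]; exact hz2) hz1
  exact ⟨k, by rw [h1, h2, hk]; ring⟩

theorem cent_solv {B : Type u} [Group B] [Finite B] (h8 : ¬ 8 ∣ Nat.card B) (t : B) (ht : orderOf t = 2) :
    Group.IsSolvable (centralizer ({t} : Set B)) := by
  have htt : t * t = 1 := by
    have h := pow_orderOf_eq_one t
    rwa [ht, pow_two] at h
  have ht1 : t ≠ 1 := by rintro rfl; rw [orderOf_one] at ht; omega
  refine solv_central (z := (⟨t, mem_centralizer_singleton_iff.2 rfl⟩ : centralizer ({t} : Set B)))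
    (fun h => ht1 (congrArg Subtype.val h)) (Subtype.ext htt) (fun x => Subtype.ext ?_) ?_
  · exact mem_centralizer_singleton_iff.1 x.2
  · exact fun h => h8 (h.trans (Subgroup.card_subgroup_dvd_card _))

variable {G : Type u} {Ω : Type v} [Group G] [Finite G] [MulAction G Ω] [Finite Ω]

/-- the odd core of a point stabilizer is semiregular -/
theorem semireg (h : B4 G Ω) {a c : Ω} (hac : a ≠ c) {x : stabilizer G a} (hx : x ∈ Cfsg.oddCore (stabilizer G a))
    (hc : (x : G) • c = c) : x = 1 := by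
  have h1 := (facts4 h hac).2.2.2
  let N : Subgroup (St G a c) := ((Cfsg.oddCore (stabilizer G a)).map (stabilizer G a).subtype).subgroupOf (St G a c)
  have hxS : (x : G) ∈ St G a c := ⟨x.2, hc⟩
  have hN : N.Normal := by
    refine ⟨fun n hn g => ?_⟩
    rw [Subgroup.mem_subgroupOf] at hn ⊢
    obtain ⟨y, hy, hyn⟩ := hn
    have hnorm : (Cfsg.oddCore (stabilizer G a)).Normal := H1.Cores.pPrimeCore_normal 2
    refine ⟨(⟨(g : G), g.2.1⟩ : stabilizer G a) * y * (⟨(g : G), g.2.1⟩ : stabilizer G a)⁻¹, hnorm.conj_mem y hy _, ?_⟩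
    rw [map_mul, map_mul, map_inv, hyn]
    rfl
  have hodd : Odd (Nat.card N) := by
    have h2 : Nat.card N ∣ Nat.card (Cfsg.oddCore (stabilizer G a)) := by
      have h3 : Nat.card ((Cfsg.oddCore (stabilizer G a)).map (stabilizer G a).subtype) = Nat.card (Cfsg.oddCore (stabilizer G a)) :=
        Nat.card_congr ((Cfsg.oddCore (stabilizer G a)).equivMapOfInjective _ (stabilizer G a).subtype_injective).symm.toEquiv
      rw [← h3]
      exact Subgroup.card_comap_dvd_of_injective _ (St G a c).subtype (St G a c).subtype_injective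
    exact Odd.of_dvd_nat odd_core h2
  have h4 := h1 N hN hodd
  have h5 : (⟨(x : G), hxS⟩ : St G a c) ∈ N := by
    rw [Subgroup.mem_subgroupOf]
    exact ⟨x, hx, rfl⟩
  rw [h4, Subgroup.mem_bot] at h5
  exact Subtype.ext (congrArg (fun z : St G a c => (z : G)) h5)

theorem core_cyc (h : B4 G Ω) {a b : Ω} (hab : a ≠ b) (E : Subgroup G) (hE : Reg G Ω E)
    (hEc : ∀ g ∈ E, ∀ g' ∈ E, g * g' = g' * g) (hE2 : ∀ g ∈ E, g * g = 1)
    (p : ℕ) (P : Subgroup (stabilizer G a)) (hp : p.Prime) (hPX : P ≤ Cfsg.oddCore (stabilizer G a)) (hP : IsPGroup p P) :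
    IsCyclic P := by
  haveI := Fact.mk hp
  by_cases hp2 : p = 2
  · subst hp2
    have h1 : Nat.card P = 1 := by
      obtain ⟨n, hn⟩ := hP.exists_card_eq
      have h2 : Nat.card P ∣ Nat.card (Cfsg.oddCore (stabilizer G a)) := Subgroup.card_dvd_of_le hPX
      have h3 : Odd (Nat.card P) := Odd.of_dvd_nat odd_core h2
      rcases Nat.eq_zero_or_pos n with h0 | h0
      · rw [hn, h0, pow_zero]
      · exfalso
        rw [hn] at h3
        exact (Nat.not_odd_iff_even.2 ((Nat.even_pow' (by omega)).2 even_two)) h3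
    haveI : Subsingleton P := (Nat.card_eq_one_iff_unique.1 h1).1
    exact isCyclic_of_subsingleton
  · obtain ⟨e0, he0, he0b⟩ := hE.2.1 a b
    have hE1 : E ≠ ⊥ := by
      intro h0
      rw [h0, Subgroup.mem_bot] at he0
      rw [he0, one_smul] at he0b
      exact hab he0b
    let P' : Subgroup G := P.map (stabilizer G a).subtype
    have eP : P ≃* P' := P.equivMapOfInjective _ (stabilizer G a).subtype_injective
    have hP' : IsPGroup p P' := hP.map _
    have hc : IsCyclic P' := by
      refine H1.BB4P3.cyc E P' hEc hE2 hE1 hp hp2 hP' (fun g _ e he => hE.1.conj_mem e he g) ?_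
      rintro g ⟨x, hx, rfl⟩ hg1 e he he1 hcomm
      have h2 : (x : G) • (e • a) = e • a := by
        rw [smul_smul]
        have h3 : (x : G) * e = e * x := hcomm
        rw [h3, mul_smul, x.2]
      have h3 : a ≠ e • a := fun h4 => he1 (hE.2.2 e he a h4.symm)
      have h4 := semireg h h3 (hPX hx) h2
      apply hg1
      rw [h4, map_one]
    exact isCyclic_of_surjective eP.symm.toMonoidHom eP.symm.surjective

end H39.DA.BB4
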