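import Cfsg.Agent.Lib.H39.G8Z
import Cfsg.Agent.Lib.H11.FourConn
import Cfsg.Agent.Lib.H26.DihFusion
import Cfsg.Agent.S0107
import Cfsg.Agent.S0514

set_option autoImplicit false

/-! T-GW8: the elementary fields of `Base8`. -/

namespace H39.G8F

open Cfsg Subgroup H28.Cj H28.RelSyl H28.RelHall H28.RelCore H4.GW H39.G8

universe u

variable {G : Type u} [Group G] [Finite G]

/-- (SC) -/
theorem sc (hD : H59.G8.Dh G) {z s c : G} (hz : Invol z) (hs : Invol s) (hne : z ≠ s)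
    (hzs : z * s = s * z) {k : ℕ} (hc : c ^ 2 ^ k = 1) (hcz : c * z = z * c) (hcs : c * s = s * c) :
    c = 1 ∨ c = z ∨ c = s ∨ c = z * s :=
  hD.self_cent hz.1 hs.1 hz.2 hs.2 hne hzs hc hcz hcs

/-- the four-group `⟨z, s⟩` -/
theorem exists_V {z s : G} (hz : Invol z) (hs : Invol s) (hne : z ≠ s) (hzs : z * s = s * z) :
    ∃ V : Subgroup G, IsPGroup 2 V ∧ Nat.card V = 4 ∧ z ∈ V ∧ s ∈ V ∧
      ∀ x ∈ V, x = 1 ∨ x = z ∨ x = s ∨ x = z * s := by
  obtain ⟨V, hV, h1, h2, h3⟩ := H11.FourConn.isKleinFour_sup hz.1 hs.1 hz.2 hs.2 hne hzs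
  have h4 : Nat.card V = 4 := hV.card_four
  exact ⟨V, IsPGroup.of_card (n := 2) (by rw [h4]; norm_num), h4, h1, h2, h3⟩

theorem V_le {V M : Subgroup G} {z s : G} (hV : ∀ x ∈ V, x = 1 ∨ x = z ∨ x = s ∨ x = z * s)
    (hz : z ∈ M) (hs : s ∈ M) : V ≤ M := by
  intro x hx
  rcases hV x hx with rfl | rfl | rfl | rfl
  · exact M.one_mem
  · exact hz
  · exact hs
  · exact M.mul_mem hz hs

/-- the element of `N_T(V)` not centralising `V` -/
theorem exists_g {V T : Subgroup G} (hT : IsPGroup 2 T) (h : V < T) :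
    ∃ g ∈ T, g ∈ normalizer (V : Set G) ∧ g ∉ V ∧ ∃ k : ℕ, g ^ 2 ^ k = 1 := by
  have : Fact (Nat.Prime 2) := ⟨Nat.prime_two⟩
  obtain ⟨g, hg, hgV⟩ := SetLike.exists_of_lt (lt_inf_normalizer_of_isPGroup hT h)
  obtain ⟨hgT, hgN⟩ := mem_inf.1 hg
  obtain ⟨k, hk⟩ := hT ⟨g, hgT⟩
  exact ⟨g, hgT, hgN, hgV, k, congrArg Subtype.val hk⟩

/-- `g` normalises `V = ⟨z, s⟩`, centralises `z`, is not in `V`: `s ↦ z s` -/
theorem swap (hD : H59.G8.Dh G) {z s g : G} (hz : Invol z) (hs : Invol s) (hne : z ≠ s)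
    (hzs : z * s = s * z) {V : Subgroup G} (hzV : z ∈ V) (hsV : s ∈ V)
    (hV : ∀ x ∈ V, x = 1 ∨ x = z ∨ x = s ∨ x = z * s) (hg : g ∈ normalizer (V : Set G))
    (hgV : g ∉ V) {k : ℕ} (hk : g ^ 2 ^ k = 1) (hgz : g * z = z * g) : g * s * g⁻¹ = z * s := by
  have h1 : g * s * g⁻¹ ∈ V := (mem_normalizer_iff.1 hg s).1 hsV
  rcases hV _ h1 with h | h | h | h
  · exact absurd h (hs.conj g).2
  · exfalso
    apply hne
    have h2 : g * z * g⁻¹ = z := by rw [hgz, mul_inv_cancel_right]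
    have h3 : g * s * g⁻¹ = g * z * g⁻¹ := by rw [h, h2]
    exact (mul_left_cancel (mul_right_cancel h3)).symm
  · exfalso
    have h2 : g * s = s * g := mul_inv_eq_iff_eq_mul.1 h
    rcases sc hD hz hs hne hzs hk hgz h2 with h3 | h3 | h3 | h3
    · exact hgV (h3 ▸ V.one_mem)
    · exact hgV (h3 ▸ hzV)
    · exact hgV (h3 ▸ hsV)
    · exact hgV (h3 ▸ V.mul_mem hzV hsV)
  · exact h

/-- an involution in a nontrivial normal subgroup of a 2-group `T`, centralised by `T` -/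
theorem exists_central {T N : Subgroup G} (hT : IsPGroup 2 T) (hN : N ≤ T) (hn : T ≤ normalizer (N : Set G))
    (hb : N ≠ ⊥) : ∃ d ∈ N, Invol d ∧ ∀ t ∈ T, t * d = d * t := by
  have : Fact (Nat.Prime 2) := ⟨Nat.prime_two⟩
  have h1 := H29.NilCore.inf_centralizer_ne_bot hT.isNilpotent hN hn hb
  set Z := N ⊓ centralizer (T : Set G) with hZ
  have h2 : IsPGroup 2 Z := hT.to_le (inf_le_left.trans hN)
  have h3 : 2 ∣ Nat.card Z := by
    obtain ⟨n, hn⟩ := IsPGroup.iff_card.1 h2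
    rcases n with _ | n
    · exfalso
      apply h1
      exact Subgroup.card_eq_one.1 (by rw [hn, pow_zero])
    · rw [hn]; exact dvd_pow_self 2 (Nat.succ_ne_zero n)
  obtain ⟨d, hd⟩ := exists_prime_orderOf_dvd_card' (G := Z) 2 h3
  rw [← orderOf_coe] at hd
  have h4 := pow_orderOf_eq_one (d : G)
  rw [hd, pow_two] at h4
  refine ⟨d, (mem_inf.1 d.2).1, ⟨h4, fun h5 => ?_⟩, fun t ht => ?_⟩
  · rw [h5, orderOf_one] at hd
    exact absurd hd (by norm_num)
  · exact mem_centralizer_iff.1 (mem_inf.1 d.2).2 t ht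

theorem inv_not_comm {v x : G} (ho : Odd (orderOf x)) (hx1 : x ≠ 1) (hI : Inv v x) : v * x ≠ x * v :=
  fun h => hx1 (odd_inv_comm ho hI h)

/-- the field `ker4` -/
theorem ker4 (hD : H59.G8.Dh G) {z s : G} (hz : Invol z) (hs : Invol s) (hne : z ≠ s)
    (hzs : z * s = s * z) {M C : Subgroup G} (hzM : z ∈ M) (hsM : s ∈ M) (hC : C ≤ M)
    (hn : M ≤ normalizer (C : Set G)) (hd : 2 ∣ Nat.card C) : z ∈ C ∨ s ∈ C ∨ z * s ∈ C := by
  have : Fact (Nat.Prime 2) := ⟨Nat.prime_two⟩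
  obtain ⟨V, hVp, -, hzV, hsV, hV⟩ := exists_V hz hs hne hzs
  obtain ⟨T, hT, hVT⟩ := exists_isSyl_ge hVp (V_le hV hzM hsM)
  have hCT := hT.inf_normal hn hC
  have hne' : T ⊓ C ≠ ⊥ := hCT.ne_bot hd
  have hTn : T ≤ normalizer ((T ⊓ C : Subgroup G) : Set G) :=
    (le_inf le_normalizer (hT.le.trans hn)).trans inf_normalizer_le_normalizer_inf
  obtain ⟨d, hdTC, hdi, hdc⟩ := exists_central hT.isPGroup inf_le_left hTn hne'
  have hdC : d ∈ C := (mem_inf.1 hdTC).2
  rcases sc hD hz hs hne hzs (k := 1) (by rw [pow_one, pow_two]; exact hdi.1)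
    (hdc z (hVT hzV)).symm (hdc s (hVT hsV)).symm with h | h | h | h
  · exact absurd h hdi.2
  · exact Or.inl (h ▸ hdC)
  · exact Or.inr (Or.inl (h ▸ hdC))
  · exact Or.inr (Or.inr (h ▸ hdC))

/-- the field `loc` -/
theorem loc (hD : H59.G8.Dh G) {z s : G} (hz : Invol z) (hs : Invol s) (hne : z ≠ s)
    (hzs : z * s = s * z) {K : Subgroup G} (hle : Ce z ≤ K) {x : G} (hx : x ∈ K) (hx1 : x ≠ 1)
    (ho : Odd (orderOf x)) (hI : Inv z x) (hsx : s * x = x * s) {k : G} (hk : k ∈ K)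
    (hkx : (k * z * k⁻¹) * x = x * (k * z * k⁻¹)) :
    ∃ g ∈ K, g * s * g⁻¹ = z ∨ g * (z * s) * g⁻¹ = z := by
  have : Fact (Nat.Prime 2) := ⟨Nat.prime_two⟩
  obtain ⟨V, hVp, -, hzV, hsV, hV⟩ := exists_V hz hs hne hzs
  have hzK : z ∈ K := hle (mem_self z)
  have hsK : s ∈ K := hle (mem_Ce.2 hzs)
  set N := K ⊓ normalizer ((zpowers x : Subgroup G) : Set G) with hN
  set C := K ⊓ Ce x with hC
  have hzx : z * x ≠ x * z := inv_not_comm ho hx1 hI
  have hI' : Inv (z * s) x := by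
    show z * s * x * (z * s)⁻¹ = x⁻¹
    have e : z * s * x * (z * s)⁻¹ = z * (s * x * s⁻¹) * z⁻¹ := by group
    rw [e, hsx, mul_inv_cancel_right]
    exact hI
  have hzsx : (z * s) * x ≠ x * (z * s) := inv_not_comm ho hx1 hI'
  have hzN : z ∈ N := by
    refine mem_inf.2 ⟨hzK, ?_⟩
    rw [norm_cj_iff]
    have h1 : cj z (zpowers x) = zpowers (z * x * z⁻¹) := by
      rw [H28.Cj.cj, MonoidHom.map_zpowers]; rfl
    rw [h1, hI, zpowers_inv]
  have hCx : Ce x ≤ normalizer ((zpowers x : Subgroup G) : Set G) := by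
    refine le_trans ?_ (centralizer_le_normalizer _)
    intro c hc
    rw [mem_centralizer_iff]
    intro y hy
    obtain ⟨n, rfl⟩ := mem_zpowers_iff.1 hy
    exact ((show Commute x c from mem_Ce.1 hc).zpow_left n).eq
  have hsN : s ∈ N := mem_inf.2 ⟨hsK, hCx (mem_Ce.2 hsx.symm)⟩
  have hCN : C ≤ N := inf_le_inf_left _ hCx
  have hNC : N ≤ normalizer (C : Set G) := by
    have h1 : Ce x = centralizer ((zpowers x : Subgroup G) : Set G) := by
      apply le_antisymm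
      · intro c hc
        rw [mem_centralizer_iff]
        intro y hy
        obtain ⟨n, rfl⟩ := mem_zpowers_iff.1 hy
        exact ((show Commute x c from mem_Ce.1 hc).zpow_left n).eq
      · exact centralizer_le (Set.singleton_subset_iff.2 (mem_zpowers x))
    refine (le_inf (inf_le_left.trans le_normalizer) (inf_le_right.trans ?_)).trans
      inf_normalizer_le_normalizer_inf
    rw [h1]
    intro g hg
    rw [norm_cj_iff, cj_centralizer, norm_cj_iff.1 hg]
  obtain ⟨D, hDs, hVD⟩ := exists_isSyl_ge hVp (V_le hV hzN hsN)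
  have hQ := hDs.inf_normal hNC hCN
  have hz' : k * z * k⁻¹ ∈ C :=
    mem_inf.2 ⟨K.mul_mem (K.mul_mem hk hzK) (K.inv_mem hk), mem_Ce.2 hkx.symm⟩
  have hz'p : IsPGroup 2 (zpowers (k * z * k⁻¹)) := IsPGroup.of_card (n := 1) (by
    rw [Nat.card_zpowers, orderOf_invol (hz.conj k), pow_one])
  obtain ⟨h, hh, hle2⟩ := hQ.exists_conj_le hz'p (zpowers_le.2 hz')
  have hz'' : h * (k * z * k⁻¹) * h⁻¹ ∈ D ⊓ C := hle2 (conj_mem_cj.2 (mem_zpowers _))
  have hhK : h ∈ K := (mem_inf.1 hh).1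
  have hcomm : (h * (k * z * k⁻¹) * h⁻¹) * x = x * (h * (k * z * k⁻¹) * h⁻¹) :=
    (mem_Ce.1 (mem_inf.1 (mem_inf.1 hz'').2).2).symm
  have hCmem : ∀ c ∈ C, c * x = x * c := fun c hc => (mem_Ce.1 (mem_inf.1 hc).2).symm
  have hsC : s ∈ C := mem_inf.2 ⟨hsK, mem_Ce.2 hsx.symm⟩
  rcases hVD.eq_or_lt with heq | hlt
  · -- `D = V`
    have h1 : h * (k * z * k⁻¹) * h⁻¹ ∈ V := heq ▸ (mem_inf.1 hz'').1
    rcases hV _ h1 with h2 | h2 | h2 | h2
    · exact absurd h2 ((hz.conj k).conj h).2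
    · rw [h2] at hcomm; exact absurd hcomm hzx
    · refine ⟨(h * k)⁻¹, K.inv_mem (K.mul_mem hhK hk), Or.inl ?_⟩
      rw [← h2]; group
    · rw [h2] at hcomm; exact absurd hcomm hzsx
  · obtain ⟨g, hgD, hgN, hgV, n, hgn⟩ := exists_g hDs.isPGroup hlt
    have hDb : D ≠ ⊥ := by
      intro hb
      rw [hb] at hlt
      exact not_lt_bot hlt
    obtain ⟨d, hdD, hdi, hdc⟩ := exists_central hDs.isPGroup le_rfl le_normalizer hDb
    have hgK : g ∈ K := (mem_inf.1 (hDs.le hgD)).1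
    have hgC : g * s * g⁻¹ ∈ C := (mem_normalizer_iff.1 (hNC (hDs.le hgD)) s).1 hsC
    rcases sc hD hz hs hne hzs (k := 1) (by rw [pow_one, pow_two]; exact hdi.1)
      (hdc z (hVD hzV)).symm (hdc s (hVD hsV)).symm with h1 | h1 | h1 | h1
    · exact absurd h1 hdi.2
    · -- `d = z`
      exfalso
      have h2 := swap hD hz hs hne hzs hzV hsV hV hgN hgV hgn (h1 ▸ hdc g hgD)
      rw [h2] at hgC
      exact hzsx (hCmem _ hgC)
    · -- `d = s`
      have hV' : ∀ x ∈ V, x = 1 ∨ x = s ∨ x = z ∨ x = s * z := by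
        intro y hy
        rcases hV y hy with h2 | h2 | h2 | h2
        · exact Or.inl h2
        · exact Or.inr (Or.inr (Or.inl h2))
        · exact Or.inr (Or.inl h2)
        · exact Or.inr (Or.inr (Or.inr (by rw [h2, hzs])))
      have h2 := swap hD hs hz hne.symm hzs.symm hsV hzV hV' hgN hgV hgn (h1 ▸ hdc g hgD)
      refine ⟨g⁻¹, K.inv_mem hgK, Or.inr ?_⟩
      rw [hzs, ← h2]; group
    · -- `d = z s`
      exfalso
      have hzsi := hz.mul hs hne hzs
      have hzs1 : z * s ≠ s := fun h2 => hz.2 (by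
        have := mul_right_cancel (h2.trans (one_mul s).symm)
        exact this)
      have hc2 : (z * s) * s = s * (z * s) := by rw [← mul_assoc s z s, ← hzs]
      have hV' : ∀ x ∈ V, x = 1 ∨ x = z * s ∨ x = s ∨ x = z * s * s := by
        intro y hy
        rcases hV y hy with h2 | h2 | h2 | h2
        · exact Or.inl h2
        · exact Or.inr (Or.inr (Or.inr (by rw [mul_assoc, hs.1, mul_one]; exact h2)))
        · exact Or.inr (Or.inr (Or.inl h2))
        · exact Or.inr (Or.inl h2)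
      have h2 := swap hD hzsi hs hzs1 hc2 (V.mul_mem hzV hsV) hsV hV' hgN hgV hgn (h1 ▸ hdc g hgD)
      rw [mul_assoc z s s, hs.1, mul_one] at h2
      rw [h2] at hgC
      exact hzx (hCmem _ hgC)

theorem exists_pow2 {K : Subgroup G} {n : ℕ} (hi : K.index = 2 ^ n) [K.Normal] {x : G}
    (ho : Odd (orderOf x)) : x ∈ K := by
  have h1 : ((x : G) : G ⧸ K) ^ (2 ^ n) = 1 := by
    have := pow_card_eq_one' (x := ((x : G) : G ⧸ K))
    rwa [← Subgroup.index, hi] at this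
  have h2 : orderOf ((x : G) : G ⧸ K) ∣ orderOf x := orderOf_map_dvd (QuotientGroup.mk' K) x
  have h3 : orderOf ((x : G) : G ⧸ K) ∣ 2 ^ n := orderOf_dvd_of_pow_eq_one h1
  have h4 : orderOf ((x : G) : G ⧸ K) = 1 :=
    Nat.eq_one_of_dvd_coprimes (Nat.Coprime.pow_right n (Nat.coprime_two_right.2 ho)) h2 h3
  exact (QuotientGroup.eq_one_iff x).1 (orderOf_eq_one_iff.1 h4)

/-- the field `nilp` -/
theorem nilp (S : Sylow 2 G) {m : ℕ} (hm : 2 ≤ m) (hS : Nonempty ((S : Subgroup G) ≃* DihedralGroup m))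
    {v : G} (hv : Invol v) {x : G} (hx : x ∈ Ce v) (ho : Odd (orderOf x)) : x ∈ U v := by
  obtain ⟨N, hN, hodd, k, hk⟩ := Cfsg.Agent.S0514.result S m hm hS v (orderOf_invol hv)
  have h1 : (⟨x, hx⟩ : Ce v) ∈ N := exists_pow2 hk (by rwa [Subgroup.orderOf_mk])
  have h2 : N.map (Ce v).subtype ≤ oc (Ce v) := by
    refine le_oc (map_subtype_le N) ?_ ?_
    · rw [← normal_subgroupOf_iff_le_normalizer (map_subtype_le N), ← comap_subtype,
        comap_map_eq_self_of_injective (Ce v).subtype_injective]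
      infer_instance
    · rw [H28.RelSyl.card_map_subtype]
      exact hodd
  exact h2 ⟨_, h1, rfl⟩

/-- the field `conj` -/
theorem conj (hs : IsSimpleGroup G) (S : Sylow 2 G) {m : ℕ} (hm : 4 ≤ m)
    (hS : Nonempty ((S : Subgroup G) ≃* DihedralGroup m)) {u v : G} (hu : Invol u) (hv : Invol v) :
    ∃ g : G, g * u * g⁻¹ = v := by
  obtain ⟨e⟩ := hS
  obtain ⟨k, hk⟩ := H26.DihFusion.exists_eq_two_pow S (by omega : 2 ≤ m) e
  have hk1 : 1 ≤ k := by
    by_contra hcon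
    have : k = 0 := by omega
    rw [this] at hk
    omega
  have hm2 : m = 2 ^ (k + 1) := by rw [hk]; ring
  subst hm2
  refine Cfsg.Agent.S0107.result S (k + 1) (by omega) ⟨e⟩ ?_ u v (orderOf_invol hu) (orderOf_invol hv)
  have hn : (pResidual 2 G).Normal := inferInstance
  rcases hn.eq_bot_or_eq_top with h | h
  · exfalso
    -- `G` is a 2-group
    have h2 : IsPGroup 2 G := by
      intro x
      obtain ⟨j, r, hr, hor⟩ := Nat.exists_eq_two_pow_mul_odd (orderOf_pos x).ne'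
      refine ⟨j, ?_⟩
      have h3 : x ^ 2 ^ j ∈ pResidual 2 G := by
        apply Subgroup.subset_closure
        show Nat.Coprime (orderOf (x ^ 2 ^ j)) 2
        have h5 : (x ^ 2 ^ j) ^ r = 1 := by
          rw [← pow_mul, ← hor, pow_orderOf_eq_one]
        exact Nat.Coprime.coprime_dvd_left (orderOf_dvd_of_pow_eq_one h5) (Nat.coprime_two_right.2 hr)
      rw [h] at h3
      exact mem_bot.1 h3
    -- its center is nontrivial
    have hnt : Nontrivial G := hs.toNontrivial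
    have : Fact (Nat.Prime 2) := ⟨Nat.prime_two⟩
    have hc := h2.center_nontrivial
    have hcn : (center G).Normal := inferInstance
    have hct : center G = ⊤ := by
      rcases hcn.eq_bot_or_eq_top with h3 | h3
      · rw [h3] at hc
        exact absurd hc (not_nontrivial _)
      · exact h3
    have h3 : e.symm (DihedralGroup.sr 0) * e.symm (DihedralGroup.r 1)
        = e.symm (DihedralGroup.r 1) * e.symm (DihedralGroup.sr 0) := by
      apply Subtype.ext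
      have := mem_center_iff.1 (by rw [hct]; trivial : ((e.symm (DihedralGroup.sr 0) : (S : Subgroup G)) : G) ∈ center G)
        ((e.symm (DihedralGroup.r 1) : (S : Subgroup G)) : G)
      exact this.symm
    rw [← map_mul, ← map_mul] at h3
    have h4 := e.symm.injective h3
    rw [DihedralGroup.sr_mul_r, DihedralGroup.r_mul_sr] at h4
    have h5 : (0 : ZMod (2 ^ (k + 1))) + 1 = 0 - 1 := DihedralGroup.sr.inj h4
    have h6 : ((2 : ℕ) : ZMod (2 ^ (k + 1))) = 0 := by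
      push_cast
      linear_combination h5
    rw [ZMod.natCast_eq_zero_iff] at h6
    have := Nat.le_of_dvd (by norm_num) h6
    omega
  · exact h


theorem index_Ce (hs : IsSimpleGroup G) (S : Sylow 2 G) {m : ℕ} (hm : 4 ≤ m)
    (hS : Nonempty ((S : Subgroup G) ≃* DihedralGroup m)) {v : G} (hv : Invol v) :
    Odd (Ce v).index := by
  have : Fact (Nat.Prime 2) := ⟨Nat.prime_two⟩
  have hSc : Nat.card (S : Subgroup G) = 2 * m := by
    obtain ⟨e⟩ := hS
    rw [Nat.card_congr e.toEquiv, DihedralGroup.nat_card]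
  have hSb : (S : Subgroup G) ≠ ⊥ := by
    intro h
    rw [h, Subgroup.card_bot] at hSc
    omega
  obtain ⟨d, hdS, hdi, hdc⟩ := exists_central S.2 le_rfl le_normalizer hSb
  obtain ⟨g, rfl⟩ := conj hs S hm hS hdi hv
  rw [← cj_Ce, index_cj]
  have h1 : (S : Subgroup G) ≤ Ce d := fun t ht => mem_Ce.2 (hdc t ht).symm
  have h2 : (Ce d).index ∣ (S : Subgroup G).index := Subgroup.index_dvd_of_le h1
  rw [← Nat.not_even_iff_odd, even_iff_two_dvd]
  exact fun h => S.not_dvd_index (h.trans h2)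

theorem isSyl_Ce (hs : IsSimpleGroup G) (S : Sylow 2 G) {m : ℕ} (hm : 4 ≤ m)
    (hS : Nonempty ((S : Subgroup G) ≃* DihedralGroup m)) {v : G} (hv : Invol v) {T : Subgroup G}
    (hT : IsSyl 2 T (Ce v)) : IsSyl 2 T ⊤ ∧ Nat.card T = 2 * m := by
  have : Fact (Nat.Prime 2) := ⟨Nat.prime_two⟩
  have hSc : Nat.card (S : Subgroup G) = 2 * m := by
    obtain ⟨e⟩ := hS
    rw [Nat.card_congr e.toEquiv, DihedralGroup.nat_card]
  have h1 : IsSyl 2 T ⊤ := by
    refine ⟨le_top, hT.isPGroup, fun hd => ?_⟩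
    have h3 : T.relIndex ⊤ = T.relIndex (Ce v) * (Ce v).relIndex ⊤ :=
      (relIndex_mul_relIndex _ _ _ hT.le le_top).symm
    rw [h3] at hd
    rcases (Nat.Prime.dvd_mul Nat.prime_two).1 hd with h | h
    · exact hT.not_dvd h
    · rw [relIndex_top_right] at h
      exact (Nat.not_even_iff_odd.2 (index_Ce hs S hm hS hv)) (even_iff_two_dvd.2 h)
  refine ⟨h1, ?_⟩
  rw [← hSc]
  exact h1.card_eq_card (isSyl_top S)

/-- the field `four` -/
theorem four (hs : IsSimpleGroup G) (S : Sylow 2 G) {m : ℕ} (hm : 4 ≤ m)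
    (hS : Nonempty ((S : Subgroup G) ≃* DihedralGroup m)) {v w : G} (hv : Invol v) (hw : Invol w)
    (hne : v ≠ w) (hc : v * w = w * v) : ∃ g ∈ Ce v, g * w * g⁻¹ = v * w := by
  have : Fact (Nat.Prime 2) := ⟨Nat.prime_two⟩
  have hD : H59.G8.Dh G := H59.G8.Dh.of_sylow S (by omega : 2 ≤ m) hS
  obtain ⟨V, hVp, hV4, hvV, hwV, hV⟩ := exists_V hv hw hne hc
  obtain ⟨T, hT, hVT⟩ := exists_isSyl_ge hVp (V_le hV (mem_self v) (mem_Ce.2 hc))
  obtain ⟨-, hTc⟩ := isSyl_Ce hs S hm hS hv hT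
  have hlt : V < T := by
    refine lt_of_le_of_ne hVT fun h => ?_
    rw [← h, hV4] at hTc
    omega
  obtain ⟨g, hgT, hgN, hgV, n, hgn⟩ := exists_g hT.isPGroup hlt
  have hgC : g ∈ Ce v := hT.le hgT
  exact ⟨g, hgC, swap hD hv hw hne hc hvV hwV hV hgN hgV hgn (mem_Ce.1 hgC).symm⟩

/-- `Base8` from a dihedral Sylow 2-subgroup of order `≥ 8`, given (P1), no strongly embedded
subgroup and the odd order theorem -/
theorem base8 (hs : IsSimpleGroup G) (S : Sylow 2 G) {m : ℕ} (hm : 4 ≤ m)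
    (hS : Nonempty ((S : Subgroup G) ≃* DihedralGroup m))
    (se : ∀ K : Subgroup G, K ≠ ⊤ → (∃ w ∈ K, Invol w) → ¬ ∀ w ∈ K, Invol w → Ce w ≤ K)
    (p1 : ∀ N : Subgroup G, N ≠ ⊤ → ∀ v ∈ N, Invol v → ∀ T : Subgroup G, T ≤ N → Odd (Nat.card T) →
      N ⊓ Ce v ≤ normalizer (T : Set G) → ∀ a ∈ T, Inv v a → a ∈ oc N)
    (odd : ∀ K : Subgroup G, Odd (Nat.card K) → Group.IsSolvable K) : Base8 G where
  simple := hs
  inv := by
    have : Fact (Nat.Prime 2) := ⟨Nat.prime_two⟩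
    have hSc : Nat.card (S : Subgroup G) = 2 * m := by
      obtain ⟨e⟩ := hS
      rw [Nat.card_congr e.toEquiv, DihedralGroup.nat_card]
    have hSb : (S : Subgroup G) ≠ ⊥ := by
      intro h
      rw [h, Subgroup.card_bot] at hSc
      omega
    obtain ⟨d, -, hdi, -⟩ := exists_central S.2 le_rfl le_normalizer hSb
    exact ⟨d, hdi⟩
  conj _ _ hu hv := conj hs S hm hS hu hv
  nilp _ hv _ hx ho := nilp S (by omega : 2 ≤ m) hS hv hx ho
  idx _ hv := index_Ce hs S hm hS hv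
  four _ _ hv hw hne hc := four hs S hm hS hv hw hne hc
  ker4 _ _ hz hs' hne hzs _ _ hzM hsM hC hn hd :=
    ker4 (H59.G8.Dh.of_sylow S (by omega : 2 ≤ m) hS) hz hs' hne hzs hzM hsM hC hn hd
  loc _ _ hz hs' hne hzs _ hle _ hx hx1 ho hI hsx _ hk hkx :=
    loc (H59.G8.Dh.of_sylow S (by omega : 2 ≤ m) hS) hz hs' hne hzs hle hx hx1 ho hI hsx hk hkx
  se := se
  p1 := p1
  zj p hp hp2 _ hK hch _ hx _ hgx hxp := by
    have : Fact p.Prime := ⟨hp⟩
    exact H39.G8Z.zj (H59.G8.Dh.of_sylow S (by omega : 2 ≤ m) hS) hs hp2 hK hch hx hgx hxp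
  odd := odd

end H39.G8F
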