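import Cfsg.Agent.Lib.H51.PuElem
import Cfsg.Agent.Lib.H52.PuCrit

/-!
Rank one pushing up, the case `b = 1`: if some `n` normalising `S` satisfies `V ≰ Q^n`, then `S` has class two and
exponent `p` (`p` odd) or dividing `4` (`p = 2`).
-/

set_option autoImplicit false

open Cfsg Subgroup H28.Cj H28.RelSyl H52.PU
open scoped commutatorElement

namespace H39.PuOne

variable {X : Type*} [Group X]

theorem pow_comm_class {a b c : X} (hc : b * a = c * (a * b)) (_ha : Commute c a) (hb : Commute c b) (n : ℕ) :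
    b ^ n * a = c ^ n * (a * b ^ n) := by
  induction n with
  | zero => simp
  | succ n ih =>
    rw [pow_succ' b, mul_assoc, ih]
    calc b * (c ^ n * (a * b ^ n)) = (b * c ^ n) * a * b ^ n := by simp only [mul_assoc]
      _ = (c ^ n * b) * a * b ^ n := by rw [((hb.pow_left n).eq)]
      _ = c ^ n * (b * a) * b ^ n := by simp only [mul_assoc]
      _ = c ^ n * (c * (a * b)) * b ^ n := by rw [hc]
      _ = c ^ (n + 1) * (a * (b * b ^ n)) := by rw [pow_succ]; simp only [mul_assoc]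

/-- powers of a product in class two -/
theorem mul_pow_class {a b c : X} (hc : b * a = c * (a * b)) (ha : Commute c a) (hb : Commute c b) (n : ℕ) :
    (a * b) ^ n = c ^ (n.choose 2) * (a ^ n * b ^ n) := by
  induction n with
  | zero => simp
  | succ n ih =>
    rw [pow_succ, ih]
    calc c ^ (n.choose 2) * (a ^ n * b ^ n) * (a * b)
        = c ^ (n.choose 2) * a ^ n * (b ^ n * a) * b := by simp only [mul_assoc]
      _ = c ^ (n.choose 2) * a ^ n * (c ^ n * (a * b ^ n)) * b := by rw [pow_comm_class hc ha hb n]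
      _ = c ^ (n.choose 2) * (a ^ n * c ^ n) * a * (b ^ n * b) := by simp only [mul_assoc]
      _ = c ^ (n.choose 2) * (c ^ n * a ^ n) * a * (b ^ n * b) := by
          rw [((ha.pow_left n).pow_right n).eq]
      _ = (c ^ (n.choose 2) * c ^ n) * ((a ^ n * a) * (b ^ n * b)) := by simp only [mul_assoc]
      _ = c ^ ((n + 1).choose 2) * (a ^ (n + 1) * b ^ (n + 1)) := by
          rw [← pow_add, ← pow_succ, ← pow_succ]
          congr 2
          rw [Nat.choose_succ_succ' n 1, Nat.choose_one_right, add_comm]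

section

variable {p : ℕ} [Finite X] [hp : Fact p.Prime] {G S G' : Subgroup X}

/-- the decomposition `S = V' V (Q ∩ Q')` -/
theorem exists_dec (c : Cr p G S G' S) {s : X} (hs : s ∈ S) :
    ∃ w ∈ Vf p G', ∃ v ∈ Vf p G, ∃ b, b ∈ Qf p G ∧ b ∈ Qf p G' ∧ s = w * v * b := by
  have hs1 : s ∈ Vf p G' ⊔ Qf p G := by rw [c.sup_eq']; exact hs
  obtain ⟨w, hw, u, hu, rfl⟩ :=
    (mem_sup_iff_of_le_normalizer (c.hβ.trans c.sα.S_norm_Q)).mp hs1
  have hu1 : u ∈ Vf p G ⊔ Qf p G' := by rw [c.sup_eq]; exact c.sα.Q_le hu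
  obtain ⟨v, hv, b, hb, rfl⟩ :=
    (mem_sup_iff_of_le_normalizer (c.hα.trans c.sβ.S_norm_Q)).mp hu1
  refine ⟨w, hw, v, hv, b, ?_, hb, by simp only [mul_assoc]⟩
  have := mul_mem (inv_mem (c.sα.V_le hv)) hu
  simpa using this

theorem comm_eq_Z (c : Cr p G S G' S) {v w : X} (hv : v ∈ Vf p G) (hw : w ∈ Vf p G') :
    ∃ r ∈ Zf S, v * w = r * (w * v) := by
  refine ⟨⁅v, w⁆, c.comm_le_Z (commutator_mem_commutator hv hw), ?_⟩
  rw [commutatorElement_def]; group

theorem Zf_commute {z s : X} (hz : z ∈ Zf S) (hs : s ∈ S) : Commute z s :=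
  (mem_centralizer_iff.mp (Zf_cent S hz) s hs).symm

/-- commutators of `S` are central times commutators of `Q ∩ Q'` -/
theorem comm_dec (c : Cr p G S G' S) {s t : X} (hs : s ∈ S) (ht : t ∈ S) :
    ∃ z ∈ Zf S, ∃ b ∈ (Qf p G ⊓ Qf p G' : Subgroup X), ∃ d ∈ (Qf p G ⊓ Qf p G' : Subgroup X),
      ⁅s, t⁆ = z * ⁅b, d⁆ := by
  obtain ⟨w, hw, v, hv, b, hb, hb', rfl⟩ := exists_dec c hs
  obtain ⟨w', hw', v', hv', d, hd, hd', rfl⟩ := exists_dec c ht
  obtain ⟨r, hr, er⟩ := comm_eq_Z c hv hw'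
  obtain ⟨r', hr', er'⟩ := comm_eq_Z c hv' hw
  have hwS : w ∈ S := c.hβ hw
  have hwS' : w' ∈ S := c.hβ hw'
  have hvS : v ∈ S := c.hα hv
  have hvS' : v' ∈ S := c.hα hv'
  have cbv : Commute v b := commute_of_le_centralizer c.sα.Q_cent hb hv
  have cbv' : Commute v' b := commute_of_le_centralizer c.sα.Q_cent hb hv'
  have cdv : Commute v d := commute_of_le_centralizer c.sα.Q_cent hd hv
  have cdv' : Commute v' d := commute_of_le_centralizer c.sα.Q_cent hd hv'
  have cbw : Commute w b := commute_of_le_centralizer c.sβ.Q_cent hb' hw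
  have cbw' : Commute w' b := commute_of_le_centralizer c.sβ.Q_cent hb' hw'
  have cdw : Commute w d := commute_of_le_centralizer c.sβ.Q_cent hd' hw
  have cdw' : Commute w' d := commute_of_le_centralizer c.sβ.Q_cent hd' hw'
  have cvv : Commute v v' := c.sα.V_comm hv hv'
  have cww : Commute w w' := c.sβ.V_comm hw hw'
  have zr := fun {s : X} (hs : s ∈ S) => Zf_commute (S := S) hr hs
  have zr' := fun {s : X} (hs : s ∈ S) => Zf_commute (S := S) hr' hs
  refine ⟨r * r'⁻¹, mul_mem hr (inv_mem hr'), b, ⟨hb, hb'⟩, d, ⟨hd, hd'⟩, ?_⟩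
  -- ⁅w v b, w' v' d⁆ = ⁅w v, w' v'⁆ ⁅b, d⁆
  have e1 : (w * v) * (w' * v') = r * (w * w' * v * v') := by
    calc (w * v) * (w' * v') = w * (v * w') * v' := by simp only [mul_assoc]
      _ = w * (r * (w' * v)) * v' := by rw [er]
      _ = (w * r) * (w' * v) * v' := by simp only [mul_assoc]
      _ = (r * w) * (w' * v) * v' := by rw [(zr hwS).eq]
      _ = r * (w * w' * v * v') := by simp only [mul_assoc]
  have e2 : (w' * v') * (w * v) = r' * (w * w' * v * v') := by
    calc (w' * v') * (w * v) = w' * (v' * w) * v := by simp only [mul_assoc]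
      _ = w' * (r' * (w * v')) * v := by rw [er']
      _ = (w' * r') * (w * v') * v := by simp only [mul_assoc]
      _ = (r' * w') * (w * v') * v := by rw [(zr' hwS').eq]
      _ = r' * ((w' * w) * (v' * v)) := by simp only [mul_assoc]
      _ = r' * ((w * w') * (v * v')) := by rw [cww.symm.eq, cvv.symm.eq]
      _ = r' * (w * w' * v * v') := by simp only [mul_assoc]
  have e3 : (w * v) * (w' * v') = (r * r'⁻¹) * ((w' * v') * (w * v)) := by
    rw [e1, e2]; group
  have cb : Commute (w' * v') b := cbw'.mul_left cbv'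
  have cd : Commute (w * v) d := cdw.mul_left cdv
  have cb2 : Commute (w * v) b := cbw.mul_left cbv
  have cd2 : Commute (w' * v') d := cdw'.mul_left cdv'
  set x := w * v with hx
  set y := w' * v' with hy
  rw [commutatorElement_def, commutatorElement_def]
  rw [mul_inv_eq_iff_eq_mul, mul_inv_eq_iff_eq_mul]
  have e4 : x * b * (y * d) = (x * y) * (b * d) := by
    calc x * b * (y * d) = x * (b * y) * d := by simp only [mul_assoc]
      _ = x * (y * b) * d := by rw [cb.eq]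
      _ = (x * y) * (b * d) := by simp only [mul_assoc]
  have e5 : y * d * (x * b) = (y * x) * (d * b) := by
    calc y * d * (x * b) = y * (d * x) * b := by simp only [mul_assoc]
      _ = y * (x * d) * b := by rw [cd.eq]
      _ = (y * x) * (d * b) := by simp only [mul_assoc]
  have cyx_b : Commute (y * x) b := cb.mul_left cb2
  have cyx_d : Commute (y * x) d := cd2.mul_left cd
  calc x * b * (y * d) = (r * r'⁻¹) * (y * x) * (b * d) := by rw [e4, e3]
    _ = (r * r'⁻¹) * ((y * x) * (b * d * b⁻¹ * d⁻¹)) * (d * b) := by group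
    _ = (r * r'⁻¹) * ((b * d * b⁻¹ * d⁻¹) * (y * x)) * (d * b) := by
        rw [(((cyx_b.mul_right cyx_d).mul_right cyx_b.inv_right).mul_right cyx_d.inv_right).eq]
    _ = (r * r'⁻¹) * (b * d * b⁻¹ * d⁻¹) * ((y * x) * (d * b)) := by simp only [mul_assoc]
    _ = (r * r'⁻¹) * (b * d * b⁻¹ * d⁻¹) * (y * d * (x * b)) := by rw [e5]
    _ = (r * r'⁻¹) * (b * d * b⁻¹ * d⁻¹) * (y * d) * (x * b) := by simp only [mul_assoc]

theorem gamma_three (c : Cr p G S G' S) : ⁅⁅S, S⁆, S⁆ = ⁅⁅Qf p G, Qf p G⁆, Qf p G⁆ := by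
  refine le_antisymm ?_ (commutator_mono (commutator_mono c.sα.Q_le c.sα.Q_le) c.sα.Q_le)
  set B : Subgroup X := Qf p G ⊓ Qf p G' with hB
  have h1 : ⁅S, S⁆ ≤ Zf S ⊔ ⁅B, B⁆ := by
    rw [commutator_le]
    intro s hs t ht
    obtain ⟨z, hz, b, hb, d, hd, e⟩ := comm_dec c hs ht
    rw [e]
    exact mul_mem (mem_sup_left hz) (mem_sup_right (commutator_mem_commutator hb hd))
  have hBB : ⁅B, B⁆ ≤ B := commutator_le_self B
  have hZc : Zf S ≤ centralizer ((⁅B, B⁆ : Subgroup X) : Set X) := by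
    intro z hz
    rw [mem_centralizer_iff]
    intro y hy
    exact (mem_centralizer_iff.mp (Zf_cent S hz) y (c.sα.Q_le (hBB hy).1))
  have h2 : ⁅S, S⁆ ≤ Zf S ⊔ ⁅B, B⁆ := h1
  rw [commutator_le]
  intro x hx t ht
  have hx1 := h1 hx
  rw [mem_sup_iff_of_le_normalizer (hZc.trans (centralizer_le_normalizer _))] at hx1
  obtain ⟨z, hz, y, hy, rfl⟩ := hx1
  have hyB := hBB hy
  obtain ⟨w, hw, v, hv, b, hb, hb', rfl⟩ := exists_dec c ht
  have hyw : Commute y w := (commute_of_le_centralizer c.sβ.Q_cent hyB.2 hw).symm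
  have hyv : Commute y v := (commute_of_le_centralizer c.sα.Q_cent hyB.1 hv).symm
  have hzt : Commute z (w * v * b) := Zf_commute hz ht
  have hzy : Commute z y := Zf_commute hz (c.sα.Q_le hyB.1)
  have hyb : ⁅y, b⁆ ∈ ⁅⁅Qf p G, Qf p G⁆, Qf p G⁆ :=
    commutator_mem_commutator (commutator_mono inf_le_left inf_le_left hy) hb
  -- ⁅z y, t⁆ = ⁅y, t⁆, and ⁅y, w v b⁆ = (w v) ⁅y, b⁆ (w v)⁻¹ = ⁅y, b⁆
  have e1 : ⁅z * y, w * v * b⁆ = ⁅y, w * v * b⁆ := by
    rw [commutatorElement_def, commutatorElement_def, mul_inv_rev]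
    calc z * y * (w * v * b) * (y⁻¹ * z⁻¹) * (w * v * b)⁻¹
        = z * (y * (w * v * b) * y⁻¹) * (z⁻¹ * (w * v * b)⁻¹) := by simp only [mul_assoc]
      _ = (y * (w * v * b) * y⁻¹) * z * (z⁻¹ * (w * v * b)⁻¹) := by
          rw [((hzy.mul_right hzt).mul_right hzy.inv_right).eq]
      _ = y * (w * v * b) * y⁻¹ * (w * v * b)⁻¹ := by group
  rw [e1]
  have hbB : ⁅y, b⁆ ∈ Qf p G ⊓ Qf p G' := by
    rw [commutatorElement_def]
    exact mul_mem (mul_mem (mul_mem hyB ⟨hb, hb'⟩) (inv_mem hyB)) (inv_mem ⟨hb, hb'⟩)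
  have cw : Commute w ⁅y, b⁆ := commute_of_le_centralizer c.sβ.Q_cent hbB.2 hw
  have cv : Commute v ⁅y, b⁆ := commute_of_le_centralizer c.sα.Q_cent hbB.1 hv
  have cwv : Commute (w * v) ⁅y, b⁆ := cw.mul_left cv
  have cy : Commute y (w * v) := hyw.mul_right hyv
  have e2 : ⁅y, w * v * b⁆ = ⁅y, b⁆ := by
    have e3 : ⁅y, w * v * b⁆ = (w * v) * ⁅y, b⁆ * (w * v)⁻¹ := by
      rw [commutatorElement_def, commutatorElement_def, mul_inv_rev]
      calc y * (w * v * b) * y⁻¹ * (b⁻¹ * (w * v)⁻¹)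
          = (y * (w * v)) * (b * y⁻¹ * b⁻¹) * (w * v)⁻¹ := by simp only [mul_assoc]
        _ = ((w * v) * y) * (b * y⁻¹ * b⁻¹) * (w * v)⁻¹ := by rw [cy.eq]
        _ = (w * v) * (y * b * y⁻¹ * b⁻¹) * (w * v)⁻¹ := by simp only [mul_assoc]
    rw [e3, cwv.eq, mul_inv_cancel_right]
  rw [e2]
  exact hyb

end

/-- the subgroup generated by `n`-th powers -/
def PwC (n : ℕ) (H : Subgroup X) : Subgroup X := closure {x | ∃ h ∈ H, x = h ^ n}

theorem PwC_mono {n : ℕ} {H K : Subgroup X} (h : H ≤ K) : PwC n H ≤ PwC n K :=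
  closure_mono fun _ ⟨y, hy, e⟩ => ⟨y, h hy, e⟩

theorem PwC_le {n : ℕ} {H : Subgroup X} : PwC n H ≤ H := by
  rw [PwC, closure_le]
  rintro _ ⟨y, hy, rfl⟩
  exact H.pow_mem hy n

theorem normalizer_le_PwC {n : ℕ} {H : Subgroup X} :
    normalizer (H : Set X) ≤ normalizer (PwC n H : Set X) := by
  apply le_normalizer_of_conj_mem
  intro g hg x hx
  refine closure_induction (p := fun x _ => g * x * g⁻¹ ∈ PwC n H) ?_ ?_ ?_ ?_ hx
  · rintro _ ⟨y, hy, rfl⟩
    refine subset_closure ⟨g * y * g⁻¹, ?_, conj_pow.symm⟩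
    exact (mem_normalizer_iff.mp hg y).mp hy
  · simp
  · intro a b _ _ ha hb
    have : g * (a * b) * g⁻¹ = (g * a * g⁻¹) * (g * b * g⁻¹) := by group
    rw [this]; exact mul_mem ha hb
  · intro a _ ha
    have : g * a⁻¹ * g⁻¹ = (g * a * g⁻¹)⁻¹ := by group
    rw [this]; exact inv_mem ha

theorem normalizer_le_comm {H K N : Subgroup X} (h1 : N ≤ normalizer (H : Set X)) (h2 : N ≤ normalizer (K : Set X)) :
    N ≤ normalizer ((⁅H, K⁆ : Subgroup X) : Set X) := by
  intro g hg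
  rw [mem_normalizer_iff_cj, cj_commutator, mem_normalizer_iff_cj.mp (h1 hg),
    mem_normalizer_iff_cj.mp (h2 hg)]

variable {p : ℕ} [Finite X] [hp : Fact p.Prime] {G S : Subgroup X}

/-- **the case `b = 1`** -/
theorem b_one (h : Setup p G S) {n : X} (hn : n ∈ normalizer (S : Set X))
    (hV : ¬ Vf p G ≤ cj n (Qf p G)) :
    ⁅⁅S, S⁆, S⁆ = ⊥ ∧ ¬ ⁅S, S⁆ = ⊥ ∧ (p ≠ 2 → ∀ s ∈ S, s ^ p = 1) ∧ (p = 2 → ∀ s ∈ S, s ^ 4 = 1) := by
  have hS : cj n S = S := mem_normalizer_iff_cj.mp hn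
  have c : Cr p G S (cj n G) S := by
    refine Inc.cr h (Inc.refl G S) ⟨n, rfl, hS.symm⟩ h.V_le_S ?_ ?_
    · rw [← cj_Vf]
      calc cj n (Vf p G) ≤ cj n S := cj_le_cj.mpr h.V_le_S
        _ = S := hS
    · rwa [← cj_Qf]
  have hVS : ∀ v ∈ Vf p G, ∀ s ∈ S, v * s * v⁻¹ * s⁻¹ ∈ Zf S := by
    intro v hv s hs
    have h1 : ⁅v, s⁆ ∈ ⁅Vf p G, S⁆ := commutator_mem_commutator hv hs
    rw [c.comm_eq] at h1
    have := c.comm_le_Z h1
    rwa [commutatorElement_def] at this
  have hVp := H51.PuElem.V_pow h hVS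
  have hVp' : ∀ w ∈ Vf p (cj n G), w ^ p = 1 := by
    intro w hw
    rw [← cj_Vf, mem_cj] at hw
    have h2 := hVp _ hw
    have h3 : w = n * (n⁻¹ * w * n) * n⁻¹ := by group
    rw [h3, conj_pow, h2]
    simp
  have hNG : G ≤ normalizer (Qf p G : Set X) := le_normalizer_Qf G
  refine ⟨?_, ?_, ?_, ?_⟩
  · -- class at most two
    refine h.push _ ?_ ?_ ?_
    · exact (commutator_mono (commutator_le_self S) le_rfl).trans (commutator_le_self S)
    · rw [gamma_three c]
      exact normalizer_le_comm (normalizer_le_comm hNG hNG) hNG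
    · exact normalizer_le_comm (normalizer_le_comm le_rfl le_rfl) le_rfl
  · intro h0
    refine h.V_not_le_Z fun v hv => ⟨h.V_le_S hv, mem_centralizer_iff.mpr fun s hs => ?_⟩
    have h1 : ⁅v, s⁆ ∈ ⁅S, S⁆ := commutator_mem_commutator (h.V_le_S hv) hs
    rw [h0, mem_bot, commutatorElement_eq_one_iff_mul_comm] at h1
    exact h1.symm
  · -- p odd
    intro hp2 s hs
    have hpow : ∀ s ∈ S, ∃ b ∈ Qf p G, s ^ p = b ^ p := by
      intro s hs
      obtain ⟨w, hw, v, hv, b, hb, hb', rfl⟩ := exists_dec c hs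
      obtain ⟨r, hr, er⟩ := comm_eq_Z c hv hw
      have crw : Commute r w := Zf_commute hr (c.hβ hw)
      have crv : Commute r v := Zf_commute hr (c.hα hv)
      have cbv : Commute v b := commute_of_le_centralizer c.sα.Q_cent hb hv
      have cbw : Commute w b := commute_of_le_centralizer c.sβ.Q_cent hb' hw
      have hrp : r ^ p = 1 := by
        have h4 := pow_comm_class er crw crv p
        rw [hVp v hv, one_mul, mul_one] at h4
        exact (mul_eq_right.mp h4.symm)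
      refine ⟨b, hb, ?_⟩
      rw [(show Commute (w * v) b from cbw.mul_left cbv).mul_pow, mul_pow_class er crw crv p, hVp v hv,
        hVp' w hw, mul_one, mul_one]
      have hd : p ∣ p.choose 2 :=
        hp.out.dvd_choose_self two_ne_zero (lt_of_le_of_ne hp.out.two_le (Ne.symm hp2))
      obtain ⟨k, hk⟩ := hd
      rw [hk, pow_mul, hrp, one_pow, one_mul]
    have hE : PwC p S = PwC p (Qf p G) := by
      refine le_antisymm ?_ (PwC_mono h.Q_le)
      rw [PwC, closure_le]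
      rintro _ ⟨y, hy, rfl⟩
      obtain ⟨b, hb, e⟩ := hpow y hy
      rw [e]
      exact subset_closure ⟨b, hb, rfl⟩
    have hb : PwC p S = ⊥ := by
      refine h.push _ PwC_le ?_ normalizer_le_PwC
      rw [hE]
      exact hNG.trans normalizer_le_PwC
    have : s ^ p ∈ PwC p S := subset_closure ⟨s, hs, rfl⟩
    rwa [hb, mem_bot] at this
  · -- p = 2
    intro hp2 s hs
    have hpow : ∀ s ∈ S, ∃ b ∈ Qf p G, s ^ 4 = b ^ 4 := by
      intro s hs
      obtain ⟨w, hw, v, hv, b, hb, hb', rfl⟩ := exists_dec c hs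
      obtain ⟨r, hr, er⟩ := comm_eq_Z c hv hw
      have crw : Commute r w := Zf_commute hr (c.hβ hw)
      have crv : Commute r v := Zf_commute hr (c.hα hv)
      have cbv : Commute v b := commute_of_le_centralizer c.sα.Q_cent hb hv
      have cbw : Commute w b := commute_of_le_centralizer c.sβ.Q_cent hb' hw
      have hv2 : v ^ 2 = 1 := by have := hVp v hv; rwa [hp2] at this
      have hw2 : w ^ 2 = 1 := by have := hVp' w hw; rwa [hp2] at this
      have hrp : r ^ 2 = 1 := by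
        have h4 := pow_comm_class er crw crv 2
        rw [hv2, one_mul, mul_one] at h4
        exact (mul_eq_right.mp h4.symm)
      refine ⟨b, hb, ?_⟩
      rw [(show Commute (w * v) b from cbw.mul_left cbv).mul_pow, mul_pow_class er crw crv 4]
      have e1 : w ^ 4 = 1 := by rw [show 4 = 2 * 2 from rfl, pow_mul, hw2, one_pow]
      have e2 : v ^ 4 = 1 := by rw [show 4 = 2 * 2 from rfl, pow_mul, hv2, one_pow]
      have e3 : r ^ (Nat.choose 4 2) = 1 := by
        rw [show Nat.choose 4 2 = 2 * 3 from rfl, pow_mul, hrp, one_pow]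
      rw [e1, e2, e3, mul_one, mul_one, one_mul]
    have hE : PwC 4 S = PwC 4 (Qf p G) := by
      refine le_antisymm ?_ (PwC_mono h.Q_le)
      rw [PwC, closure_le]
      rintro _ ⟨y, hy, rfl⟩
      obtain ⟨b, hb, e⟩ := hpow y hy
      rw [e]
      exact subset_closure ⟨b, hb, rfl⟩
    have hb : PwC 4 S = ⊥ := by
      refine h.push _ PwC_le ?_ normalizer_le_PwC
      rw [hE]
      exact hNG.trans normalizer_le_PwC
    have : s ^ 4 ∈ PwC 4 S := subset_closure ⟨s, hs, rfl⟩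
    rwa [hb, mem_bot] at this

end H39.PuOne
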