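import Cfsg.Agent.Lib.H53.PU17
import Cfsg.Agent.Lib.H51.PuB2c
import Cfsg.Agent.Lib.H52.PuMap

/-!
Rank one pushing up: the torus element in the ambient group, for `p ≥ 5`.
-/

set_option autoImplicit false

open Cfsg Subgroup Matrix H28.Cj H28.RelSyl H52.PU H53.PU
open scoped MatrixGroups commutatorElement

namespace H39.PuTor

variable {p : ℕ} [hp : Fact p.Prime] {G : Type*} [Group G] [Finite G] {F : Type*} [Field F] [Finite F]
  {S M : Subgroup G} {π : G →* ProjectiveSpecialLinearGroup (Fin 2) F} {X : Type*} [Group X] [Finite X]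

theorem map_comap_of_le {i : G →* X} {U : Subgroup X} (h : U ≤ i.range) : (U.comap i).map i = U := by
  rw [Subgroup.map_comap_eq, inf_eq_right.mpr h]

theorem torus_of (h : PSit p S M π) (hp5 : 5 ≤ p) {ρ : G →* SL(2, F)} {ψ : PSit.VS S → (Fin 2 → F)}
    (hff : FFG p F S (pCore p G) ρ ψ) (hρ : ∀ g, pj F (ρ g) = π g)
    (hψ : ∀ v : PSit.VS S, (v : G) ∈ PSit.ZS S ↔ ψ v 1 = 0) (hS : IsSyl p S ⊤) (i : G →* X)
    (hi : Function.Injective i) :
    ∃ (t : X) (l m : ℕ), H51.PuB2.Torus p i.range (S.map i) t l m := by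
  have hcF := h.hcF
  have h2 : ((2 : ℕ) : F) ≠ 0 := by
    intro h0
    rw [CharP.cast_eq_zero_iff F p] at h0
    have := Nat.le_of_dvd (by norm_num) h0
    omega
  have hodd : p % 2 = 1 := by
    rcases hp.out.eq_two_or_odd with h3 | h3
    · omega
    · exact h3
  obtain ⟨g, hgN, hgd, hgS, hgZ⟩ := h.torus hff hρ hψ 2 h2
  have hq : 3 < Nat.card F := by
    have : Fintype F := Fintype.ofFinite F
    obtain ⟨n, hn, e⟩ := FiniteField.card F p
    rw [Nat.card_eq_fintype_card, e]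
    have h3 : p ∣ p ^ (n : ℕ) := dvd_pow_self _ n.ne_zero
    have := Nat.le_of_dvd (pow_pos hp.out.pos _) h3
    omega
  have hm : (((p + 1) / 2 : ℕ) : F) * ((2 : ℕ) : F) = 1 := by
    rw [← Nat.cast_mul]
    have e : (p + 1) / 2 * 2 = p + 1 := by omega
    rw [e, Nat.cast_add, CharP.cast_eq_zero, zero_add, Nat.cast_one]
  have hlm : 2 * ((p + 1) / 2) = p + 1 := by omega
  refine ⟨i g, 2, (p + 1) / 2, ⟨⟨g, rfl⟩, ?_, ?_, ?_, ?_, ?_, ?_⟩⟩
  · rw [mem_normalizer_iff_cj, ← map_cj, mem_normalizer_iff_cj.mp hgN]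
  · rw [hlm, Nat.ModEq]
    simp
  · intro h3
    have h4 : p ∣ 4 - 1 := (Nat.modEq_iff_dvd' (by norm_num)).mp h3.symm
    have := Nat.le_of_dvd (by norm_num) h4
    omega
  · rintro _ ⟨s, hs, rfl⟩
    rw [Qf_range i hi]
    exact ⟨_, hgS s hs, by simp⟩
  · intro v hv
    rw [Zf_map i hi] at hv
    obtain ⟨z, hz, rfl⟩ := hv
    have h3 := hgZ z hz
    have e : i g * i z * (i g)⁻¹ * (i z ^ 2)⁻¹ = i (g * z * g⁻¹ * (z ^ 2)⁻¹) := by simp
    rw [e, mem_centralizer_range i hi]
    exact h3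
  · intro U C hUQ hUn hVU hUQV hC hle u hu
    have hQr : Qf p i.range ≤ i.range := Qf_le _
    have hUr : U ≤ i.range := hUQ.trans hQr
    have hUm := map_comap_of_le hUr
    have hCU : C ≤ U := fun x hx => ((hC x).mp hx).1
    have hCm := map_comap_of_le (hCU.trans hUr)
    have hVm : Vf p i.range = (PSit.VS S).map i := Vf_range i hi hS
    have hQm : Qf p i.range = (pCore p G).map i := Qf_range i hi
    have hUn' : (U.comap i).Normal := by
      refine ⟨fun x hx y => ?_⟩
      rw [mem_comap] at hx ⊢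
      rw [map_mul, map_mul, map_inv]
      exact conj_mem_of_le_normalizer hUn ⟨y, rfl⟩ hx
    have key := h.section_weight hq hρ (U := U.comap i) (W := PSit.VS S) (C := C.comap i)
      (by rw [← map_le_map_iff_of_injective hi, hUm, ← hVm]; exact hVU)
      (by rw [← map_le_map_iff_of_injective hi, hUm, ← hQm]; exact hUQ)
      (by rw [← map_le_map_iff_of_injective hi, map_commutator, hUm, ← hQm, ← hVm]; exact hUQV)
      (comap_mono hCU)
      (by
        rw [← map_le_map_iff_of_injective hi, map_commutator, hCm, ← hVm, commutator_le]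
        rintro c hc _ ⟨s, hs, rfl⟩
        exact ((hC c).mp hc).2 _ ⟨s, hs, rfl⟩)
      (by
        rw [← relIndex_map_map_of_injective _ _ hi, ← relIndex_map_map_of_injective (pCore p G) S hi, hCm, hUm,
          ← hQm]
        exact hle) h2 hgd hm
    obtain ⟨y, rfl⟩ := hUr hu
    have hn := conj_mem_of_le_normalizer hUn (⟨g, rfl⟩ : i g ∈ i.range) hu
    rw [hC]
    refine ⟨mul_mem hn (inv_mem (pow_mem hu _)), ?_⟩
    rintro _ ⟨s, hs, rfl⟩
    rw [hVm]
    exact ⟨_, key y hu s hs, by simp [commutatorElement_def]⟩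

end H39.PuTor
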