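import Cfsg.Agent.Lib.H52.PmDefs
import Cfsg.Agent.Lib.H52.PuSetup
import Cfsg.Agent.Lib.H39.PuTor
import Cfsg.Agent.Lib.H39.PuOne

/-!
Rank one pushing up: the push-free local data `Loc` of a group from helper53's situation `PSit`, and torus elements.
-/

set_option autoImplicit false

open Cfsg Subgroup Matrix H28.Cj H28.RelSyl H52.PU H53.PU H85.SL2
open scoped MatrixGroups commutatorElement

namespace H39.PmOne

variable {p : ℕ} [hp : Fact p.Prime] {G : Type*} [Group G] [Finite G] {F : Type*} [Field F] [Finite F]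
  {S M : Subgroup G} {π : G →* ProjectiveSpecialLinearGroup (Fin 2) F}

omit [Finite F] in
theorem up_mulVec (a : F) (w : Fin 2 → F) : (up a).1.mulVec w = ![w 0 + a * w 1, w 1] := by
  ext i
  fin_cases i <;> simp [Matrix.mulVec, dotProduct, Fin.sum_univ_two]

section

variable {ρ : G →* SL(2, F)} {ψ : PSit.VS S → (Fin 2 → F)} (hff : FFG p F S (pCore p G) ρ ψ)

include hff

omit hp [Finite G] [Finite F] in
theorem psi_inv (v : PSit.VS S) : ψ v⁻¹ = -ψ v := by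
  have h3 := hff.pmul v v⁻¹
  rw [mul_inv_cancel, hff.pone] at h3
  exact (neg_eq_of_add_eq_zero_right h3.symm).symm

omit hp [Finite G] [Finite F] in
/-- the vector of a commutator `g v g⁻¹ v⁻¹` -/
theorem psi_comm (g : G) (v w : PSit.VS S) (hw : (w : G) = g * v * g⁻¹ * (v : G)⁻¹) :
    ψ w = (ρ g).1.mulVec (ψ v) - ψ v := by
  have hVn : (PSit.VS S).Normal := inferInstance
  have h1 := hff.pact g v ⟨g * v * g⁻¹, hVn.conj_mem v v.2 g⟩ rfl
  have h2 : w = ⟨g * v * g⁻¹, hVn.conj_mem v v.2 g⟩ * v⁻¹ := Subtype.ext hw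
  rw [h2, hff.pmul, psi_inv hff, h1, sub_eq_add_neg]

end

omit [Finite F] in
/-- `[V, S] ≤ Z(S)` -/
theorem quad (h : PSit p S M π) {ρ : G →* SL(2, F)} {ψ : PSit.VS S → (Fin 2 → F)}
    (hff : FFG p F S (pCore p G) ρ ψ) (hρ : ∀ g, pj F (ρ g) = π g)
    (hψ : ∀ v : PSit.VS S, (v : G) ∈ PSit.ZS S ↔ ψ v 1 = 0) : ⁅PSit.VS S, S⁆ ≤ PSit.ZS S := by
  have hVn : (PSit.VS S).Normal := inferInstance
  rw [commutator_le]
  intro v hv s hs
  obtain ⟨a, ha⟩ := h.rho_S hρ s hs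
  have hw : s * v * s⁻¹ * v⁻¹ ∈ PSit.VS S := mul_mem (hVn.conj_mem v hv s) (inv_mem hv)
  have h1 := psi_comm hff s ⟨v, hv⟩ ⟨s * v * s⁻¹ * v⁻¹, hw⟩ rfl
  have h2 : s * v * s⁻¹ * v⁻¹ ∈ PSit.ZS S := by
    refine (hψ ⟨_, hw⟩).mpr ?_
    rw [h1, ha, up_mulVec]
    simp
  have h3 : ⁅v, s⁆ = (s * v * s⁻¹ * v⁻¹)⁻¹ := by rw [commutatorElement_def]; group
  rw [h3]
  exact inv_mem h2

/-- `Z(S) = [V, S] (Z(S) ∩ Z(G))` -/
theorem exists_comm (h : PSit p S M π) {ρ : G →* SL(2, F)} {ψ : PSit.VS S → (Fin 2 → F)}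
    (hff : FFG p F S (pCore p G) ρ ψ) (hρ : ∀ g, pj F (ρ g) = π g)
    (hψ : ∀ v : PSit.VS S, (v : G) ∈ PSit.ZS S ↔ ψ v 1 = 0) {z : G} (hz : z ∈ PSit.ZS S) :
    ∃ y ∈ ⁅PSit.VS S, S⁆, y ∈ PSit.ZS S ∧ y⁻¹ * z ∈ center G := by
  have hVn : (PSit.VS S).Normal := inferInstance
  have hzV : z ∈ PSit.VS S := PSit.ZS_le_VS hz
  obtain ⟨v, hv⟩ := hff.psurj ![0, 1]
  obtain ⟨s, hs, hsa⟩ := h.S_rho hρ (ψ ⟨z, hzV⟩ 0)
  have hw : s * v * s⁻¹ * (v : G)⁻¹ ∈ PSit.VS S := mul_mem (hVn.conj_mem v v.2 s) (inv_mem v.2)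
  have h1 := psi_comm hff s v ⟨_, hw⟩ rfl
  have hyc : s * v * s⁻¹ * (v : G)⁻¹ ∈ ⁅PSit.VS S, S⁆ := by
    have h3 : s * v * s⁻¹ * (v : G)⁻¹ = (⁅(v : G), s⁆)⁻¹ := by rw [commutatorElement_def]; group
    rw [h3]
    exact inv_mem (commutator_mem_commutator v.2 hs)
  refine ⟨_, hyc, quad h hff hρ hψ hyc, ?_⟩
  have h4 := (hff.pker (⟨_, hw⟩⁻¹ * ⟨z, hzV⟩)).1
  apply h4
  rw [hff.pmul, psi_inv hff, h1, hsa, up_mulVec]
  have h5 : ψ ⟨z, hzV⟩ 1 = 0 := (hψ ⟨z, hzV⟩).1 hz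
  have h60 : ψ v 0 = 0 := by rw [hv]; rfl
  have h61 : ψ v 1 = 1 := by rw [hv]; rfl
  ext i
  fin_cases i
  · change -(ψ v 0 + ψ ⟨z, hzV⟩ 0 * ψ v 1 - ψ v 0) + ψ ⟨z, hzV⟩ 0 = 0
    rw [h61]; ring
  · change -(ψ v 1 - ψ v 1) + ψ ⟨z, hzV⟩ 1 = 0
    rw [h5]; ring

/-- a torus element, for `q > 2` -/
theorem torus (h : PSit p S M π) (hq : 2 < Nat.card F) {ρ : G →* SL(2, F)} {ψ : PSit.VS S → (Fin 2 → F)}
    (hff : FFG p F S (pCore p G) ρ ψ) (hρ : ∀ g, pj F (ρ g) = π g)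
    (hψ : ∀ v : PSit.VS S, (v : G) ∈ PSit.ZS S ↔ ψ v 1 = 0) :
    ∃ t ∈ normalizer (S : Set G), ∀ z ∈ PSit.ZS S, t * z * t⁻¹ * z⁻¹ ∈ ⁅PSit.VS S, S⁆ ∧
      (t * z * t⁻¹ * z⁻¹ ∈ center G → z ∈ center G) := by
  have hVn : (PSit.VS S).Normal := inferInstance
  obtain ⟨s, hs0, hs1⟩ : ∃ s : F, s ≠ 0 ∧ s ≠ 1 := by
    by_contra hno
    push Not at hno
    have h1 : (Set.univ : Set F) ⊆ {0, 1} := by
      intro s _
      by_cases h2 : s = 0
      · left; exact h2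
      · right; exact hno s h2
    have h2 : Nat.card F ≤ 2 := by
      rw [← Set.ncard_univ]
      calc (Set.univ : Set F).ncard ≤ ({0, 1} : Set F).ncard := Set.ncard_le_ncard h1 (Set.toFinite _)
        _ ≤ ({1} : Set F).ncard + 1 := Set.ncard_insert_le _ _
        _ = 2 := by rw [Set.ncard_singleton]
    omega
  obtain ⟨g, hg, hgd⟩ := h.exists_torus hρ hff.surj hs0
  refine ⟨g, hg, fun z hz => ⟨?_, ?_⟩⟩
  · obtain ⟨y, hy, hyZ, hc⟩ := exists_comm h hff hρ hψ hz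
    have h1 : g * z * g⁻¹ * z⁻¹ = g * y * g⁻¹ * y⁻¹ := by
      have hc1 := mem_center_iff.mp hc
      have e : z = y * (y⁻¹ * z) := by group
      generalize hcc : y⁻¹ * z = c at *
      have h2 : g * c = c * g := hc1 g
      have h3 : y * c = c * y := hc1 y
      rw [e]
      calc g * (y * c) * g⁻¹ * (y * c)⁻¹ = g * y * (c * g⁻¹) * (c⁻¹ * y⁻¹) := by group
        _ = g * y * (g⁻¹ * c) * (c⁻¹ * y⁻¹) := by
            have : c * g⁻¹ = g⁻¹ * c := (hc1 g⁻¹).symm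
            rw [this]
        _ = g * y * g⁻¹ * y⁻¹ := by group
    rw [h1]
    have hn : g ∈ normalizer ((⁅PSit.VS S, S⁆ : Subgroup G) : Set G) := by
      refine (?_ : normalizer (S : Set G) ≤ _) hg
      exact H39.PuOne.normalizer_le_comm (by rw [normalizer_eq_top_iff.mpr hVn]; exact le_top) le_rfl
    exact mul_mem ((mem_normalizer_iff.mp hn y).mp hy) (inv_mem hy)
  · intro hc
    have hzV : z ∈ PSit.VS S := PSit.ZS_le_VS hz
    have hw : g * z * g⁻¹ * z⁻¹ ∈ PSit.VS S := mul_mem (hVn.conj_mem z hzV g) (inv_mem hzV)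
    have h1 := psi_comm hff g ⟨z, hzV⟩ ⟨_, hw⟩ rfl
    have h2 : ψ ⟨_, hw⟩ = 0 := (hff.pker ⟨_, hw⟩).2 hc
    have h3 := (hff.pker ⟨z, hzV⟩).1
    apply h3
    rw [h2, hgd] at h1
    have h4 : ψ ⟨z, hzV⟩ 1 = 0 := (hψ ⟨z, hzV⟩).1 hz
    have h5 := congrFun h1 0
    simp [dg_coe, Matrix.mulVec, dotProduct, Fin.sum_univ_two] at h5
    have h6 : (s - 1) * ψ ⟨z, hzV⟩ 0 = 0 := by linear_combination -h5
    have h7 : ψ ⟨z, hzV⟩ 0 = 0 := (mul_eq_zero.mp h6).resolve_left (sub_ne_zero.mpr hs1)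
    ext i
    fin_cases i
    · exact h7
    · exact h4

/-- the push-free local data -/
theorem loc (h : PSit p S M π) (hZ : ¬ (PSit.ZS S).Normal)
    {A : Subgroup G} (hA : MA S A) (hAQ : ¬ A ≤ pCore p G) (hZp : ∀ z ∈ PSit.ZS S, z ^ p = 1)
    {X : Type*} [Group X] [Finite X] (i : G →* X) (hi : Function.Injective i) :
    H52.PM.Loc p i.range (S.map i) ∧ (5 ≤ p → ∃ (t : X) (l m : ℕ), H51.PuB2.Torus p i.range (S.map i) t l m) := by
  obtain ⟨ρ, ψ, hff, hρ, hψ, key⟩ := h.exists_V hZ hA hAQ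
  have hS := isSyl_of_psit h
  refine ⟨?_, fun hp5 => H39.PuTor.torus_of h hp5 hff hρ hψ hS i hi⟩
  have hVr : Vf p i.range = (PSit.VS S).map i := Vf_range i hi hS
  have hQr : Qf p i.range = (pCore p G).map i := Qf_range i hi
  have hZr : Zf (S.map i) = (PSit.ZS S).map i := Zf_map i hi S
  have hVn : (PSit.VS S).Normal := inferInstance
  have hVpow : ∀ v ∈ PSit.VS S, v ^ p = 1 := by
    let T : Subgroup G :=
      { carrier := {v | v ∈ PSit.VS S ∧ v ^ p = 1}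
        one_mem' := ⟨one_mem _, one_pow p⟩
        mul_mem' := by
          rintro a b ⟨ha, ha'⟩ ⟨hb, hb'⟩
          have hc : Commute a b := commute_of_le_centralizer h.VS_comm hb ha
          exact ⟨mul_mem ha hb, by rw [hc.mul_pow, ha', hb', one_mul]⟩
        inv_mem' := by
          rintro a ⟨ha, ha'⟩
          exact ⟨inv_mem ha, by rw [inv_pow, ha', inv_one]⟩ }
    have hTn : T.Normal := by
      constructor
      rintro a ⟨ha, ha'⟩ g
      refine ⟨hVn.conj_mem a ha g, ?_⟩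
      rw [conj_pow, ha', mul_one, mul_inv_cancel]
    have h1 : PSit.VS S ≤ T := by
      apply normalClosure_le_normal
      intro z hz
      exact ⟨PSit.ZS_le_VS hz, hZp z hz⟩
    exact fun v hv => (h1 hv).2
  exact
    { syl := isSyl_map_range i hi hS
      ne_bot := by
        rw [Ne, map_eq_bot_iff_of_injective _ hi]
        exact S_ne_bot_of_psit h
      V_le := by
        rw [hQr, hVr]
        exact map_mono (h.VS_le.trans inf_le_left)
      Q_cent := by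
        rw [hQr, hVr]
        rintro _ ⟨q, hq, rfl⟩
        rw [mem_centralizer_iff]
        rintro _ ⟨v, hv, rfl⟩
        rw [← map_mul, ← map_mul, mem_centralizer_iff.mp (h.pCore_le_C hq) v hv]
      idx := by
        rw [hQr, hVr, hZr, relIndex_map_map_of_injective _ _ hi, relIndex_map_map_of_injective _ _ hi,
          hff.relV, hff.relS]
      key := by
        rw [hQr, hVr, hZr]
        rintro _ ⟨s, hs, rfl⟩ hsQ _ ⟨v, hv, rfl⟩ hc
        refine ⟨v, key s hs (fun h0 => hsQ ⟨s, h0, rfl⟩) v hv ?_, rfl⟩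
        rw [← mem_centralizer_range i hi]
        simpa [commutatorElement_def] using hc
      opp := by
        obtain ⟨x, hx⟩ := h.exists_opp
        refine ⟨i x, ⟨x, rfl⟩, ?_⟩
        have hx' : S ⊔ cj x S = ⊤ := hx
        rw [← map_cj, ← Subgroup.map_sup, hx', ← MonoidHom.range_eq_map]
      Q_ne_S := by
        intro h0
        rw [hQr] at h0
        have h1 : pCore p G = S := map_injective hi h0
        have h2 := h.relIndex_S
        rw [h1, relIndex_self] at h2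
        have := Finite.one_lt_card (α := F)
        omega
      quad := by
        rw [hVr, hZr, ← map_commutator]
        exact map_mono (quad h hff hρ hψ)
      V_pow := by
        rw [hVr]
        rintro _ ⟨v, hv, rfl⟩
        rw [← map_pow, hVpow v hv, map_one]
      S_pow := by
        rintro _ ⟨s, hs, rfl⟩
        rw [hQr, ← map_pow]
        exact ⟨_, pow_mem_of_psit h s hs, rfl⟩ }

/-- the torus element, unless `q = 2` -/
theorem tor (h : PSit p S M π) (hZ : ¬ (PSit.ZS S).Normal)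
    {A : Subgroup G} (hA : MA S A) (hAQ : ¬ A ≤ pCore p G) :
    (pCore p G).relIndex S = 2 ∨ ∃ t ∈ normalizer (S : Set G), ∀ z ∈ PSit.ZS S,
      t * z * t⁻¹ * z⁻¹ ∈ ⁅PSit.VS S, S⁆ ∧ (t * z * t⁻¹ * z⁻¹ ∈ center G → z ∈ center G) := by
  obtain ⟨ρ, ψ, hff, hρ, hψ, key⟩ := h.exists_V hZ hA hAQ
  by_cases hq : 2 < Nat.card F
  · exact Or.inr (torus h hq hff hρ hψ)
  · left
    have := Finite.one_lt_card (α := F)
    rw [h.relIndex_S]
    omega

end H39.PmOne
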