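import Cfsg.Agent.Lib.H39.PuTor
import Cfsg.Agent.Lib.H51.PuB2f
import Cfsg.Agent.Lib.H52.PuMain
import Cfsg.Agent.Lib.H52.PuB3

/-!
Rank one pushing up: if `p ≠ 3` then `b = 1`.
-/

set_option autoImplicit false

open Cfsg Subgroup Matrix H28.Cj H28.RelSyl H52.PU H53.PU
open scoped MatrixGroups commutatorElement

namespace H39.PuBOne

/-- `b = 1` means that some element normalising `S` moves `V` out of `Q` -/
theorem exists_normalizer_of_dist_one {X : Type*} [Group X] {p : ℕ} {G S α β : Subgroup X}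
    (hd : Dist G S 1 α β) (hn : ¬ Vf p α ≤ Qf p β) :
    ∃ n ∈ normalizer (S : Set X), ¬ Vf p G ≤ cj n (Qf p G) := by
  obtain ⟨β', ⟨rfl, -⟩, δ, ⟨x, rfl, hx⟩, ⟨y, rfl, hy⟩⟩ := hd
  refine ⟨x⁻¹ * y, ?_, ?_⟩
  · rw [mem_normalizer_iff_cj, ← cj_cj, ← hy, hx, cj_inv_cj]
  · intro hle
    apply hn
    rw [← cj_Vf, ← cj_Qf, cj_le_iff, cj_cj]
    exact hle

variable {p : ℕ} [hp : Fact p.Prime] {G : Type*} [Group G] [Finite G] {F : Type*} [Field F] [Finite F]
  {S M : Subgroup G} {π : G →* ProjectiveSpecialLinearGroup (Fin 2) F} {X : Type*} [Group X] [Finite X]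

/-- **`p ≠ 3 ⟹ b = 1`** -/
theorem main (h : PSit p S M π) (i : G →* X) (hi : Function.Injective i)
    (push : ∀ T : Subgroup X, T ≤ S.map i → i.range ≤ normalizer (T : Set X) →
      normalizer (S.map i : Set X) ≤ normalizer (T : Set X) → T = ⊥) (hp3 : p ≠ 3) :
    ∃ n ∈ normalizer (S.map i : Set X), ¬ Vf p i.range ≤ cj n (Qf p i.range) := by
  obtain ⟨hs, hpow, ρ, ψ, hff, hρ, hψ⟩ := setup_of_psit h i hi push
  obtain ⟨b, hb1, hM, hC⟩ := exists_min hs
  have hb2 := b_le_two hs hM hC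
  have hb : b = 1 := by
    by_contra hne
    have hb' : b = 2 := by omega
    subst hb'
    apply hp3
    exact (H51.PuB2.main hs hM (fun m n hmn => exists_path hs hM le_rfl hC m n hmn)
      (fun hp5 => H39.PuTor.torus_of h hp5 hff hρ hψ (isSyl_of_psit h) i hi)).1
  subst hb
  obtain ⟨α, β, hd, hn⟩ := hC
  exact exists_normalizer_of_dist_one hd hn

end H39.PuBOne
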