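import Mathlib
import Cfsg.Prelude.Def_PLocal
import Cfsg.Prelude.Def_LocalEven
import Cfsg.Agent.Lib.H51.Qd
import Cfsg.Agent.Lib.H51.Qd2
import Cfsg.Agent.Lib.H51.ZJSection
import Cfsg.Agent.Lib.H39.Sect
import Cfsg.Agent.Lib.H38.FamilyControl

set_option autoImplicit false

/-!
`Qd(2)` is the symmetric group of degree 4; families of functors do not control strong fusion in `Qd(p)`.
-/

namespace H39.QdTwo

open Cfsg H51.Qd Matrix
open scoped MatrixGroups

universe u

section action

variable {F : Type*} [Field F]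

/-- affine action -/
def aff (M : qdOver F) (v : F × F) : F × F :=
  ((M : SpecialLinearGroup (Fin 3) F).1 0 0 * v.1 + (M : SpecialLinearGroup (Fin 3) F).1 0 1 * v.2 +
      (M : SpecialLinearGroup (Fin 3) F).1 0 2,
    (M : SpecialLinearGroup (Fin 3) F).1 1 0 * v.1 + (M : SpecialLinearGroup (Fin 3) F).1 1 1 * v.2 +
      (M : SpecialLinearGroup (Fin 3) F).1 1 2)

theorem aff_mk (A : SL(2, F)) (a b : F) (v : F × F) :
    aff (H51.Qd.mk A a b) v = (A.1 0 0 * v.1 + A.1 0 1 * v.2 + a, A.1 1 0 * v.1 + A.1 1 1 * v.2 + b) := rfl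

theorem aff_one (v : F × F) : aff (1 : qdOver F) v = v := by
  rw [← mk_one, aff_mk]
  ext <;> simp

theorem aff_mul (M N : qdOver F) (v : F × F) : aff (M * N) v = aff M (aff N v) := by
  obtain ⟨A, a, b, rfl⟩ := exists_mk M
  obtain ⟨B, c, d, rfl⟩ := exists_mk N
  rw [mk_mul, aff_mk, aff_mk, aff_mk]
  have h : ∀ i j, (A * B).1 i j = A.1 i 0 * B.1 0 j + A.1 i 1 * B.1 1 j := by
    intro i j
    show (A.1 * B.1) i j = _
    rw [Matrix.mul_apply, Fin.sum_univ_two]
  rw [h, h, h, h]
  ext <;> simp <;> ring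

def affAct : MulAction (qdOver F) (F × F) where
  smul := aff
  one_smul := aff_one
  mul_smul := aff_mul

noncomputable def toPerm : qdOver F →* Equiv.Perm (F × F) := @MulAction.toPermHom (qdOver F) (F × F) _ affAct

theorem toPerm_apply (M : qdOver F) (v : F × F) : toPerm M v = aff M v := rfl

theorem toPerm_injective : Function.Injective (toPerm (F := F)) := by
  rw [injective_iff_map_eq_one]
  intro M hM
  obtain ⟨A, a, b, rfl⟩ := exists_mk M
  have h : ∀ v : F × F, aff (H51.Qd.mk A a b) v = v := fun v => by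
    rw [← toPerm_apply, hM]; rfl
  have h0 := h (0, 0)
  have h1 := h (1, 0)
  have h2 := h (0, 1)
  rw [aff_mk] at h0 h1 h2
  simp only [Prod.mk.injEq, mul_zero, zero_add, mul_one, add_zero] at h0 h1 h2
  obtain ⟨rfl, rfl⟩ := h0
  rw [← mk_one, mk_inj]
  refine ⟨?_, rfl, rfl⟩
  apply Subtype.ext
  ext i j
  fin_cases i <;> fin_cases j
  · simpa using h1.1
  · simpa using h2.1
  · simpa using h1.2
  · simpa using h2.2

/-- coordinates -/
noncomputable def coordEquiv : (SL(2, F) × F × F) ≃ qdOver F :=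
  Equiv.ofBijective (fun x => H51.Qd.mk x.1 x.2.1 x.2.2) (by
    constructor
    · rintro ⟨A, a, b⟩ ⟨B, c, d⟩ h
      obtain ⟨h1, h2, h3⟩ := mk_inj.1 h
      exact Prod.ext h1 (Prod.ext h2 h3)
    · intro M
      obtain ⟨A, a, b, rfl⟩ := exists_mk M
      exact ⟨(A, a, b), rfl⟩)

end action

theorem card_sl2 : Nat.card SL(2, ZMod 2) = 6 := by
  rw [Nat.card_eq_fintype_card]
  decide

theorem card_qd2 : Nat.card (qdOver (ZMod 2)) = 24 := by
  rw [← Nat.card_congr (coordEquiv (F := ZMod 2)), Nat.card_prod, Nat.card_prod, card_sl2]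
  simp

theorem equiv : Nonempty (↥(qd 2) ≃* Equiv.Perm (Fin 4)) := by
  have h1 : Function.Bijective (toPerm (F := ZMod 2)) := by
    rw [Nat.bijective_iff_injective_and_card]
    refine ⟨toPerm_injective, ?_⟩
    rw [card_qd2, Nat.card_eq_fintype_card, Fintype.card_perm]
    simp [Nat.factorial]
  have e1 : ↥(qd 2) ≃* Equiv.Perm (ZMod 2 × ZMod 2) := MulEquiv.ofBijective (toPerm (F := ZMod 2)) h1
  have e2 : ZMod 2 × ZMod 2 ≃ Fin 4 := Fintype.equivOfCardEq (by simp)
  exact ⟨e1.trans e2.permCongrHom⟩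

/-- in `Qd(F)` the normalizer of every nontrivial characteristic subgroup of a Sylow `p`-subgroup is the normalizer of
the Sylow `p`-subgroup -/
theorem normalizer_eq {p : ℕ} [hp : Fact p.Prime] {F : Type*} [Field F] [Fintype F] [CharP F p] {X : Type*} [Group X]
    [Finite X] (e : X ≃* qdOver F) (T : Sylow p X) {U : Subgroup X} (hUT : U ≤ (T : Subgroup X)) (hU1 : U ≠ ⊥)
    (hchar : (U.subgroupOf (T : Subgroup X)).Characteristic) :
    Subgroup.normalizer (U : Set X) = Subgroup.normalizer ((T : Subgroup X) : Set X) ∧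
      Subgroup.normalizer ((T : Subgroup X) : Set X) ≠ ⊤ := by
  let S : Sylow p (qdOver F) := T.mapSurjective (f := e.toMonoidHom) e.surjective
  have hS : (S : Subgroup (qdOver F)) = (T : Subgroup X).map e.toMonoidHom := rfl
  let ε : (T : Subgroup X) ≃* (S : Subgroup (qdOver F)) := (T : Subgroup X).equivMapOfInjective e.toMonoidHom e.injective
  have hε : ∀ t : (T : Subgroup X), ((ε t : (S : Subgroup (qdOver F))) : qdOver F) = e t := fun t => rfl
  have hεU : ((U.map e.toMonoidHom).subgroupOf (S : Subgroup (qdOver F))) = (U.subgroupOf (T : Subgroup X)).map ε.toMonoidHom := by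
    ext y
    obtain ⟨t, rfl⟩ := ε.surjective y
    rw [Subgroup.mem_subgroupOf, hε]
    constructor
    · rintro ⟨u, hu, hue⟩
      have : u = t := e.injective hue
      subst this
      exact ⟨t, hu, rfl⟩
    · rintro ⟨t', ht', hte⟩
      have : t' = t := ε.injective hte
      subst this
      exact ⟨t', ht', rfl⟩
  have hch2 : ((U.map e.toMonoidHom).subgroupOf (S : Subgroup (qdOver F))).Characteristic := by
    rw [hεU]
    rw [Subgroup.characteristic_iff_map_eq] at hchar ⊢
    intro φ
    have h1 := hchar (ε.trans (φ.trans ε.symm))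
    have h2 : (ε.trans (φ.trans ε.symm)).toMonoidHom = (ε.symm.toMonoidHom.comp (φ.toMonoidHom.comp ε.toMonoidHom)) := rfl
    rw [h2, ← Subgroup.map_map, ← Subgroup.map_map] at h1
    have h3 := congrArg (Subgroup.map ε.toMonoidHom) h1
    rw [Subgroup.map_map] at h3
    have h4 : ε.toMonoidHom.comp ε.symm.toMonoidHom = MonoidHom.id _ := by
      ext y; simp
    rw [h4, Subgroup.map_id] at h3
    exact h3
  have hUS : U.map e.toMonoidHom ≤ (S : Subgroup (qdOver F)) := Subgroup.map_mono hUT
  have hmap : ((U.map e.toMonoidHom).subgroupOf (S : Subgroup (qdOver F))).map (S : Subgroup (qdOver F)).subtype =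
      U.map e.toMonoidHom := Subgroup.map_subgroupOf_eq_of_le hUS
  have hne : (U.map e.toMonoidHom).subgroupOf (S : Subgroup (qdOver F)) ≠ ⊥ := by
    intro h
    rw [h, Subgroup.map_bot] at hmap
    exact hU1 ((Subgroup.map_eq_bot_iff_of_injective _ e.injective).1 hmap.symm)
  obtain ⟨h1, h2⟩ := H51.Qd2.normalizer_char_eq p S _ hne hch2
  rw [hmap] at h1
  have hN : ∀ A : Subgroup X, (Subgroup.normalizer ((A.map e.toMonoidHom : Subgroup (qdOver F)) : Set (qdOver F))) =
      (Subgroup.normalizer (A : Set X)).map e.toMonoidHom := fun A => (Subgroup.map_equiv_normalizer_eq A e).symm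
  have hinj : Function.Injective (Subgroup.map e.toMonoidHom) := Subgroup.map_injective e.injective
  refine ⟨?_, ?_⟩
  · apply hinj
    rw [← hN, ← hN, h1]
    rfl
  · intro h
    apply h2
    have : Subgroup.normalizer ((S : Subgroup (qdOver F)) : Set (qdOver F)) =
        (Subgroup.normalizer ((T : Subgroup X) : Set X)).map e.toMonoidHom := hN _
    rw [this, h, Subgroup.map_top_of_surjective _ e.surjective]

/-- no family of characteristic functors controls strong fusion in `Qd(F)` -/
theorem not_family {p : ℕ} [hp : Fact p.Prime] {F : Type*} [Field F] [Fintype F] [CharP F p] {X : Type u} [Group X]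
    [Finite X] (e : X ≃* qdOver F) (𝓦 : Set (∀ (Q : Type u) [Group Q], Subgroup Q))
    (h𝓦 : ∀ W ∈ 𝓦, IsCharPFunctor.{u} p W) :
    ¬ FamilyControlsStrongFusionIn p ((fun W => inducedFunctor (G := X) W) '' 𝓦) ⊤ := by
  intro hfam
  obtain ⟨T⟩ : Nonempty (Sylow p X) := inferInstance
  rw [H38.FamilyControl.familyControls_iff (by
    rintro _ ⟨W, hW, rfl⟩
    exact H39.Sect.ind_isConjugacyFunctor (h𝓦 W hW)) (H38.Basic.isSyl_sylow T)] at hfam
  let V : Subgroup X := ((lin (F := F)).ker).comap e.toMonoidHom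
  have hVn : V.Normal := inferInstance
  have hVp : IsPGroup p V := (isPGroup_ker p).comap_of_injective e.toMonoidHom e.injective
  have hVT : V ≤ (T : Subgroup X) := (H13.Cores.le_pCore hVn hVp).trans (H13.Cores.pCore_le_sylow T)
  have hV1 : V ≠ ⊥ := by
    intro h
    have h2 : e.symm (tr 1 0) ∈ V := by
      show e (e.symm (tr 1 0)) ∈ (lin (F := F)).ker
      rw [e.apply_symm_apply]
      exact mem_ker_lin.2 ⟨1, 0, rfl⟩
    rw [h, Subgroup.mem_bot, MulEquiv.symm_apply_eq, map_one, ← tr_zero, tr, tr, mk_inj] at h2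
    exact one_ne_zero h2.2.1
  -- `C(V) ≤ V`
  have hCV : Subgroup.centralizer (V : Set X) ≤ V := by
    intro k hj
    show e k ∈ (lin (F := F)).ker
    rw [Subgroup.mem_centralizer_iff] at hj
    obtain ⟨B, c, d, hBcd⟩ := exists_mk (e k)
    have h2 : ∀ a b : F, tr a b * H51.Qd.mk B c d = H51.Qd.mk B c d * tr a b := by
      intro a b
      have h3 := hj (e.symm (tr a b)) (by
        show e (e.symm (tr a b)) ∈ (lin (F := F)).ker
        rw [e.apply_symm_apply]
        exact mem_ker_lin.2 ⟨a, b, rfl⟩)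
      have h4 := congrArg e h3
      rw [map_mul, map_mul, e.apply_symm_apply, hBcd] at h4
      exact h4
    have h5 := h2 1 0
    have h6 := h2 0 1
    rw [tr, mk_mul, mk_mul, mk_inj] at h5 h6
    simp at h5 h6
    rw [hBcd, MonoidHom.mem_ker, lin_mk]
    have e1 : B.1 0 0 = 1 := by linear_combination -h5.1
    have e2 : B.1 1 1 = 1 := by linear_combination -h6.2
    apply Subtype.ext
    ext i j
    fin_cases i <;> fin_cases j <;> simp [e1, e2, h5.2, h6.1]
  have hTne : (T : Subgroup X) ≠ ⊥ := fun h => hV1 (le_bot_iff.1 (hVT.trans h.le))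
  have hchT : ((T : Subgroup X).subgroupOf (T : Subgroup X)).Characteristic := by
    rw [Subgroup.subgroupOf_self]; infer_instance
  have hne := (normalizer_eq e T le_rfl hTne hchT).2
  apply hne
  rw [eq_top_iff]
  intro g _
  obtain ⟨k, hk, hkV⟩ := hfam (V : Set X) g (Subgroup.mem_top g) hVT (by
    rintro _ ⟨a, ha, rfl⟩
    exact hVT (hVn.conj_mem a ha g))
  have hkN : k ∈ Subgroup.normalizer ((T : Subgroup X) : Set X) := by
    clear hkV
    induction hk with
    | nil _ => exact one_mem _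
    | snoc x g hx _ _ ih =>
      refine mul_mem ?_ ih
      obtain ⟨_, ⟨W, hW, rfl⟩, hxW⟩ := hx
      have h1 := (Subgroup.mem_inf.1 hxW).2
      have hW' := h𝓦 W hW
      rw [(normalizer_eq e T (H39.Sect.ind_le W _) ?_ (H51.ZJSection.char_induced hW' _ T.isPGroup')).1] at h1
      · exact h1
      · exact H38.Functor.W_ne_bot (H39.Sect.ind_isConjugacyFunctor hW') T.isPGroup' hTne
  have h1 : k⁻¹ * g ∈ Subgroup.centralizer (V : Set X) := by
    rw [Subgroup.mem_centralizer_iff]
    intro a ha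
    have h2 := hkV a ha
    calc a * (k⁻¹ * g) = k⁻¹ * (k * a * k⁻¹) * g := by group
      _ = k⁻¹ * (g * a * g⁻¹) * g := by rw [h2]
      _ = k⁻¹ * g * a := by group
  have h2 : k⁻¹ * g ∈ Subgroup.normalizer ((T : Subgroup X) : Set X) := Subgroup.le_normalizer (hVT (hCV h1))
  have h3 := (Subgroup.normalizer ((T : Subgroup X) : Set X)).mul_mem hkN h2
  rwa [mul_inv_cancel_left] at h3

end H39.QdTwo
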